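import Groth.Agent.LefPenLib.Hyp
import Groth.Agent.ModPairLib.Basic
import Groth.Agent.ZetaLib.ProjPoints

/-!
# Charts of hypersurface sections of an embedded scheme
-/

universe u

open CategoryTheory AlgebraicGeometry Opposite TopologicalSpace
open HomogeneousLocalization (Away)

namespace Groth.Agent.LefPenLib

noncomputable section

variable {r : ℕ} {k : Type u} [Field k]

local notation "𝒜" => CohB1.polyGrading r k

theorem dehom_eq {d : ℕ} (G : LefPen.Form r k d) (j : Fin (r + 1)) :
    LefPen.dehom G j = (Proj.awayToSection 𝒜 (MvPolynomial.X j)).hom (ZetaLib.dehom r k j G.1) := by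
  refine congrArg (Proj.awayToSection 𝒜 (MvPolynomial.X j)).hom (HomogeneousLocalization.val_injective _ ?_)
  have hu : IsUnit (algebraMap (MvPolynomial (Fin (r + 1)) k)
      (Localization (Submonoid.powers (MvPolynomial.X j : MvPolynomial (Fin (r + 1)) k))) (MvPolynomial.X j) ^ d) :=
    (IsLocalization.map_units _ (⟨MvPolynomial.X j, 1, pow_one _⟩ :
      Submonoid.powers (MvPolynomial.X j : MvPolynomial (Fin (r + 1)) k))).pow d
  refine hu.mul_left_injective ?_
  show _ * _ = _ * _
  rw [ZetaLib.val_dehom_mul r k j ((MvPolynomial.mem_homogeneousSubmodule d G.1).1 G.2),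
    HomogeneousLocalization.Away.val_mk, ← map_pow, ← Localization.mk_one_eq_algebraMap,
    ← Localization.mk_one_eq_algebraMap, Localization.mk_mul, Localization.mk_eq_mk_iff,
    Localization.r_iff_exists]
  exact ⟨1, by simp [mul_comm]⟩

theorem chart_fromSpec_toSpec (j : Fin (r + 1)) :
    (isAffineOpen_chart j).fromSpec ≫ CohB1.ProjSpace.toSpec r k =
      Spec.map (CommRingCat.ofHom (ZetaLib.base r k j) ≫ Proj.awayToSection 𝒜 (MvPolynomial.X j)) := by
  rw [Spec.map_comp, ← ZetaLib.chart_toSpec, ← Category.assoc]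
  congr 1
  show (isAffineOpen_chart j).isoSpec.inv ≫ (LefPen.chart r k j).ι = Spec.map _ ≫
    (Proj.basicOpenIsoSpec 𝒜 _ _ _).inv ≫ (Proj.basicOpen 𝒜 _).ι
  rw [← Category.assoc (Spec.map _)]
  congr 1
  refine (Iso.eq_comp_inv _).2 ((Iso.inv_comp_eq _).2 ?_)
  rfl

variable {X : Scheme.{u}} (i : X ⟶ CohB1.ProjSpace r k) [IsClosedImmersion i]

/-- the chart of `X` -/
abbrev chartX (j : Fin (r + 1)) : X.Opens := i ⁻¹ᵁ LefPen.chart r k j

theorem isAffineOpen_chartX (j : Fin (r + 1)) : IsAffineOpen (chartX i j) := (isAffineOpen_chart j).preimage i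

/-- the chart of `X` as an affine open -/
abbrev chartXA (j : Fin (r + 1)) : X.affineOpens := ⟨chartX i j, isAffineOpen_chartX i j⟩

/-- restriction of polynomials to the chart of `X` (setting `T_j = 1`) -/
def psiHom (j : Fin (r + 1)) : MvPolynomial (Fin (r + 1)) k →+* Γ(X, chartX i j) :=
  (i.app (LefPen.chart r k j)).hom.comp
    ((Proj.awayToSection 𝒜 (MvPolynomial.X j)).hom.comp (ZetaLib.dehom r k j))

instance chartAlgebra (j : Fin (r + 1)) : Algebra k Γ(X, chartX i j) :=
  ((psiHom i j).comp MvPolynomial.C).toAlgebra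

/-- restriction of polynomials to the chart of `X`, as an algebra map -/
def psi (j : Fin (r + 1)) : MvPolynomial (Fin (r + 1)) k →ₐ[k] Γ(X, chartX i j) :=
  { psiHom i j with commutes' := fun _ => rfl }

theorem psi_apply (j : Fin (r + 1)) (P : MvPolynomial (Fin (r + 1)) k) : psi i j P = psiHom i j P := rfl

theorem psi_surjective (j : Fin (r + 1)) : Function.Surjective (psi i j) := by
  have h2 : Function.Surjective (Proj.awayToSection 𝒜 (MvPolynomial.X j)).hom :=
    (ConcreteCategory.bijective_of_isIso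
      (Proj.basicOpenIsoAway 𝒜 _ (LefPen.X_mem r k j) Nat.one_pos).hom).2
  exact (i.app_surjective _ (isAffineOpen_chart j)).comp (h2.comp (ZetaLib.surjective_dehom r k j))

theorem psi_X_self (j : Fin (r + 1)) : psi i j (MvPolynomial.X j) = 1 := by
  have h : ZetaLib.dehom r k j (MvPolynomial.X j) = 1 := by
    refine HomogeneousLocalization.val_injective _ ?_
    have hu : IsUnit (algebraMap (MvPolynomial (Fin (r + 1)) k)
        (Localization (Submonoid.powers (MvPolynomial.X j : MvPolynomial (Fin (r + 1)) k))) (MvPolynomial.X j) ^ 1) :=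
      (IsLocalization.map_units _ (⟨MvPolynomial.X j, 1, pow_one _⟩ :
        Submonoid.powers (MvPolynomial.X j : MvPolynomial (Fin (r + 1)) k))).pow 1
    refine hu.mul_left_injective ?_
    show _ * _ = _ * _
    rw [ZetaLib.val_dehom_mul r k j (MvPolynomial.isHomogeneous_X k j), HomogeneousLocalization.val_one,
      one_mul, pow_one]
  show ((i.app (LefPen.chart r k j)).hom.comp (Proj.awayToSection 𝒜 (MvPolynomial.X j)).hom)
    (ZetaLib.dehom r k j (MvPolynomial.X j)) = 1
  rw [h]
  exact map_one _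

theorem app_dehom {d : ℕ} (G : LefPen.Form r k d) (j : Fin (r + 1)) :
    (i.app (LefPen.chart r k j)).hom (LefPen.dehom G j) = psi i j G.1 := by
  rw [dehom_eq]; rfl

/-- The ideal of a section on a chart is generated by the dehomogenised equations. -/
theorem secIdeal_chart {d : ℕ} (s : Set (LefPen.Form r k d)) (j : Fin (r + 1)) :
    (LefPen.secIdeal i s).ideal (chartXA i j) = Ideal.span ((fun G => psi i j G.1) '' s) := by
  have h : ∀ G : LefPen.Form r k d, ((LefPen.hypIdeal G).ideal (chartA j)).map (i.app (LefPen.chart r k j)).hom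
      = Ideal.span {psi i j G.1} := fun G => by
    refine (congrArg (Ideal.map (i.app (LefPen.chart r k j)).hom) (hypIdeal_chart G j)).trans ?_
    erw [Ideal.map_span, Set.image_singleton]
    rw [← app_dehom]
  rw [LefPen.secIdeal, ModPairLib.ideal_comap _ i (chartA j) (chartXA i j) le_rfl]
  have e : i.appLE (chartA j).1 (chartX i j) le_rfl = i.app (LefPen.chart r k j) := i.appLE_eq_app
  simp only [Scheme.IdealSheafData.ideal_iSup, iSup_apply, Ideal.map_iSup]
  rw [Ideal.span, Submodule.span_eq_iSup_of_singleton_spans, iSup_image]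
  refine iSup_congr fun G => ?_
  by_cases hG : G ∈ s
  · rw [iSup_pos hG, iSup_pos hG, e]
    exact h G
  · rw [iSup_neg hG, iSup_neg hG]
    exact Ideal.map_bot

theorem chartX_fromSpec_toSpec (j : Fin (r + 1)) :
    (isAffineOpen_chartX i j).fromSpec ≫ i ≫ CohB1.ProjSpace.toSpec r k =
      Spec.map (CommRingCat.ofHom (algebraMap k Γ(X, chartX i j))) := by
  rw [← Category.assoc, ← IsAffineOpen.SpecMap_appLE_fromSpec i (isAffineOpen_chart j) (isAffineOpen_chartX i j)
    le_rfl, Category.assoc, chart_fromSpec_toSpec]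
  erw [← Spec.map_comp]
  congr 1
  rw [show i.appLE (LefPen.chart r k j) (chartX i j) le_rfl = i.app _ from i.appLE_eq_app]
  ext c
  show _ = psiHom i j (MvPolynomial.C c)
  show (i.app (LefPen.chart r k j)).hom ((Proj.awayToSection 𝒜 (MvPolynomial.X j)).hom (ZetaLib.base r k j c)) =
    (i.app (LefPen.chart r k j)).hom ((Proj.awayToSection 𝒜 (MvPolynomial.X j)).hom (ZetaLib.dehom r k j (MvPolynomial.C c)))
  congr 2
  exact (MvPolynomial.eval₂Hom_C _ _ _).symm

theorem iSup_chartX : ⨆ j, chartX i j = ⊤ := by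
  refine top_le_iff.1 fun x _ => ?_
  obtain ⟨j, hj⟩ := ZetaLib.exists_mem_chart (n := r) (k := k) (i x)
  exact Opens.mem_iSup.2 ⟨j, (ZetaLib.mem_range_chart j _).1 hj⟩

/-- The affine pieces of a closed subscheme of `X`. -/
def subCover (I : X.IdealSheafData) : I.subscheme.OpenCover :=
  I.subscheme.openCoverOfIsOpenCover (fun j : ULift.{u} (Fin (r + 1)) => I.subschemeι ⁻¹ᵁ chartX i j.down)
    (by
      refine IsOpenCover.mk (top_le_iff.1 fun x _ => ?_)
      obtain ⟨j, hj⟩ := Opens.mem_iSup.1 ((iSup_chartX i).symm ▸ Opens.mem_top (I.subschemeι x))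
      exact Opens.mem_iSup.2 ⟨⟨j⟩, hj⟩)

theorem piece_toSpec (I : X.IdealSheafData) (j : Fin (r + 1)) :
    I.subschemeCover.f (chartXA i j) ≫ I.subschemeι ≫ i ≫ CohB1.ProjSpace.toSpec r k =
      Spec.map (CommRingCat.ofHom
        ((Ideal.Quotient.mk (I.ideal (chartXA i j))).comp (algebraMap k Γ(X, chartX i j)))) := by
  refine ((Category.assoc _ _ _).symm.trans (congrArg (· ≫ i ≫ CohB1.ProjSpace.toSpec r k)
    (I.subschemeCover_map_subschemeι (chartXA i j)))).trans ?_
  show ((Spec.map (CommRingCat.ofHom (Ideal.Quotient.mk (I.ideal (chartXA i j)))) ≫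
    (isAffineOpen_chartX i j).isoSpec.inv) ≫ (chartX i j).ι) ≫ i ≫ CohB1.ProjSpace.toSpec r k = _
  rw [Category.assoc (Spec.map _), IsAffineOpen.isoSpec_inv_ι, Category.assoc, chartX_fromSpec_toSpec]
  exact (Spec.map_comp _ _).symm

theorem isZariskiLocal_iff {P : MorphismProperty Scheme.{u}} [IsZariskiLocalAtSource P] [P.RespectsIso]
    (I : X.IdealSheafData) :
    P (I.subschemeι ≫ i ≫ CohB1.ProjSpace.toSpec r k) ↔
      ∀ j : Fin (r + 1), P (Spec.map (CommRingCat.ofHom
        ((Ideal.Quotient.mk (I.ideal (chartXA i j))).comp (algebraMap k Γ(X, chartX i j))))) := by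
  rw [IsZariskiLocalAtSource.iff_of_openCover (P := P) (subCover i I)]
  have key : ∀ j : Fin (r + 1), ∃ φ : Spec (I.subschemeCover.X (chartXA i j)) ≅ (subCover i I).X ⟨j⟩,
      φ.hom ≫ (subCover i I).f ⟨j⟩ ≫ I.subschemeι ≫ i ≫ CohB1.ProjSpace.toSpec r k =
        Spec.map (CommRingCat.ofHom
          ((Ideal.Quotient.mk (I.ideal (chartXA i j))).comp (algebraMap k Γ(X, chartX i j)))) := fun j => by
    let U : I.subscheme.Opens := I.subschemeι ⁻¹ᵁ chartX i j
    let f : Spec (I.subschemeCover.X (chartXA i j)) ⟶ I.subscheme := I.subschemeCover.f (chartXA i j)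
    haveI : IsOpenImmersion f := I.subschemeCover.map_prop _
    haveI : IsOpenImmersion U.ι := U.instIsOpenImmersionι
    let φ₀ : Spec (I.subschemeCover.X (chartXA i j)) ≅ (U : Scheme.{u}) := IsOpenImmersion.isoOfRangeEq f U.ι
      ((congrArg SetLike.coe (I.opensRange_subschemeCover_map (chartXA i j))).trans U.range_ι.symm)
    refine ⟨φ₀, ?_⟩
    refine Eq.trans ?_ (piece_toSpec i I j)
    exact (Category.assoc _ _ _).symm.trans (congrArg (· ≫ I.subschemeι ≫ i ≫ CohB1.ProjSpace.toSpec r k)
      (IsOpenImmersion.isoOfRangeEq_hom_fac f U.ι _))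
  refine ⟨fun h j => ?_, fun h j => ?_⟩
  · obtain ⟨φ, hφ⟩ := key j
    exact hφ ▸ (MorphismProperty.cancel_left_of_respectsIso P φ.hom _).2 (h ⟨j⟩)
  · obtain ⟨j⟩ := j
    obtain ⟨φ, hφ⟩ := key j
    exact (MorphismProperty.cancel_left_of_respectsIso P φ.hom _).1 (hφ.symm ▸ h j)

/-- The ideal of an empty section is trivial on all charts. -/
theorem isEmpty_subscheme_iff (I : X.IdealSheafData) :
    IsEmpty I.subscheme ↔ ∀ j : Fin (r + 1), I.ideal (chartXA i j) = ⊤ := by
  constructor
  · intro h j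
    have : I = ⊤ := by
      have h' := (I.subschemeι).ker_eq_top_iff_isEmpty.2 h
      rwa [Scheme.IdealSheafData.ker_subschemeι] at h'
    rw [this]; rfl
  · intro h
    refine ⟨fun x => ?_⟩
    obtain ⟨⟨j⟩, y, -⟩ := (subCover i I).exists_eq x
    have e : (I.subschemeCover.f (chartXA i j)).opensRange = I.subschemeι ⁻¹ᵁ chartX i j :=
      I.opensRange_subschemeCover_map (chartXA i j)
    have hy : (y : (I.subschemeι ⁻¹ᵁ chartX i j : I.subscheme.Opens)).1 ∈
        (I.subschemeCover.f (chartXA i j)).opensRange := e.ge y.2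
    obtain ⟨z, -⟩ := hy
    haveI : Subsingleton (Γ(X, chartX i j) ⧸ I.ideal (chartXA i j)) := Ideal.Quotient.subsingleton_iff.2 (h j)
    exact (inferInstance : IsEmpty (PrimeSpectrum (Γ(X, chartX i j) ⧸ I.ideal (chartXA i j)))).false z

end

end Groth.Agent.LefPenLib
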