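import Groth.Agent.LefPenLib.SecPt
import Groth.Agent.CurvOpenLib.ProjSp
import Groth.Agent.FlatFibres.AffineDim
import Mathlib.AlgebraicGeometry.Morphisms.Smooth

/-!
# Smooth projective quadrics and ordinary quadratic forms
-/

universe u

open CategoryTheory AlgebraicGeometry Opposite TopologicalSpace

namespace Groth.Agent.LefPenLib

noncomputable section

variable {m : ℕ} {k : Type u} [Field k]

theorem smoothOfRelativeDimension_projSpace :
    SmoothOfRelativeDimension m (CohB1.ProjSpace.toSpec m k) := by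
  open Groth.Agent.CurvOpenLib.ProjSp in
  refine IsZariskiLocalAtSource.of_iSup_eq_top (P := @SmoothOfRelativeDimension m) (fun i => (chart m k i).opensRange) ?_ fun i => ?_
  · refine top_le_iff.1 fun x _ => ?_
    obtain ⟨i, hi⟩ := exists_mem_chart m k x
    exact TopologicalSpace.Opens.mem_iSup.2 ⟨i, hi⟩
  rw [← Scheme.Hom.isoOpensRange_inv_comp, Category.assoc, chart_toSpec,
    MorphismProperty.cancel_left_of_respectsIso (P := @SmoothOfRelativeDimension m)]
  rw [HasRingHomProperty.Spec_iff (P := @SmoothOfRelativeDimension m), CommRingCat.hom_ofHom]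
  haveI : Algebra.IsStandardSmoothOfRelativeDimension m k (MvPolynomial (Idx m i) k) := by
    have h := FlatFibres.isStandardSmoothOfRelativeDimension_mvPolynomial k (Idx m i)
    simpa [Nat.card_eq_fintype_card, Fintype.card_subtype_compl] using h
  have h : base m k i = (fromChart m k i).comp MvPolynomial.C :=
    RingHom.ext fun c => (MvPolynomial.eval₂Hom_C _ _ c).symm
  rw [h]
  let e := RingEquiv.ofBijective (fromChart m k i) ⟨fromChart_injective m k i, fromChart_surjective m k i⟩
  refine (RingHom.locally_respectsIso RingHom.isStandardSmoothOfRelativeDimension_respectsIso).1 _ e ?_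
  exact RingHom.locally_of RingHom.isStandardSmoothOfRelativeDimension_respectsIso _
    ((RingHom.isStandardSmoothOfRelativeDimension_algebraMap _).2 (inferInstance : Algebra.IsStandardSmoothOfRelativeDimension m k (MvPolynomial (Idx m i) k)))

theorem eq_zero_of_psi_id {e : ℕ} {Q : MvPolynomial (Fin (m + 1)) k} (hQ : Q.IsHomogeneous e) (j : Fin (m + 1))
    (h : psi (𝟙 (CohB1.ProjSpace m k)) j Q = 0) : Q = 0 := by
  have h' : ZetaLib.dehom m k j Q = 0 := by
    refine (ConcreteCategory.bijective_of_isIso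
      (Proj.basicOpenIsoAway (CohB1.polyGrading m k) _ (LefPen.X_mem m k j) Nat.one_pos).hom).1 ?_
    refine Eq.trans ?_ (map_zero _).symm
    exact h
  have h2 := ZetaLib.val_dehom_mul m k j hQ
  rw [h', HomogeneousLocalization.val_zero, zero_mul] at h2
  exact (IsLocalization.injective (Localization (Submonoid.powers (MvPolynomial.X j : MvPolynomial (Fin (m + 1)) k)))
    (powers_le_nonZeroDivisors_of_noZeroDivisors (MvPolynomial.X_ne_zero j))) (h2.symm.trans (map_zero _).symm)

theorem secIdeal_id (G : LefPen.Form m k 2) :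
    LefPen.secIdeal (𝟙 (CohB1.ProjSpace m k)) ({G} : Set (LefPen.Form m k 2)) = LefPen.hypIdeal G := by
  simp [LefPen.secIdeal]

/-- the coefficient table of a form -/
theorem eval_of_isQuadPart {Q : MvPowerSeries (Fin (m + 1)) k} {Q₂ : LefPen.Form m k 2}
    (h : LefPen.IsQuadPart k Q Q₂) :
    Q₂.1 = VanCyc.quadPoly (VanCyc.quadPart Q) := by
  classical
  refine MvPolynomial.ext _ _ fun e => ?_
  have hcoe : ∀ a b : Fin (m + 1), (MvPolynomial.X a * MvPolynomial.X b : MvPolynomial (Fin (m + 1)) k) =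
      MvPolynomial.monomial (Finsupp.single a 1 + Finsupp.single b 1) 1 := fun a b => by
    simp [MvPolynomial.X, MvPolynomial.monomial_mul]
  simp only [VanCyc.quadPoly, MvPolynomial.coeff_sum, apply_ite (MvPolynomial.coeff e), MvPolynomial.coeff_zero,
    mul_assoc, hcoe, MvPolynomial.coeff_C_mul, MvPolynomial.coeff_monomial, mul_ite, mul_one, mul_zero]
  by_cases he : e.degree = 2
  · obtain ⟨a, b, hab, rfl⟩ : ∃ a b, a ≤ b ∧ e = Finsupp.single a 1 + Finsupp.single b 1 := by
      rcases PSQuad.degree_le_two_cases he.le with rfl | ⟨a, rfl⟩ | ⟨a, b, hab, rfl⟩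
      · simp at he
      · simp [Finsupp.degree_single] at he
      · rcases le_total a b with hle | hle
        · exact ⟨a, b, hle, rfl⟩
        · exact ⟨b, a, hle, add_comm _ _⟩
    rw [h _ he, Finset.sum_eq_single a, Finset.sum_eq_single b, if_pos hab, if_pos rfl]
    · simp only [VanCyc.quadPart]
      rcases eq_or_lt_of_le hab with rfl | hlt
      · rw [if_pos rfl, ← Finsupp.single_add]
      · rw [if_neg hlt.ne, if_pos hlt]
    · intro b' _ hb'
      split_ifs with h1 h2
      · exact absurd (add_left_cancel h2) (fun h3 => hb' (Finsupp.single_left_injective one_ne_zero h3))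
      · rfl
      · rfl
    · simp
    · intro a' _ ha'
      refine Finset.sum_eq_zero fun b' _ => ?_
      split_ifs with h1 h2
      · exfalso
        have e1 := DFunLike.congr_fun h2 a
        have e2 := DFunLike.congr_fun h2 b
        simp only [Finsupp.add_apply, Finsupp.single_apply] at e1 e2
        split_ifs at e1 e2 <;> subst_vars <;> first | omega | exact ha' rfl | exact absurd (le_antisymm h1 hab) ha' | exact absurd (le_antisymm hab h1) (fun h4 => ha' h4.symm) | exact absurd (le_antisymm h1 hab) (fun h4 => ha' h4.symm)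
      · rfl
      · rfl
    · simp
  · have h1 : MvPolynomial.coeff e Q₂.1 = 0 :=
      ((MvPolynomial.mem_homogeneousSubmodule 2 _).1 Q₂.2).coeff_eq_zero he
    rw [h1]
    refine (Finset.sum_eq_zero fun a _ => Finset.sum_eq_zero fun b _ => ?_).symm
    split_ifs with h2 h3
    · exact absurd (by rw [← h3]; simp [map_add, Finsupp.degree_single]) he
    · rfl
    · rfl

theorem eval_pderiv_quadPoly {N : ℕ} (a : Fin N → Fin N → k) (v : Fin N → k) (i : Fin N) :
    MvPolynomial.eval v (MvPolynomial.pderiv i (VanCyc.quadPoly a)) = (VanCyc.polarMatrix a).mulVec v i := by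
  classical
  have h : ∀ p q, MvPolynomial.eval v (MvPolynomial.pderiv i
      (if p ≤ q then MvPolynomial.C (a p q) * MvPolynomial.X p * MvPolynomial.X q else 0)) =
      (if p ≤ q ∧ p = i then a p q * v q else 0) + if p ≤ q ∧ q = i then a p q * v p else 0 := fun p q => by
    by_cases hpq : p ≤ q
    · simp [hpq, MvPolynomial.pderiv_mul, MvPolynomial.pderiv_X, Pi.single_apply,
        apply_ite (MvPolynomial.eval v), eq_comm]
      split_ifs <;> ring
    · simp [hpq]
  simp only [VanCyc.quadPoly, map_sum, h, Matrix.mulVec, dotProduct, Finset.sum_add_distrib]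
  have h1 : (∑ p, ∑ q, if p ≤ q ∧ p = i then a p q * v q else 0) = ∑ q, if i ≤ q then a i q * v q else 0 := by
    rw [Finset.sum_eq_single i (fun p _ hp => Finset.sum_eq_zero fun q _ => if_neg fun h => hp h.2) (by simp)]
    simp
  have h2 : (∑ p, ∑ q, if p ≤ q ∧ q = i then a p q * v p else 0) = ∑ p, if p ≤ i then a p i * v p else 0 := by
    rw [Finset.sum_comm, Finset.sum_eq_single i (fun p _ hp => Finset.sum_eq_zero fun q _ => if_neg fun h => hp h.2) (by simp)]
    simp
  erw [h1, h2, ← Finset.sum_add_distrib]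
  refine Finset.sum_congr rfl fun q _ => ?_
  simp only [VanCyc.polarMatrix]
  rcases lt_trichotomy i q with hlt | rfl | hgt
  · rw [if_pos hlt.le, if_neg (not_le.2 hlt), if_neg hlt.ne, if_pos hlt, add_zero]
  · simp; ring
  · rw [if_neg (not_le.2 hgt), if_pos hgt.le, if_neg hgt.ne', if_neg (not_lt.2 hgt.le), zero_add]

theorem eval_quadPoly {N : ℕ} (a : Fin N → Fin N → k) (v : Fin N → k) :
    MvPolynomial.eval v (VanCyc.quadPoly a) = VanCyc.quadEval a v := by
  simp only [VanCyc.quadPoly, VanCyc.quadEval, map_sum]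
  refine Finset.sum_congr rfl fun p _ => Finset.sum_congr rfl fun q _ => ?_
  split_ifs <;> simp

variable [IsAlgClosed k]

/-- Non-degenerate in the sense of smooth quadrics is ordinary. -/
theorem nondegQuad_iff (Q : MvPowerSeries (Fin (m + 1)) k) (Q₂ : LefPen.Form m k 2)
    (h : LefPen.IsQuadPart k Q Q₂) :
    LefPen.NondegQuad k Q₂ ↔ VanCyc.QuadOrd (VanCyc.quadPart Q) := by
  classical
  have hQ₂ := eval_of_isQuadPart h
  set a := VanCyc.quadPart Q
  have hcrit : VanCyc.QuadOrd a ↔ ∀ v : Fin (m + 1) → k, MvPolynomial.eval v Q₂.1 = 0 →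
      grad v Q₂.1 = 0 → v = 0 := by
    refine forall_congr' fun v => ?_
    rw [hQ₂, eval_quadPoly, show grad v (VanCyc.quadPoly a) = (VanCyc.polarMatrix a).mulVec v from
      funext fun i => eval_pderiv_quadPoly a v i]
  by_cases h0 : Q₂.1 = 0
  · refine iff_of_false (fun hn => hn.1 h0) fun ho => ?_
    have := congrFun (hcrit.1 ho (fun _ => 1) (by simp [h0]) (by funext s; simp [grad, h0])) 0
    exact one_ne_zero this
  rcases Nat.eq_zero_or_pos m with rfl | hm
  · refine iff_of_true ⟨h0, Or.inl rfl⟩ (hcrit.2 fun v hv _ => funext fun s => ?_)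
    by_contra hne
    refine h0 ?_
    have hz : Q₂.1 = MvPolynomial.C (a 0 0) * MvPolynomial.X 0 * MvPolynomial.X 0 := by
      rw [hQ₂]; simp [VanCyc.quadPoly]
    rw [hz, MvPolynomial.eval_mul, MvPolynomial.eval_mul, MvPolynomial.eval_C, MvPolynomial.eval_X] at hv
    obtain rfl : s = 0 := Fin.ext (by omega)
    have ha : a 0 0 = 0 := (mul_eq_zero.1 ((mul_eq_zero.1 hv).resolve_right hne)).resolve_right hne
    rw [hz, ha]; simp
  haveI : SmoothOfRelativeDimension m (𝟙 (CohB1.ProjSpace m k) ≫ CohB1.ProjSpace.toSpec m k) := by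
    rw [Category.id_comp]; exact smoothOfRelativeDimension_projSpace
  haveI : IsIntegral (CohB1.ProjSpace m k) := CurvOpenLib.ProjSp.isIntegral_projSpace m k
  set i := 𝟙 (CohB1.ProjSpace m k)
  have hcone : ∀ v, InCone i v := fun v Q ⟨e, he, hQ⟩ => by
    rw [eq_zero_of_psi_id he 0 (hQ 0), map_zero]
  have hspan : ∀ v, v ≠ 0 → gradSpan i v = ⊥ := fun v hv => by
    rw [eq_bot_iff]
    refine Submodule.span_le.2 ?_
    rintro _ ⟨⟨Q, e, he, hQ⟩, rfl⟩
    show grad v Q ∈ (⊥ : Submodule k _)
    rw [Submodule.mem_bot, eq_zero_of_psi_id he 0 (hQ 0)]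
    funext s; simp [grad]
  have hsm : Smooth ((LefPen.hypIdeal Q₂).subschemeι ≫ CohB1.ProjSpace.toSpec m k) ↔
      Smooth (LefPen.secToSpec i ({Q₂} : Set (LefPen.Form m k 2))) := by
    have : (LefPen.hypIdeal Q₂).subschemeι ≫ CohB1.ProjSpace.toSpec m k =
        (LefPen.hypIdeal Q₂).subschemeι ≫ i ≫ CohB1.ProjSpace.toSpec m k := by rw [Category.id_comp]
    rw [this]
    show _ ↔ Smooth ((LefPen.secIdeal i {Q₂}).subschemeι ≫ i ≫ CohB1.ProjSpace.toSpec m k)
    rw [secIdeal_id]
  have hkey : VanCyc.QuadOrd a ↔ ¬ ∃ v, v ≠ 0 ∧ BadAt i v Q₂ := by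
    rw [hcrit]
    refine ⟨fun hq ⟨v, hv, _, h1, h2⟩ => hv (hq v h1 ?_), fun hq v h1 h2 => ?_⟩
    · rw [hspan v hv, Submodule.mem_bot] at h2; exact h2
    · by_contra hv
      exact hq ⟨v, hv, hcone v, h1, by rw [h2]; exact zero_mem _⟩
  rw [hkey]
  constructor
  · rintro ⟨-, hor⟩ hbad
    have hs := hsm.1 (hor.resolve_left hm.ne')
    obtain ⟨j, ev, hev⟩ := (exists_ev_iff_badAt (n := m) i Q₂).2 hbad
    have hev0 : ev (psi i j Q₂.1) = 0 := Ideal.pow_le_self two_ne_zero hev
    have hne : psi i j Q₂.1 ≠ 0 := fun hz =>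
      h0 (eq_zero_of_psi_id ((MvPolynomial.mem_homogeneousSubmodule 2 _).1 Q₂.2) j hz)
    refine ((smoothAt_secPoint_iff (n := m) i Q₂ j ev hev0 hne).1 ?_) hev
    exact (Scheme.Hom.smoothLocus_eq_top _).ge trivial
  · intro hno
    refine ⟨h0, Or.inr (hsm.2 ?_)⟩
    have ht : LefPen.Transversal k m 1 (LefPen.secToSpec i ({Q₂} : Set (LefPen.Form m k 2))) := by
      by_contra hnt
      exact hno ((not_transversal_iff_badAt i hm Q₂).1 hnt)
    rcases ht with ⟨-, ht⟩ | ⟨h', -⟩
    · haveI := ht
      exact SmoothOfRelativeDimension.smooth (m - 1) _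
    · omega

end

end Groth.Agent.LefPenLib
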