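import Groth.Agent.LefPenLib.CotPoint
import Groth.Agent.BertiniAff.Chart
import Mathlib.AlgebraicGeometry.Morphisms.Smooth

/-!
# A cut of a smooth algebra is smooth iff the equation vanishes nowhere to second order
-/

universe u

open CategoryTheory AlgebraicGeometry

namespace Groth.Agent.LefPenLib

variable {k : Type u} [Field k] {A : Type u} [CommRing A] [Algebra k A]

/-- a differential which is invertible at a point gives a smooth neighbourhood in the cut -/
theorem exists_nhd_of_phi (r : ℕ) (h : A) (F : A)
    [Algebra.IsStandardSmoothOfRelativeDimension r k (Localization.Away F)]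
    (q : Ideal (A ⧸ Ideal.span {h})) (hq : q.IsPrime) (hFp : F ∉ q.comap (Ideal.Quotient.mk _))
    (φ : Ω[Localization.Away F⁄k] →ₗ[Localization.Away F] Localization.Away F)
    (hφ : φ (KaehlerDifferential.D k _ (algebraMap A (Localization.Away F) h)) ∉
      (q.comap (Ideal.Quotient.mk _)).map (algebraMap A (Localization.Away F))) :
    ∃ f : A ⧸ Ideal.span {h}, f ∉ q ∧ SmoothOfRelativeDimension (r - 1)
      (Spec.map (CommRingCat.ofHom (algebraMap k (Localization.Away f)))) := by
  let p : Ideal A := q.comap (Ideal.Quotient.mk _)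
  haveI : p.IsPrime := Ideal.comap_isPrime _ q
  let v : Ideal (Localization.Away F) := p.map (algebraMap A _)
  have hdisj : Disjoint (Submonoid.powers F : Set A) p :=
    (Ideal.disjoint_powers_iff_notMem F (Ideal.IsPrime.isRadical (I := p) inferInstance)).2 hFp
  haveI hv : v.IsPrime :=
    IsLocalization.isPrime_of_isPrime_disjoint (Submonoid.powers F) _ p inferInstance hdisj
  have hvc : v.comap (algebraMap A _) = p :=
    IsLocalization.comap_map_of_isPrime_disjoint (Submonoid.powers F) _ inferInstance hdisj
  let u := φ (KaehlerDifferential.D k _ (algebraMap A (Localization.Away F) h))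
  let B' := Localization.Away u
  obtain ⟨F', hF', hF'loc⟩ := BertiniAff.exists_isLocalizationAway F u B' p v hvc hφ
  haveI : Algebra.FormallyEtale (Localization.Away F) B' :=
    Algebra.FormallyEtale.of_isLocalization (Submonoid.powers u)
  let φ₀ : Ω[B'⁄k] →ₗ[B'] B' :=
    (KaehlerDifferential.isBaseChange_of_formallyEtale k (Localization.Away F) B').lift
      ((Algebra.linearMap (Localization.Away F) B').comp φ)
  let iu := (IsLocalization.Away.algebraMap_isUnit (S := B') u).unit
  have hφ₀ : φ₀ (KaehlerDifferential.D k B' (algebraMap A B' h)) = algebraMap _ B' u := by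
    have e := IsBaseChange.lift_eq (KaehlerDifferential.isBaseChange_of_formallyEtale k (Localization.Away F) B')
      ((Algebra.linearMap (Localization.Away F) B').comp φ)
      (KaehlerDifferential.D k _ (algebraMap A (Localization.Away F) h))
    rw [KaehlerDifferential.map_D, ← IsScalarTower.algebraMap_apply A (Localization.Away F) B'] at e
    exact e
  haveI : Algebra.IsStandardSmoothOfRelativeDimension 0 (Localization.Away F) B' :=
    Algebra.IsStandardSmoothOfRelativeDimension.localization_away u
  haveI : Algebra.IsStandardSmoothOfRelativeDimension r k B' := by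
    have := Algebra.IsStandardSmoothOfRelativeDimension.trans (n := r) (m := 0) k (Localization.Away F) B'
    rwa [zero_add] at this
  have hone : ((↑iu⁻¹ : B') • φ₀) (KaehlerDifferential.D k B' (algebraMap A B' h)) = 1 := by
    rw [LinearMap.smul_apply, hφ₀, smul_eq_mul]
    exact iu.inv_mul
  let I : Ideal A := Ideal.span {h}
  have hI : I.map (algebraMap A B') = Ideal.span {algebraMap A B' h} := by
    rw [Ideal.map_span, Set.image_singleton]
  haveI : IsLocalization (Submonoid.powers (Ideal.Quotient.mk I F')) (B' ⧸ I.map (algebraMap A B')) := by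
    have := (inferInstance : IsLocalization (Algebra.algebraMapSubmonoid (A ⧸ I) (Submonoid.powers F')) (B' ⧸ I.map (algebraMap A B')))
    rwa [Algebra.algebraMapSubmonoid_powers] at this
  haveI : IsLocalization.Away (Ideal.Quotient.mk I F') (B' ⧸ I.map (algebraMap A B')) := ‹IsLocalization (Submonoid.powers _) (B' ⧸ I.map (algebraMap A B'))›
  have hF'q : Ideal.Quotient.mk I F' ∉ q := hF'
  have hdisj' : Disjoint (Submonoid.powers (Ideal.Quotient.mk I F') : Set (A ⧸ I)) q :=
    (Ideal.disjoint_powers_iff_notMem _ hq.isRadical).2 hF'q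
  let jC : (A ⧸ I) →+* (B' ⧸ I.map (algebraMap A B')) := algebraMap _ _
  let P : Ideal (B' ⧸ I.map (algebraMap A B')) := Ideal.map jC q
  haveI : P.IsPrime := IsLocalization.isPrime_of_isPrime_disjoint
    (Submonoid.powers (Ideal.Quotient.mk I F')) (B' ⧸ I.map (algebraMap A B')) q hq hdisj'
  have hPc : P.comap (algebraMap (A ⧸ I) (B' ⧸ I.map (algebraMap A B'))) = q :=
    IsLocalization.comap_map_of_isPrime_disjoint (Submonoid.powers (Ideal.Quotient.mk I F')) (B' ⧸ I.map (algebraMap A B')) hq hdisj'
  have hch : ∀ (J : Ideal B') (_ : J = Ideal.span {algebraMap A B' h}) (Q : Ideal (B' ⧸ J)), Q.IsPrime →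
      1 ≤ r ∧ ∃ t : B' ⧸ J, t ∉ Q ∧
        Algebra.IsStandardSmoothOfRelativeDimension (r - 1) k (Localization.Away t) := by
    rintro _ rfl Q hQ
    exact BertiniAff.exists_chart r _ _ hone Q
  obtain ⟨-, t, htP, hts⟩ := hch _ hI P ‹_›
  obtain ⟨f', hf', hf'loc⟩ := BertiniAff.exists_isLocalizationAway
    (Ideal.Quotient.mk I F') t (Localization.Away t) q P hPc htP
  refine ⟨f', hf', ?_⟩
  haveI := hts
  haveI := hf'loc
  haveI : IsScalarTower k (A ⧸ I) (Localization.Away t) := IsScalarTower.of_algebraMap_eq fun c => by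
    refine (IsScalarTower.algebraMap_apply k (B' ⧸ I.map (algebraMap A B')) (Localization.Away t) c).trans
      (Eq.trans ?_ (IsScalarTower.algebraMap_apply (A ⧸ I) (B' ⧸ I.map (algebraMap A B')) (Localization.Away t)
        (algebraMap k (A ⧸ I) c)).symm)
    refine congrArg _ ?_
    show Ideal.Quotient.mk _ (algebraMap k B' c) = Ideal.Quotient.mk _ (algebraMap A B' (algebraMap k A c))
    rw [← IsScalarTower.algebraMap_apply k A B']
  let e : Localization.Away t ≃ₐ[k] Localization.Away f' :=
    (IsLocalization.algEquiv (Submonoid.powers f') (Localization.Away t) (Localization.Away f')).restrictScalars k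
  have h3 := Algebra.IsStandardSmoothOfRelativeDimension.of_algEquiv (n := r - 1) e
  rw [HasRingHomProperty.Spec_iff (P := @SmoothOfRelativeDimension (r - 1)), CommRingCat.hom_ofHom]
  exact RingHom.locally_of RingHom.isStandardSmoothOfRelativeDimension_respectsIso _
    ((RingHom.isStandardSmoothOfRelativeDimension_algebraMap _).2 h3)

variable {σ : Type*} [Fintype σ] (ψ : MvPolynomial σ k →ₐ[k] A) (n : ℕ)

variable {ψ} in
/-- the tangent space at a point with a standard smooth chart -/
theorem finrank_tanSpace_of_chart (hψ : Function.Surjective ψ) (ev : A →ₐ[k] k) (F : A) (hF : ev F ≠ 0)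
    [Algebra.IsStandardSmoothOfRelativeDimension n k (Localization.Away F)] :
    Module.finrank k (tanSpace ψ ev) = n := by
  haveI : Algebra.IsStandardSmooth k (Localization.Away F) :=
    Algebra.IsStandardSmoothOfRelativeDimension.isStandardSmooth n
  let evB : Localization.Away F →ₐ[k] k :=
    IsLocalization.liftAlgHom (M := Submonoid.powers F) (f := ev) (fun y => by
      obtain ⟨_, N, rfl⟩ := y
      rw [map_pow]; exact (isUnit_iff_ne_zero.2 hF).pow N)
  have hcomp : ∀ a, evB (algebraMap A _ a) = ev a := fun a => IsLocalization.lift_eq _ a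
  haveI : Nontrivial (Localization.Away F) := evB.toRingHom.domain_nontrivial
  have := finrank_tanSpace ev evB hcomp
    (Module.finBasisOfFinrankEq (Localization.Away F) _ (BertiniAff.finrank_kaehler n)) hψ F
  rwa [Fintype.card_fin] at this

variable [IsAlgClosed k]

variable {ψ} in
/-- Jacobian criterion for a cut. -/
theorem smooth_cut_iff (hψ : Function.Surjective ψ)
    (hchart : ∀ p : Ideal A, p.IsPrime → ∃ F : A, F ∉ p ∧
      Algebra.IsStandardSmoothOfRelativeDimension n k (Localization.Away F))
    (hn : 1 ≤ n) (P : MvPolynomial σ k) :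
    SmoothOfRelativeDimension (n - 1)
        (Spec.map (CommRingCat.ofHom ((Ideal.Quotient.mk (Ideal.span {ψ P})).comp (algebraMap k A)))) ↔
      ∀ ev : A →ₐ[k] k, ψ P ∉ RingHom.ker ev ^ 2 := by
  classical
  set h := ψ P with hh
  haveI : Algebra.FiniteType k A := Algebra.FiniteType.of_surjective ψ hψ
  haveI : Algebra.FiniteType k (A ⧸ Ideal.span {h}) :=
    Algebra.FiniteType.of_surjective ((Ideal.Quotient.mkₐ k _).comp ψ) (Ideal.Quotient.mk_surjective.comp hψ)
  constructor
  · intro hs ev hev
    have hev0 : ev h = 0 := RingHom.mem_ker.1 (Ideal.pow_le_self two_ne_zero hev)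
    let evQ : (A ⧸ Ideal.span {h}) →ₐ[k] k := Ideal.Quotient.liftₐ _ ev (fun a ha => by
      obtain ⟨c, rfl⟩ := Ideal.mem_span_singleton'.1 ha
      rw [map_mul, hev0, mul_zero])
    let ψQ := (Ideal.Quotient.mkₐ k (Ideal.span {h})).comp ψ
    have hψQ : Function.Surjective ψQ := Ideal.Quotient.mk_surjective.comp hψ
    haveI : (RingHom.ker evQ).IsPrime := RingHom.ker_isPrime _
    rw [HasRingHomProperty.Spec_iff (P := @SmoothOfRelativeDimension (n - 1)), CommRingCat.hom_ofHom] at hs
    obtain ⟨s, hspan, H⟩ := hs
    obtain ⟨t, hts, htp⟩ : ∃ t ∈ s, t ∉ RingHom.ker evQ := by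
      by_contra! hc
      exact (RingHom.ker_isPrime evQ).ne_top (top_le_iff.1 (hspan ▸ Ideal.span_le.2 hc))
    haveI : Algebra.IsStandardSmoothOfRelativeDimension (n - 1) k (Localization.Away t) := by
      rw [← RingHom.isStandardSmoothOfRelativeDimension_algebraMap,
        IsScalarTower.algebraMap_eq k (A ⧸ Ideal.span {h}) (Localization.Away t)]
      exact H t hts
    have h1 := finrank_tanSpace_of_chart (n - 1) hψQ evQ t htp
    haveI : (RingHom.ker ev).IsPrime := RingHom.ker_isPrime _
    obtain ⟨F, hF, hst⟩ := hchart (RingHom.ker ev) inferInstance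
    have h2 := finrank_tanSpace_of_chart n hψ ev F hF
    have hpt : pt ψQ evQ = pt ψ ev := rfl
    have e : tanSpace ψQ evQ = tanSpace ψ ev := by
      refine le_antisymm (fun w hw => (mem_tanSpace ψ ev w).2 fun Q hQ => ?_)
        (fun w hw => (mem_tanSpace ψQ evQ w).2 fun Q hQ => ?_)
      · have := (mem_tanSpace ψQ evQ w).1 hw Q (by simp [ψQ, hQ])
        exact this
      · have hQm : ψ Q ∈ RingHom.ker ev ^ 2 := by
          obtain ⟨c, hc⟩ := Ideal.mem_span_singleton'.1 (Ideal.Quotient.eq_zero_iff_mem.1 hQ)
          exact (show c * h = ψ Q from hc) ▸ Ideal.mul_mem_left _ c hev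
        exact ((mem_sq_iff ev hψ Q).1 hQm).2 w hw
    rw [e, h2] at h1
    omega
  · intro hall
    have key : ∀ q : Ideal (A ⧸ Ideal.span {h}), q.IsPrime → ∃ f : A ⧸ Ideal.span {h}, f ∉ q ∧
        SmoothOfRelativeDimension (n - 1) (Spec.map (CommRingCat.ofHom (algebraMap k (Localization.Away f)))) := by
      intro q hq
      obtain ⟨M, hM, hqM⟩ := Ideal.exists_le_maximal q hq.ne_top
      obtain ⟨ev', hev'⟩ := exists_ev (k := k) M
      let ev : A →ₐ[k] k := ev'.comp (Ideal.Quotient.mkₐ k _)
      have hker : M.comap (Ideal.Quotient.mk _) = RingHom.ker ev := by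
        rw [← hev']; rfl
      have hev0 : ev h = 0 := by
        show ev' (Ideal.Quotient.mk _ h) = 0
        rw [Ideal.Quotient.eq_zero_iff_mem.2 (Ideal.mem_span_singleton_self h), map_zero]
      haveI : (RingHom.ker ev).IsPrime := RingHom.ker_isPrime _
      obtain ⟨F, hF, hst⟩ := hchart (RingHom.ker ev) inferInstance
      let evB : Localization.Away F →ₐ[k] k :=
        IsLocalization.liftAlgHom (M := Submonoid.powers F) (f := ev) (fun y => by
          obtain ⟨_, N, rfl⟩ := y
          rw [map_pow]; exact (isUnit_iff_ne_zero.2 hF).pow N)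
      have hcomp : ∀ a, evB (algebraMap A _ a) = ev a := fun a => IsLocalization.lift_eq _ a
      haveI : Algebra.IsStandardSmooth k (Localization.Away F) :=
        Algebra.IsStandardSmoothOfRelativeDimension.isStandardSmooth n
      haveI : Nontrivial (Localization.Away F) := evB.toRingHom.domain_nontrivial
      let bas := Module.finBasisOfFinrankEq (Localization.Away F) _ (BertiniAff.finrank_kaehler (k := k) n)
      obtain ⟨b, hb⟩ : ∃ b, evB (bas.repr (KaehlerDifferential.D k _ (algebraMap A _ h)) b) ≠ 0 := by
        by_contra! hz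
        refine hall ev (mem_sq_of_away ev evB hcomp F hev0 (mem_sq_of_D evB (by rw [hcomp, hev0]) ?_))
        rw [← bas.sum_repr (KaehlerDifferential.D k _ (algebraMap A _ h))]
        exact Submodule.sum_mem _ fun b _ => Submodule.smul_mem_smul (RingHom.mem_ker.2 (hz b)) Submodule.mem_top
      haveI := hM.isPrime
      obtain ⟨f, hf, hfs⟩ := exists_nhd_of_phi n h F M inferInstance (by rw [hker]; exact hF) (bas.coord b) (by
        rw [hker]
        intro hmem
        refine hb ?_
        have hle : (RingHom.ker ev).map (algebraMap A (Localization.Away F)) ≤ RingHom.ker evB :=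
          Ideal.map_le_iff_le_comap.2 fun a ha => by
            rw [Ideal.mem_comap, RingHom.mem_ker, hcomp]; exact ha
        exact RingHom.mem_ker.1 (hle hmem))
      exact ⟨f, fun hfq => hf (hqM hfq), hfs⟩
    choose f hf hsm using fun q : PrimeSpectrum (A ⧸ Ideal.span {h}) => key q.asIdeal q.isPrime
    have hspan : Ideal.span (Set.range f) = ⊤ := by
      by_contra hne
      obtain ⟨M, hM, hle⟩ := Ideal.exists_le_maximal _ hne
      exact hf ⟨M, hM.isPrime⟩ (hle (Ideal.subset_span ⟨_, rfl⟩))
    show SmoothOfRelativeDimension (n - 1) (Spec.map (CommRingCat.ofHom (algebraMap k (A ⧸ Ideal.span {h}))))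
    refine IsZariskiLocalAtSource.of_openCover (P := @SmoothOfRelativeDimension (n - 1))
      (Scheme.affineOpenCoverOfSpanRangeEqTop (R := CommRingCat.of (A ⧸ Ideal.span {h})) f hspan).openCover fun q => ?_
    have := hsm q
    rw [IsScalarTower.algebraMap_eq k (A ⧸ Ideal.span {h}) (Localization.Away (f q)), CommRingCat.ofHom_comp,
      Spec.map_comp] at this
    exact this

end Groth.Agent.LefPenLib
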