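import Groth.Agent.LefPenLib.Variety
import Groth.Agent.LefPenLib.CutSmooth

/-!
# Transversality at the rational points
-/

universe u

open CategoryTheory AlgebraicGeometry Opposite TopologicalSpace

namespace Groth.Agent.LefPenLib

noncomputable section

variable {r n d : ℕ} {k : Type u} [Field k] {X : Scheme.{u}} (i : X ⟶ CohB1.ProjSpace r k) [IsClosedImmersion i]
  [IrreducibleSpace X] [SmoothOfRelativeDimension n (i ≫ CohB1.ProjSpace.toSpec r k)] [IsAlgClosed k]

theorem exists_chart_of_prime (j : Fin (r + 1)) (p : Ideal Γ(X, chartX i j)) (hp : p.IsPrime) :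
    ∃ F : Γ(X, chartX i j), F ∉ p ∧ Algebra.IsStandardSmoothOfRelativeDimension n k (Localization.Away F) :=
  haveI := hp
  exists_standardSmooth i j p

/-- A hypersurface section is transversal iff its equation nowhere vanishes to second order. -/
theorem transversal_iff (hn : 1 ≤ n) (G : LefPen.Form r k d) :
    LefPen.Transversal k n 1 (LefPen.secToSpec i ({G} : Set (LefPen.Form r k d))) ↔
      ∀ (j : Fin (r + 1)) (ev : Γ(X, chartX i j) →ₐ[k] k), psi i j G.1 ∉ RingHom.ker ev ^ 2 := by
  have hT : LefPen.Transversal k n 1 (LefPen.secToSpec i ({G} : Set (LefPen.Form r k d))) ↔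
      SmoothOfRelativeDimension (n - 1) (LefPen.secToSpec i ({G} : Set (LefPen.Form r k d))) :=
    ⟨fun h => h.elim And.right fun h' => absurd h'.1 (by omega), fun h => Or.inl ⟨hn, h⟩⟩
  rw [hT]
  refine (isZariskiLocal_iff (P := @SmoothOfRelativeDimension (n - 1)) i (LefPen.secIdeal i {G})).trans
    (forall_congr' fun j => ?_)
  have e := secIdeal_chart i ({G} : Set (LefPen.Form r k d)) j
  rw [Set.image_singleton] at e
  rw [e]
  exact smooth_cut_iff n (psi_surjective i j) (exists_chart_of_prime (n := n) i j) hn _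

/-- non-transversal forms -/
theorem not_transversal_iff (hn : 1 ≤ n) (G : LefPen.Form r k d) :
    ¬ LefPen.Transversal k n 1 (LefPen.secToSpec i ({G} : Set (LefPen.Form r k d))) ↔
      ∃ (j : Fin (r + 1)) (ev : Γ(X, chartX i j) →ₐ[k] k), psi i j G.1 ∈ RingHom.ker ev ^ 2 := by
  rw [transversal_iff i hn G]
  push Not
  rfl

end

end Groth.Agent.LefPenLib
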