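import Groth.Agent.BertiniAff.Bad
import Groth.Agent.LefGeo.Incidence
import Mathlib.RingTheory.Nullstellensatz
import Mathlib.RingTheory.KrullDimension.Basic
import Mathlib.RingTheory.Localization.Away.Basic
import Mathlib.RingTheory.Jacobson.Ring
import Mathlib.RingTheory.FiniteType
import Groth.Agent.LefPenLib.Points

/-!
# A generic vector avoids a family of systems of large rank
-/

universe u

open Matrix

namespace Groth.Agent.LefPenLib

variable {k : Type u} [Field k] [IsAlgClosed k]

/-- The generic vector solves none of the systems parametrised by `B` if the ranks exceed the dimension of `B`. -/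
theorem exists_poly_avoid {B : Type u} [CommRing B] [Algebra k B] [Algebra.FiniteType k B] (m : ℕ)
    (hB : ringKrullDim B ≤ m) {ρ : Type*} [Fintype ρ] {N : ℕ} (M : Matrix ρ (Fin N) B)
    (hr : ∀ e : B →ₐ[k] k, m + 1 ≤ (M.map e).rank) :
    ∃ p : MvPolynomial (Fin N) k, p ≠ 0 ∧ ∀ a : Fin N → k, MvPolynomial.eval a p ≠ 0 →
      ∀ e : B →ₐ[k] k, M.map e *ᵥ a ≠ 0 := by
  classical
  let δ : (Fin (m + 1) → ρ) × (Fin (m + 1) ↪ Fin N) → B := fun q => (M.submatrix q.1 q.2).det
  have hδe : ∀ (e : B →ₐ[k] k) q, e (δ q) = ((M.map e).submatrix q.1 q.2).det := fun e q => by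
    show e.toRingHom _ = _
    rw [RingHom.map_det]
    rfl
  have hpiece : ∀ q, ∃ p : MvPolynomial (Fin N) k, p ≠ 0 ∧ ∀ a : Fin N → k, MvPolynomial.eval a p ≠ 0 →
      ∀ e : B →ₐ[k] k, e (δ q) ≠ 0 → M.map e *ᵥ a ≠ 0 := by
    intro q
    let C := Localization.Away (δ q)
    haveI : Algebra.FiniteType k C := Algebra.FiniteType.trans (S := B) inferInstance inferInstance
    have hC : ringKrullDim C ≤ m := (Order.krullDim_le_of_strictMono (PrimeSpectrum.comap (algebraMap B C))
      fun P Q hPQ => lt_of_le_of_ne (Ideal.comap_mono hPQ.le) fun h =>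
        hPQ.ne (PrimeSpectrum.localization_comap_injective _ (Submonoid.powers (δ q)) h)).trans hB
    let M' : Matrix (ULift.{u} (Fin (m + 1))) (ULift.{u} (Fin N)) C :=
      Matrix.of fun a b => algebraMap B C (M (q.1 a.down) b.down)
    let A : Matrix (Fin (m + 1)) (Fin (m + 1)) C := (M.submatrix q.1 q.2).map (algebraMap B C)
    have hA : IsUnit A.det := by
      show IsUnit ((algebraMap B C).mapMatrix (M.submatrix q.1 q.2)).det
      rw [← RingHom.map_det]
      exact IsLocalization.Away.algebraMap_isUnit (δ q)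
    let N' : Matrix (ULift.{u} (Fin N)) (ULift.{u} (Fin (m + 1))) C := Matrix.of fun b a =>
      if h : ∃ c, q.2 c = b.down then A⁻¹ h.choose a.down else 0
    have hMN : M' * N' = 1 := by
      ext a a'
      rw [Matrix.mul_apply, ← Equiv.ulift.symm.sum_comp,
        ← Finset.sum_subset (s₁ := Finset.univ.map q.2) (Finset.subset_univ _) fun b _ hb => by
          have : ¬ ∃ c, q.2 c = b := by simpa using hb
          show M' a ⟨b⟩ * N' ⟨b⟩ a' = 0
          simp only [N', Matrix.of_apply, dif_neg this, mul_zero]]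
      rw [Finset.sum_map]
      have h1 : A * A⁻¹ = 1 := Matrix.mul_nonsing_inv _ hA
      have h2 := congrFun (congrFun h1 a.down) a'.down
      rw [Matrix.mul_apply] at h2
      rw [show (1 : Matrix (ULift.{u} (Fin (m + 1))) (ULift.{u} (Fin (m + 1))) C) a a' =
        (1 : Matrix (Fin (m + 1)) (Fin (m + 1)) C) a.down a'.down by
          by_cases h : a = a'
          · subst h; rw [Matrix.one_apply_eq, Matrix.one_apply_eq]
          · rw [Matrix.one_apply_ne h, Matrix.one_apply_ne fun h' => h (ULift.ext _ _ h')], ← h2]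
      refine Finset.sum_congr rfl fun c _ => ?_
      have hex : ∃ c', q.2 c' = q.2 c := ⟨c, rfl⟩
      show M' a ⟨q.2 c⟩ * N' ⟨q.2 c⟩ a' = A a.down c * A⁻¹ c a'.down
      simp only [N', Matrix.of_apply, dif_pos hex]
      rw [q.2.injective hex.choose_spec]
      rfl
    obtain ⟨g, hg0, hg⟩ := BertiniAff.exists_ne_zero_eval (k := k) m hC _ _ (by simp) M' N' hMN
    refine ⟨MvPolynomial.renameEquiv k Equiv.ulift g, (map_ne_zero_iff _ (AlgEquiv.injective _)).2 hg0,
      fun a ha e he h0 => ha ?_⟩
    rw [MvPolynomial.renameEquiv_apply, MvPolynomial.eval_rename]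
    let eC : C →ₐ[k] k := IsLocalization.liftAlgHom (M := Submonoid.powers (δ q)) (f := e) (fun y => by
      obtain ⟨_, l, rfl⟩ := y
      rw [map_pow]; exact (isUnit_iff_ne_zero.2 he).pow l)
    have heC : ∀ x, eC (algebraMap B C x) = e x := fun x => IsLocalization.lift_eq _ x
    refine hg (a ∘ Equiv.ulift) k eC (funext fun c => ?_)
    refine Eq.trans ?_ (congrFun h0 (q.1 c.down))
    simp only [Matrix.mulVec, dotProduct, Matrix.map_apply, M', Matrix.of_apply, heC, Function.comp_apply,
      Algebra.algebraMap_self, RingHom.id_apply]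
    exact (Equiv.ulift.symm.sum_comp _).symm
  choose p hp0 hp using hpiece
  refine ⟨∏ q, p q, Finset.prod_ne_zero_iff.2 fun q _ => hp0 q, fun a ha e h0 => ?_⟩
  rw [map_prod, Finset.prod_ne_zero_iff] at ha
  obtain ⟨e', c, hd⟩ := LefGeo.exists_det_submatrix_ne_zero _ (hr e)
  exact hp (e', c) a (ha _ (Finset.mem_univ _)) e (by rw [hδe]; exact hd) h0

end Groth.Agent.LefPenLib
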