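import Groth.Agent.LefPenLib.Closed

/-!
# Two forms with a common zero at which they are dependent
-/

universe u

open CategoryTheory AlgebraicGeometry Opposite TopologicalSpace
open MvPolynomial Matrix

namespace Groth.Agent.LefPenLib

noncomputable section

variable {r n d : ℕ} {k : Type u} [Field k] {X : Scheme.{u}} (i : X ⟶ CohB1.ProjSpace r k) [IsClosedImmersion i]

/-- two forms are dependent modulo the equations of `X` at a common zero on `X` -/
def BadPair (v : Fin (r + 1) → k) (F G : LefPen.Form r k d) : Prop :=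
  MvPolynomial.eval v F.1 = 0 ∧ MvPolynomial.eval v G.1 = 0 ∧
    ∃ a b : k, (a ≠ 0 ∨ b ≠ 0) ∧ BadAt i v (a • F + b • G)

/-- the indices of the linear singularity equations -/
abbrev LIdx (n : ℕ) : Type u := (Fin (r - n) → Eqn i) × (Fin (r - n + 1) → Fin (r + 1))

/-- the linear singularity equations -/
def lrow (n d : ℕ) (α : LIdx i n) : MvPolynomial (FormIdx k r d ⊕ Fin (r + 1)) k :=
  Matrix.det (Matrix.of fun p q => badRow i d ((Fin.cons (Sum.inr ()) fun a => Sum.inl (α.1 a) : _ → _) p) (α.2 q))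

theorem exists_row_weight {K : Type u} [Field K] [Algebra k K] (l : K) :
    ∃ wt : Eqn i ⊕ Unit → K, ∀ (y : FormIdx k r d → K) (z : Fin (r + 1) → K) R s,
      aeval (Sum.elim y (l • z)) (badRow i d R s) = wt R * aeval (Sum.elim y z) (badRow i d R s) := by
  have hsc : ∀ {e : ℕ} {Q : MvPolynomial (Fin (r + 1)) k}, Q.IsHomogeneous e → ∀ (y : FormIdx k r d → K) z,
      aeval (Sum.elim y (l • z)) (rename Sum.inr Q : MvPolynomial (FormIdx k r d ⊕ Fin (r + 1)) k) =
        l ^ e * aeval (Sum.elim y z) (rename Sum.inr Q : MvPolynomial (FormIdx k r d ⊕ Fin (r + 1)) k) := by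
    intro e Q hQ y z
    have := LefGeo.eval_smul_of_isHomogeneous (hQ.map (algebraMap k K)) l z
    rw [MvPolynomial.eval_map, MvPolynomial.eval_map, ← aeval_def, ← aeval_def] at this
    rw [aeval_rename, aeval_rename]
    exact this
  have hE : ∀ Q : Eqn i, ∃ e, Q.1.IsHomogeneous e := fun Q => by
    obtain ⟨e, he, -⟩ := Q.2; exact ⟨e, he⟩
  choose deg hdeg using hE
  refine ⟨Sum.elim (fun Q => l ^ (deg Q - 1)) (fun _ => l ^ (d - 1)), fun y z R s => ?_⟩
  have hb : ∀ m, (LefGeo.formBasis k r d m).1.IsHomogeneous d :=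
    fun m => (mem_homogeneousSubmodule d _).1 (LefGeo.formBasis k r d m).2
  cases R with
  | inl Q =>
    simp only [badRow, Sum.elim_inl]
    exact hsc (hdeg Q).pderiv y z
  | inr u =>
    simp only [badRow, lin, Derivation.coeFn_coe, Sum.elim_inr, map_sum, map_mul, aeval_X, Sum.elim_inl]
    simp only [hsc (hb _).pderiv, mul_left_comm (y _), ← Finset.mul_sum]

theorem exists_lrow_weight {K : Type u} [Field K] [Algebra k K] (l : K) (α : LIdx i n) :
    ∃ w : K, ∀ (y : FormIdx k r d → K) (z : Fin (r + 1) → K),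
      aeval (Sum.elim y (l • z)) (lrow i n d α) = w * aeval (Sum.elim y z) (lrow i n d α) := by
  obtain ⟨wt, hwt⟩ := exists_row_weight i (d := d) l
  let R : Fin (r - n + 1) → Eqn i ⊕ Unit := Fin.cons (Sum.inr ()) fun a => Sum.inl (α.1 a)
  refine ⟨∏ p, wt (R p), fun y z => ?_⟩
  simp only [lrow, AlgHom.map_det]
  have hM : (aeval (Sum.elim y (l • z))).mapMatrix (Matrix.of fun p q => badRow i d (R p) (α.2 q)) =
      Matrix.of fun p q => wt (R p) * (aeval (Sum.elim y z)).mapMatrix
        (Matrix.of fun p q => badRow i d (R p) (α.2 q)) p q := by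
    ext p q
    exact hwt y z _ _
  exact (congrArg Matrix.det hM).trans (Matrix.det_mul_column _ _)

theorem eval_lrow (H : LefPen.Form r k d) (z : Fin (r + 1) → k) (α : LIdx i n) :
    eval (Sum.elim (crd H) z) (lrow i n d α) =
      (Matrix.of fun p q => (Fin.cons (grad z H.1) fun a => grad z (α.1 a).1 : _ → Fin (r + 1) → k) p (α.2 q)).det := by
  rw [lrow, RingHom.map_det]
  congr 1
  ext p q
  simp only [RingHom.mapMatrix_apply, Matrix.map_apply, Matrix.of_apply]
  refine Fin.cases ?_ (fun a => ?_) p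
  · exact eval_lin _ H z
  · simp [badRow, grad, eval_rename]

theorem eval_lrow_combo (F G : LefPen.Form r k d) (a b : k) (z : Fin (r + 1) → k) (α : LIdx i n) :
    eval (Sum.elim (crd (a • F + b • G)) z) (lrow i n d α) =
      a * eval (Sum.elim (crd F) z) (lrow i n d α) + b * eval (Sum.elim (crd G) z) (lrow i n d α) := by
  simp only [eval_lrow, Matrix.det_succ_row_zero, Finset.mul_sum, ← Finset.sum_add_distrib]
  refine Finset.sum_congr rfl fun q _ => ?_
  have e : ∀ H : LefPen.Form r k d, (Matrix.of fun p q => (Fin.cons (grad z H.1) fun a => grad z (α.1 a).1 :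
      _ → Fin (r + 1) → k) p (α.2 q)).submatrix Fin.succ q.succAbove =
      Matrix.of fun p q' => grad z (α.1 p).1 (α.2 (q.succAbove q')) := fun H => by
    ext p q'; simp
  simp only [e, Matrix.of_apply, Fin.cons_zero]
  simp [grad]
  ring

variable [IrreducibleSpace X] [SmoothOfRelativeDimension n (i ≫ CohB1.ProjSpace.toSpec r k)] [IsAlgClosed k]

include n in
theorem badAt_iff_lrow (H : LefPen.Form r k d) {z : Fin (r + 1) → k} {j : Fin (r + 1)} (hzj : z j = 1) :
    BadAt i z H ↔ InCone i z ∧ eval z H.1 = 0 ∧ ∀ α, eval (Sum.elim (crd H) z) (lrow i n d α) = 0 := by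
  constructor
  · rintro h
    exact ⟨h.1, h.2.1, fun α => (eval_badP_iff (n := n) i H hzj).2 h
      (Sum.inr (Sum.inr (Fin.cons (Sum.inr ()) fun a => Sum.inl (α.1 a), α.2)))⟩
  · rintro ⟨hcone, h0, h⟩
    refine ⟨hcone, h0, ?_⟩
    obtain ⟨ev, hev⟩ := exists_point (n := n) i hcone j hzj
    have hrank := finrank_gradSpan (n := n) i j ev
    rw [hev] at hrank
    by_contra hnot
    obtain ⟨g, hg, hgspan, hgli⟩ :=
      Submodule.exists_fun_fin_finrank_span_eq k (Set.range fun Q : Eqn i => grad z Q.1)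
    have hc : r - n = Module.finrank k (Submodule.span k (Set.range fun Q : Eqn i => grad z Q.1)) := by
      show r - n = Module.finrank k (gradSpan i z)
      omega
    choose e he using hg
    let A : Matrix (Fin (r - n + 1)) (Fin (r + 1)) k :=
      Matrix.of (Fin.cons (grad z H.1) fun a => grad z (e (Fin.cast hc a)).1)
    have hA : A.row = Fin.cons (grad z H.1) (g ∘ Fin.cast hc) := by
      funext p
      refine Fin.cases ?_ (fun a => ?_) p
      · rfl
      · exact he _
    have hli : LinearIndependent k A.row := by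
      rw [hA]
      refine linearIndependent_finCons.2 ⟨hgli.comp _ (Fin.cast_injective hc), fun hmem => hnot ?_⟩
      rw [(Fin.rightInverse_cast hc).surjective.range_comp, hgspan] at hmem
      exact hmem
    obtain ⟨e', C, hdet⟩ := LefGeo.exists_det_submatrix_ne_zero A (r := r - n + 1)
      (by rw [hli.rank_matrix, Fintype.card_fin])
    have he'inj : Function.Injective e' := by
      by_contra hni
      obtain ⟨p, q, hpq, hne⟩ := Function.not_injective_iff.1 hni
      exact hdet (Matrix.det_zero_of_row_eq hne (funext fun l => by simp [hpq]))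
    let π : Equiv.Perm (Fin (r - n + 1)) := Equiv.ofBijective e' (Finite.injective_iff_bijective.1 he'inj)
    refine hdet ?_
    rw [show A.submatrix e' C = (A.submatrix id C).submatrix π id from rfl, Matrix.det_permute]
    have := h (fun a => e (Fin.cast hc a), C)
    rw [eval_lrow] at this
    exact mul_eq_zero_of_right _ this

include n in
/-- having no bad pair is an open condition -/
theorem exists_poly_no_badPair (F G : LefPen.Form r k d) (hFG : ∀ v, v ≠ 0 → ¬ BadPair i v F G) :
    ∃ p : MvPolynomial (FormIdx k r d ⊕ FormIdx k r d) k, eval (Sum.elim (crd F) (crd G)) p ≠ 0 ∧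
      ∀ F' G' : LefPen.Form r k d, eval (Sum.elim (crd F') (crd G')) p ≠ 0 → ∀ v, v ≠ 0 → ¬ BadPair i v F' G' := by
  classical
  let τ := (FormIdx k r d ⊕ FormIdx k r d) ⊕ Fin (r + 1)
  let ρ1 : FormIdx k r d ⊕ Fin (r + 1) → τ := Sum.map Sum.inl id
  let ρ2 : FormIdx k r d ⊕ Fin (r + 1) → τ := Sum.map Sum.inr id
  let P : Eqn i ⊕ (Unit ⊕ Unit) ⊕ (LIdx i n × LIdx i n) → MvPolynomial τ k :=
    Sum.elim (fun Q => rename Sum.inr Q.1) (Sum.elim
      (Sum.elim (fun _ => rename ρ1 (lin LinearMap.id)) (fun _ => rename ρ2 (lin LinearMap.id)))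
      (fun αβ => rename ρ1 (lrow i n d αβ.1) * rename ρ2 (lrow i n d αβ.2) -
        rename ρ1 (lrow i n d αβ.2) * rename ρ2 (lrow i n d αβ.1)))
  have c1 : ∀ {S : Type u} (y : FormIdx k r d ⊕ FormIdx k r d → S) z,
      Sum.elim y z ∘ ρ1 = Sum.elim (fun l => y (Sum.inl l)) z := fun y z => by funext m; cases m <;> rfl
  have c2 : ∀ {S : Type u} (y : FormIdx k r d ⊕ FormIdx k r d → S) z,
      Sum.elim y z ∘ ρ2 = Sum.elim (fun l => y (Sum.inr l)) z := fun y z => by funext m; cases m <;> rfl
  have hP : ∀ (K : Type u) [Field K] [Algebra k K] a (y : FormIdx k r d ⊕ FormIdx k r d → K)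
      (z : Fin (r + 1) → K) (l : K), aeval (Sum.elim y z) (P a) = 0 → aeval (Sum.elim y (l • z)) (P a) = 0 := by
    intro K _ _ a y z l h
    have hlin : ∀ y' : FormIdx k r d → K, aeval (Sum.elim y' (l • z)) (lin (k := k) LinearMap.id) =
        l ^ d * aeval (Sum.elim y' z) (lin (k := k) LinearMap.id) := fun y' => by
      simp only [lin, LinearMap.id_coe, id_eq, map_sum, map_mul, aeval_X, Sum.elim_inl, Finset.mul_sum]
      refine Finset.sum_congr rfl fun m _ => ?_
      have := LefGeo.eval_smul_of_isHomogeneous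
        (((mem_homogeneousSubmodule d _).1 (LefGeo.formBasis k r d m).2).map (algebraMap k K)) l z
      rw [MvPolynomial.eval_map, MvPolynomial.eval_map, ← aeval_def, ← aeval_def] at this
      simp only [aeval_rename, Function.comp_def, Sum.elim_inr]
      rw [this, mul_left_comm]
    rcases a with Q | (u | u) | ⟨α, β⟩
    · simp only [P, Sum.elim_inl, aeval_rename] at h ⊢
      obtain ⟨e, he, -⟩ := Q.2
      have := LefGeo.eval_smul_of_isHomogeneous (he.map (algebraMap k K)) l z
      rw [MvPolynomial.eval_map, MvPolynomial.eval_map, ← aeval_def, ← aeval_def] at this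
      exact this.trans (mul_eq_zero_of_right _ h)
    · simp only [P, Sum.elim_inr, Sum.elim_inl, aeval_rename, c1] at h ⊢
      rw [hlin, h, mul_zero]
    · simp only [P, Sum.elim_inr, Sum.elim_inl, aeval_rename, c2] at h ⊢
      rw [hlin, h, mul_zero]
    · obtain ⟨wα, hα⟩ := exists_lrow_weight i (d := d) l α
      obtain ⟨wβ, hβ⟩ := exists_lrow_weight i (d := d) l β
      simp only [P, Sum.elim_inr, map_sub, map_mul, aeval_rename, c1, c2] at h ⊢
      rw [hα, hβ, hβ, hα]
      linear_combination wα * wβ * h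
  have key : ∀ (F G : LefPen.Form r k d) (z : Fin (r + 1) → k) (j : Fin (r + 1)), z j = 1 →
      ((∀ a, eval (Sum.elim (Sum.elim (crd F) (crd G)) z) (P a) = 0) ↔ BadPair i z F G) := by
    intro F G z j hzj
    have v1 : eval (Sum.elim (crd F) z) (lin (k := k) LinearMap.id) = eval z F.1 := eval_lin _ F z
    have v2 : eval (Sum.elim (crd G) z) (lin (k := k) LinearMap.id) = eval z G.1 := eval_lin _ G z
    constructor
    · intro h
      have hF : eval z F.1 = 0 := by
        rw [← v1]; simpa [P, eval_rename, c1] using h (Sum.inr (Sum.inl (Sum.inl ())))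
      have hG : eval z G.1 = 0 := by
        rw [← v2]; simpa [P, eval_rename, c2] using h (Sum.inr (Sum.inl (Sum.inr ())))
      have hcone : InCone i z := fun Q hQ => by
        simpa [P, eval_rename, Function.comp_def] using h (Sum.inl ⟨Q, hQ⟩)
      have hprod : ∀ α β, eval (Sum.elim (crd F) z) (lrow i n d α) * eval (Sum.elim (crd G) z) (lrow i n d β) =
          eval (Sum.elim (crd F) z) (lrow i n d β) * eval (Sum.elim (crd G) z) (lrow i n d α) := fun α β => by
        simpa [P, eval_rename, c1, c2, sub_eq_zero] using h (Sum.inr (Sum.inr (α, β)))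
      refine ⟨hF, hG, ?_⟩
      suffices hex : ∃ a b : k, (a ≠ 0 ∨ b ≠ 0) ∧ ∀ α,
          a * eval (Sum.elim (crd F) z) (lrow i n d α) + b * eval (Sum.elim (crd G) z) (lrow i n d α) = 0 by
        obtain ⟨a, b, hab, h0⟩ := hex
        exact ⟨a, b, hab, (badAt_iff_lrow (n := n) i _ hzj).2
          ⟨hcone, by simp [smul_eval, hF, hG], fun α => by rw [eval_lrow_combo]; exact h0 α⟩⟩
      by_cases hall : ∀ α, eval (Sum.elim (crd F) z) (lrow i n d α) = 0
      · exact ⟨1, 0, Or.inl one_ne_zero, fun α => by simp [hall α]⟩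
      · push Not at hall
        obtain ⟨α₀, hα₀⟩ := hall
        exact ⟨eval (Sum.elim (crd G) z) (lrow i n d α₀), -eval (Sum.elim (crd F) z) (lrow i n d α₀),
          Or.inr (neg_ne_zero.2 hα₀), fun α => by linear_combination -(hprod α₀ α)⟩
    · rintro ⟨hF, hG, a, b, hab, hbad⟩
      obtain ⟨hcone, -, hl⟩ := (badAt_iff_lrow (n := n) i _ hzj).1 hbad
      rintro (Q | (u | u) | ⟨α, β⟩)
      · simpa [P, eval_rename, Function.comp_def] using hcone Q.1 Q.2
      · simp [P, eval_rename, c1, v1, hF]
      · simp [P, eval_rename, c2, v2, hG]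
      · have hα := hl α
        have hβ := hl β
        rw [eval_lrow_combo] at hα hβ
        simp only [P, Sum.elim_inr, map_sub, map_mul, eval_rename, c1, c2, Sum.elim_inl]
        rcases hab with ha | hb
        · refine (mul_eq_zero.1 (?_ : a * _ = 0)).resolve_left ha
          linear_combination eval (Sum.elim (crd G) z) (lrow i n d β) * hα -
            eval (Sum.elim (crd G) z) (lrow i n d α) * hβ
        · refine (mul_eq_zero.1 (?_ : b * _ = 0)).resolve_left hb
          linear_combination eval (Sum.elim (crd F) z) (lrow i n d α) * hβ -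
            eval (Sum.elim (crd F) z) (lrow i n d β) * hα
  have hnorm : ∀ (F G : LefPen.Form r k d) v, BadPair i v F G → ∀ c : k, c ≠ 0 → BadPair i (c • v) F G := by
    rintro F G v ⟨hF, hG, a, b, hab, hbad⟩ c hc
    exact ⟨by rw [LefGeo.eval_smul_of_isHomogeneous ((mem_homogeneousSubmodule d _).1 F.2), hF, mul_zero],
      by rw [LefGeo.eval_smul_of_isHomogeneous ((mem_homogeneousSubmodule d _).1 G.2), hG, mul_zero],
      a, b, hab, hbad.smul i hc⟩
  obtain ⟨p, hp, hp'⟩ := LefGeo.exists_poly_no_nontrivial_zero P hP (Sum.elim (crd F) (crd G)) (fun z hz => by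
    by_contra! hall
    obtain ⟨j, hj⟩ := Function.ne_iff.1 hz
    have h' : ∀ a, eval (Sum.elim (Sum.elim (crd F) (crd G)) ((z j)⁻¹ • z)) (P a) = 0 := fun a => by
      rw [← aeval_eq_eval]
      exact hP k a _ z _ (by rw [aeval_eq_eval]; exact hall a)
    have hz' : ((z j)⁻¹ • z) j = 1 := inv_mul_cancel₀ hj
    exact hFG _ (fun h0 => zero_ne_one ((congrFun h0 j).symm.trans hz')) ((key F G _ j hz').1 h'))
  refine ⟨p, hp, fun F' G' hH v hv hbad => ?_⟩
  obtain ⟨j, hj⟩ := Function.ne_iff.1 hv
  have hz' : ((v j)⁻¹ • v) j = 1 := inv_mul_cancel₀ hj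
  obtain ⟨a, ha⟩ := hp' _ hH _ (fun h0 => zero_ne_one ((congrFun h0 j).symm.trans hz'))
  exact ha ((key F' G' _ j hz').2 (hnorm F' G' v hbad _ (inv_ne_zero hj)) a)

end

end Groth.Agent.LefPenLib
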