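import Groth.Agent.LefPenLib.QuadPt
import Mathlib.RingTheory.RingHom.Smooth

/-!
# Smoothness and quadratic singularities of a cut at a rational point
-/

universe u

open CategoryTheory AlgebraicGeometry

namespace Groth.Agent.LefPenLib

noncomputable section

variable {k : Type u} [Field k]

/-- A singular cut does not have a power series ring as completion. -/
theorem not_algEquiv_powerSeries {n m : ℕ} {f : MvPowerSeries (Fin n) k} (hf : f ∈ PSLib.vars n k ^ 2) (hf0 : f ≠ 0)
    (θ : (MvPowerSeries (Fin n) k ⧸ Ideal.span {f}) ≃ₐ[k]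
      MvPowerSeries (Fin m) k ⧸ Ideal.span {(0 : MvPowerSeries (Fin m) k)}) : False := by
  classical
  have hf1 := Ideal.pow_le_self two_ne_zero hf
  haveI := PSQuad.isLocalRing_quot hf1
  haveI := PSQuad.isLocalRing_quot (zero_mem (PSLib.vars m k))
  haveI := PSQuad.isAdicComplete_quot (k := k) (h := (0 : MvPowerSeries (Fin m) k))
  haveI := PSQuad.isAdicComplete_quot (k := k) (h := f)
  let mf := Ideal.Quotient.mkₐ k (Ideal.span {f})
  let mg := Ideal.Quotient.mkₐ k (Ideal.span {(0 : MvPowerSeries (Fin m) k)})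
  have hg : Function.Injective mg := fun x y h => by
    have h' := (Ideal.Quotient.eq).1 h
    rwa [Ideal.span_singleton_zero, Submodule.mem_bot, sub_eq_zero] at h'
  choose v hv using fun i => Ideal.Quotient.mk_surjective (θ (mf (MvPowerSeries.X i)))
  choose a ha using fun j => Ideal.Quotient.mk_surjective (θ.symm (mg (MvPowerSeries.X j)))
  have hvm : ∀ i, v i ∈ PSLib.vars m k := fun i => PSQuad.mem_vars_of_mk_mem (by
    rw [hv]
    intro hu
    refine PSQuad.mk_mem_maximalIdeal (h := f) (Ideal.subset_span ⟨i, rfl⟩) ?_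
    have := hu.map θ.symm
    rwa [θ.symm_apply_apply] at this)
  have ham : ∀ j, a j ∈ PSLib.vars n k := fun j => PSQuad.mem_vars_of_mk_mem (by
    rw [ha]
    intro hu
    refine PSQuad.mk_mem_maximalIdeal (h := (0 : MvPowerSeries (Fin m) k)) (Ideal.subset_span ⟨j, rfl⟩) ?_
    have := hu.map θ
    rwa [θ.apply_symm_apply] at this)
  obtain ⟨φ, hφ⟩ := PSLib.exists_algHom (R := k) (PSLib.vars m k) v hvm
  obtain ⟨η, hη⟩ := PSLib.exists_algHom (R := k) (PSLib.vars n k) a ham
  have hφm : ∀ i, φ (MvPowerSeries.X i) ∈ PSLib.vars m k := fun i => (hφ i).symm ▸ hvm i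
  have hηm : ∀ j, η (MvPowerSeries.X j) ∈ PSLib.vars n k := fun j => (hη j).symm ▸ ham j
  have h1 : mg.comp φ = (θ : _ →ₐ[k] _).comp mf := by
    refine PSLib.algHom_ext (I := IsLocalRing.maximalIdeal _) _ _
      (fun i => PSQuad.mk_mem_maximalIdeal (hφm i)) fun i => ?_
    show mg (φ (MvPowerSeries.X i)) = θ (mf (MvPowerSeries.X i))
    rw [hφ]; exact hv i
  have h2 : mf.comp η = (θ.symm : _ →ₐ[k] _).comp mg := by
    refine PSLib.algHom_ext (I := IsLocalRing.maximalIdeal _) _ _
      (fun i => PSQuad.mk_mem_maximalIdeal (hηm i)) fun i => ?_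
    show mf (η (MvPowerSeries.X i)) = θ.symm (mg (MvPowerSeries.X i))
    rw [hη]; exact ha i
  have h1' : ∀ x, mg (φ x) = θ (mf x) := fun x => AlgHom.congr_fun h1 x
  have h2' : ∀ x, mf (η x) = θ.symm (mg x) := fun x => AlgHom.congr_fun h2 x
  have hcomp : ∀ i, (η.comp φ) (MvPowerSeries.X i) ∈ PSLib.vars n k := fun i => by
    have := PSLib.map_pow_le η hηm 1
    rw [pow_one, pow_one] at this
    exact this (Ideal.mem_map_of_mem _ (hφm i))
  have hbij : Function.Bijective (η.comp φ) := by
    refine PSLib.bijective_of_first_order _ hcomp fun j => ?_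
    rw [← sub_sub_cancel ((η.comp φ) (MvPowerSeries.X j)) (MvPowerSeries.X j : MvPowerSeries (Fin n) k)]
    refine sub_mem (Submodule.mem_sup_left (Ideal.subset_span ⟨j, rfl⟩)) (Submodule.mem_sup_right ?_)
    refine (Ideal.span_le.2 (Set.singleton_subset_iff.2 hf)) (Ideal.Quotient.eq.1 ?_)
    show mf (η (φ (MvPowerSeries.X j))) = mf (MvPowerSeries.X j)
    rw [h2', h1', θ.symm_apply_apply]
  have hleft : ∀ y, φ (η y) = y := fun y => hg (by rw [h1', h2', θ.apply_symm_apply])
  have hφi : Function.Injective φ := fun x y h => hbij.1 (congrArg η h)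
  refine hf0 (hφi ?_)
  rw [map_zero]
  refine hg ?_
  rw [h1', map_zero, show mf f = 0 from Ideal.Quotient.eq_zero_iff_mem.2 (Ideal.mem_span_singleton_self f), map_zero]

variable {A : Type u} [CommRing A] [Algebra k A]

section Point

variable (h : A) (ev : A →ₐ[k] k) (hev : ev h = 0)

/-- the point of the cut -/
def evCut : A ⧸ Ideal.span {h} →ₐ[k] k :=
  Ideal.Quotient.liftₐ _ ev fun a ha => by
    obtain ⟨c, rfl⟩ := Ideal.mem_span_singleton'.1 ha
    rw [map_mul, hev, mul_zero]

theorem evCut_mk (a : A) : evCut h ev hev (Ideal.Quotient.mk _ a) = ev a := rfl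

instance isMaximal_ker_evCut : (RingHom.ker (evCut h ev hev)).IsMaximal :=
  RingHom.ker_isMaximal_of_surjective (evCut h ev hev) fun c => ⟨algebraMap k _ c, (evCut h ev hev).commutes c⟩

theorem map_ker_mk :
    (RingHom.ker ev).map (Ideal.Quotient.mk (Ideal.span {h})) = RingHom.ker (evCut h ev hev) := by
  refine le_antisymm (Ideal.map_le_iff_le_comap.2 fun a ha => ha) fun x hx => ?_
  obtain ⟨a, rfl⟩ := Ideal.Quotient.mk_surjective x
  exact Ideal.mem_map_of_mem _ hx

variable {n : ℕ}

/-- completion of the local ring of a cut -/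
theorem nonempty_completion_cut [IsNoetherianRing A] (P : FPt ev n) :
    Nonempty ((MvPowerSeries (Fin n) k ⧸ Ideal.span {P.φ h}) ≃ₐ[k]
      AdicCompletion (IsLocalRing.maximalIdeal (Localization.AtPrime (RingHom.ker (evCut h ev hev))))
        (Localization.AtPrime (RingHom.ker (evCut h ev hev)))) := by
  set M := RingHom.ker (evCut h ev hev) with hM
  haveI : IsNoetherianRing (Localization.AtPrime M) := IsLocalization.isNoetherianRing M.primeCompl _ inferInstance
  refine P.exists_completion_cut h hev (Localization.AtPrime M)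
    ((IsScalarTower.toAlgHom k (A ⧸ Ideal.span {h}) (Localization.AtPrime M)).comp (Ideal.Quotient.mkₐ k _)) ?_ ?_ ?_ ?_
  · show algebraMap _ _ (Ideal.Quotient.mk (Ideal.span {h}) h) = 0
    rw [Ideal.Quotient.eq_zero_iff_mem.2 (Ideal.mem_span_singleton_self h), map_zero]
  · show (RingHom.ker ev).map ((algebraMap _ (Localization.AtPrime M)).comp (Ideal.Quotient.mk (Ideal.span {h}))) = _
    rw [← Ideal.map_map, map_ker_mk h ev hev]
    exact Localization.AtPrime.map_eq_maximalIdeal
  · intro s
    obtain ⟨⟨x, y⟩, hxy⟩ := IsLocalization.surj M.primeCompl s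
    obtain ⟨x', hx'⟩ := Ideal.Quotient.mk_surjective x
    obtain ⟨y', hy'⟩ := Ideal.Quotient.mk_surjective (y : A ⧸ Ideal.span {h})
    refine ⟨x', y', fun h0 => y.2 ?_, ?_⟩
    · rw [← hy']; exact h0
    · show s * algebraMap _ _ (Ideal.Quotient.mk (Ideal.span {h}) y') = algebraMap _ _ (Ideal.Quotient.mk (Ideal.span {h}) x')
      rw [hy', hx']
      exact hxy
  · intro T _ _ g hg hu
    refine ⟨IsLocalization.liftAlgHom (M := M.primeCompl) (f := Ideal.Quotient.liftₐ _ g (fun a ha => by
      obtain ⟨c, rfl⟩ := Ideal.mem_span_singleton'.1 ha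
      rw [map_mul, hg, mul_zero])) (fun y => ?_), fun x => IsLocalization.lift_eq _ (Ideal.Quotient.mk _ x)⟩
    obtain ⟨y', hy'⟩ := Ideal.Quotient.mk_surjective (y : A ⧸ Ideal.span {h})
    rw [← hy']
    exact hu y' fun h0 => y.2 (by rw [← hy']; exact h0)

variable [IsAlgClosed k] [IsDomain A] [Algebra.FiniteType k A]

/-- A cut is smooth at a rational point iff its equation does not vanish there to second order. -/
theorem isSmoothAt_cut_iff (P : FPt ev n) (hh : h ≠ 0) (F : A) (hF : ev F ≠ 0)
    [Algebra.IsStandardSmoothOfRelativeDimension n k (Localization.Away F)] :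
    Algebra.IsSmoothAt k (RingHom.ker (evCut h ev hev)) ↔ h ∉ RingHom.ker ev ^ 2 := by
  classical
  haveI : IsNoetherianRing A := Algebra.FiniteType.isNoetherianRing k A
  set M := RingHom.ker (evCut h ev hev) with hM
  constructor
  · intro hs hmem
    haveI : Algebra.FormallySmooth k (Localization.AtPrime M) := hs
    haveI : IsNoetherianRing (Localization.AtPrime M) := IsLocalization.isNoetherianRing M.primeCompl _ inferInstance
    have hres : ∀ s : Localization.AtPrime M,
        ∃ a : k, s - algebraMap k _ a ∈ IsLocalRing.maximalIdeal (Localization.AtPrime M) := fun s => by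
      obtain ⟨⟨x, y⟩, hxy⟩ := IsLocalization.surj M.primeCompl s
      have hy : evCut h ev hev y ≠ 0 := fun h0 => y.2 h0
      refine ⟨evCut h ev hev x / evCut h ev hev y, ?_⟩
      have hu : IsUnit (algebraMap _ (Localization.AtPrime M) (y : A ⧸ Ideal.span {h})) := IsLocalization.map_units _ y
      have h1 : (s - algebraMap k _ (evCut h ev hev x / evCut h ev hev y)) * algebraMap _ _ (y : A ⧸ Ideal.span {h}) ∈
          IsLocalRing.maximalIdeal (Localization.AtPrime M) := by
        rw [sub_mul, hxy, IsScalarTower.algebraMap_apply k (A ⧸ Ideal.span {h}) (Localization.AtPrime M), ← map_mul,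
          ← map_sub, ← Localization.AtPrime.map_eq_maximalIdeal]
        refine Ideal.mem_map_of_mem _ ?_
        show evCut h ev hev _ = 0
        simp [div_mul_cancel₀ _ hy]
      exact ((IsLocalRing.maximalIdeal.isMaximal _).isPrime.mem_or_mem h1).resolve_right fun h => h hu
    obtain ⟨m, ⟨e⟩⟩ := exists_completion_powerSeries (k := k) (Localization.AtPrime M) hres
    obtain ⟨e'⟩ := nonempty_completion_cut h ev hev P
    exact not_algEquiv_powerSeries ((P.mem_iff 2 h).2 hmem) (fun h0 => hh (P.φ_injective (by rw [h0, map_zero])))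
      (e'.trans e)
  · intro hnot
    haveI : Algebra.IsStandardSmooth k (Localization.Away F) :=
      Algebra.IsStandardSmoothOfRelativeDimension.isStandardSmooth n
    let evB : Localization.Away F →ₐ[k] k :=
      IsLocalization.liftAlgHom (M := Submonoid.powers F) (f := ev) (fun y => by
        obtain ⟨_, N, rfl⟩ := y
        rw [map_pow]; exact (isUnit_iff_ne_zero.2 hF).pow N)
    have hcomp : ∀ a, evB (algebraMap A _ a) = ev a := fun a => IsLocalization.lift_eq _ a
    haveI : Nontrivial (Localization.Away F) := evB.toRingHom.domain_nontrivial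
    let bas := Module.finBasisOfFinrankEq (Localization.Away F) _ (BertiniAff.finrank_kaehler (k := k) n)
    obtain ⟨b, hb⟩ : ∃ b, evB (bas.repr (KaehlerDifferential.D k _ (algebraMap A _ h)) b) ≠ 0 := by
      by_contra! hz
      refine hnot (mem_sq_of_away ev evB hcomp F hev (mem_sq_of_D evB (by rw [hcomp, hev]) ?_))
      rw [← bas.sum_repr (KaehlerDifferential.D k _ (algebraMap A _ h))]
      exact Submodule.sum_mem _ fun b _ => Submodule.smul_mem_smul (RingHom.mem_ker.2 (hz b)) Submodule.mem_top
    have hcomap : M.comap (Ideal.Quotient.mk (Ideal.span {h})) = RingHom.ker ev := rfl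
    obtain ⟨f, hf, hfs⟩ := exists_nhd_of_phi n h F M inferInstance (by rw [hcomap]; exact hF) (bas.coord b) (by
      rw [hcomap]
      intro hmem
      refine hb ?_
      have hle : (RingHom.ker ev).map (algebraMap A (Localization.Away F)) ≤ RingHom.ker evB :=
        Ideal.map_le_iff_le_comap.2 fun a ha => by
          rw [Ideal.mem_comap, RingHom.mem_ker, hcomp]; exact ha
      exact RingHom.mem_ker.1 (hle hmem))
    haveI : Algebra.FiniteType k (A ⧸ Ideal.span {h}) :=
      Algebra.FiniteType.of_surjective (Ideal.Quotient.mkₐ k _) Ideal.Quotient.mk_surjective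
    haveI : Algebra.FinitePresentation k (A ⧸ Ideal.span {h}) :=
      Algebra.FinitePresentation.of_finiteType.1 inferInstance
    haveI := hfs
    have hs : Smooth (Spec.map (CommRingCat.ofHom (algebraMap k (Localization.Away f)))) :=
      SmoothOfRelativeDimension.smooth (n - 1) _
    rw [HasRingHomProperty.Spec_iff (P := @Smooth), CommRingCat.hom_ofHom, RingHom.smooth_algebraMap] at hs
    exact (Algebra.basicOpen_subset_smoothLocus_iff_smooth (R := k) (f := f)).2 hs
      (show (⟨M, inferInstance⟩ : PrimeSpectrum (A ⧸ Ideal.span {h})) ∈ PrimeSpectrum.basicOpen f from hf)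

end Point

end

end Groth.Agent.LefPenLib
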