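import Groth.Agent.LefPenLib.BadPair
import Groth.Agent.LefPenLib.CutPoint

/-!
# Transversality of the base locus of a pencil
-/

universe u

open CategoryTheory AlgebraicGeometry Opposite TopologicalSpace

namespace Groth.Agent.LefPenLib

noncomputable section

variable {k : Type u} [Field k] {r n d : ℕ}

/-- smoothness of the double quotient -/
theorem smooth_quot_quot_iff {A : Type u} [CommRing A] [Algebra k A] (m : ℕ) (f g : A) :
    SmoothOfRelativeDimension m (Spec.map (CommRingCat.ofHom
      ((Ideal.Quotient.mk (Ideal.span {Ideal.Quotient.mk (Ideal.span {f}) g})).comp (algebraMap k (A ⧸ Ideal.span {f}))))) ↔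
    SmoothOfRelativeDimension m (Spec.map (CommRingCat.ofHom
      ((Ideal.Quotient.mk (Ideal.span {f, g})).comp (algebraMap k A)))) := by
  have hI : (Ideal.span {g}).map (Ideal.Quotient.mk (Ideal.span {f})) =
      Ideal.span {Ideal.Quotient.mk (Ideal.span {f}) g} := by rw [Ideal.map_span, Set.image_singleton]
  have hJ : Ideal.span {f} ⊔ Ideal.span {g} = Ideal.span {f, g} := (Ideal.span_insert f {g}).symm
  let e : ((A ⧸ Ideal.span {f}) ⧸ Ideal.span {Ideal.Quotient.mk (Ideal.span {f}) g}) ≃+* (A ⧸ Ideal.span {f, g}) :=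
    (Ideal.quotEquivOfEq hI.symm).trans ((DoubleQuot.quotQuotEquivQuotSup _ _).trans (Ideal.quotEquivOfEq hJ))
  have he : e.toRingHom.comp ((Ideal.Quotient.mk (Ideal.span {Ideal.Quotient.mk (Ideal.span {f}) g})).comp
      (algebraMap k (A ⧸ Ideal.span {f}))) = (Ideal.Quotient.mk (Ideal.span {f, g})).comp (algebraMap k A) :=
    RingHom.ext fun c => rfl
  haveI : IsIso (CommRingCat.ofHom e.toRingHom) :=
    ⟨⟨CommRingCat.ofHom e.symm.toRingHom, by ext z; simp, by ext z; simp⟩⟩
  rw [← he, CommRingCat.ofHom_comp _ e.toRingHom, Spec.map_comp,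
    MorphismProperty.cancel_left_of_respectsIso (P := @SmoothOfRelativeDimension m)]

variable {X : Scheme.{u}} (i : X ⟶ CohB1.ProjSpace r k) [IsClosedImmersion i]
  [IrreducibleSpace X] [SmoothOfRelativeDimension n (i ≫ CohB1.ProjSpace.toSpec r k)] [IsAlgClosed k]

variable (F G : LefPen.Form r k d)

/-- the map to the coordinate ring of a hypersurface section -/
abbrev psiCut (j : Fin (r + 1)) : MvPolynomial (Fin (r + 1)) k →ₐ[k] Γ(X, chartX i j) ⧸ Ideal.span {psi i j F.1} :=
  (Ideal.Quotient.mkₐ k _).comp (psi i j)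

include n in
/-- a bad pair is a point of the section where the second form is singular -/
theorem no_badPair_iff (hn : 1 ≤ n)
    (hF : LefPen.Transversal k n 1 (LefPen.secToSpec i ({F} : Set (LefPen.Form r k d)))) :
    (∀ v : Fin (r + 1) → k, v ≠ 0 → ¬ BadPair i v F G) ↔
      ∀ j (e : (Γ(X, chartX i j) ⧸ Ideal.span {psi i j F.1}) →ₐ[k] k), psiCut i F j G.1 ∉ RingHom.ker e ^ 2 := by
  classical
  have hnb : ∀ v : Fin (r + 1) → k, v ≠ 0 → ¬ BadAt i v F := fun v hv hbad =>
    (not_transversal_iff_badAt i hn F).2 ⟨v, hv, hbad⟩ hF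
  constructor
  · intro h j e he
    let ev := e.comp (Ideal.Quotient.mkₐ k (Ideal.span {psi i j F.1}))
    have hevF : ev (psi i j F.1) = 0 := by
      show e (Ideal.Quotient.mk _ _) = 0
      rw [Ideal.Quotient.eq_zero_iff_mem.2 (Ideal.mem_span_singleton_self _), map_zero]
    have hevG : ev (psi i j G.1) = 0 := Ideal.pow_le_self two_ne_zero he
    have hker : RingHom.ker e = (RingHom.ker ev).map (Ideal.Quotient.mk (Ideal.span {psi i j F.1})) := by
      rw [show RingHom.ker ev = (RingHom.ker e).comap (Ideal.Quotient.mk _) from rfl,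
        Ideal.map_comap_of_surjective _ Ideal.Quotient.mk_surjective]
    rw [hker, ← Ideal.map_pow, Ideal.mem_map_iff_of_surjective _ Ideal.Quotient.mk_surjective] at he
    obtain ⟨z, hz, hzG⟩ := he
    obtain ⟨a, ha⟩ := Ideal.mem_span_singleton'.1 (Ideal.Quotient.eq.1 hzG)
    have hsq : psi i j ((ev a) • F + (1 : k) • G).1 ∈ RingHom.ker ev ^ 2 := by
      have e1 : psi i j ((ev a) • F + (1 : k) • G).1 =
          z - (a - algebraMap k _ (ev a)) * psi i j F.1 := by
        rw [sub_mul, ha]
        simp only [one_smul, Submodule.coe_add, Submodule.coe_smul, map_add, map_smul, Algebra.smul_def, map_mul, AlgHom.commutes]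
        show _ + psi i j G.1 = z - (z - psi i j G.1 - _)
        ring
      rw [e1]
      refine sub_mem hz ?_
      rw [pow_two]
      exact Ideal.mul_mem_mul (by simp [RingHom.mem_ker]) hevF
    have hv : pt (psi i j) ev ≠ 0 := fun h0 => by
      have := pt_self i j ev; rw [h0] at this; exact zero_ne_one this
    refine h _ hv ⟨by rw [← ev_psi]; exact hevF, by rw [← ev_psi]; exact hevG, ev a, 1, Or.inr one_ne_zero,
      inCone_pt i j ev, (mem_sq_iff_grad (n := n) i _ j ev).1 hsq⟩
  · rintro h v hv ⟨hF0, hG0, a, b, hab, hbad⟩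
    obtain ⟨j, hj⟩ := Function.ne_iff.1 hv
    have hb : b ≠ 0 := by
      rintro rfl
      have ha : a ≠ 0 := hab.resolve_right (fun h' => h' rfl)
      rw [zero_smul, add_zero] at hbad
      refine hnb v hv ⟨hbad.1, hF0, ?_⟩
      have := Submodule.smul_mem (gradSpan i v) a⁻¹ hbad.2.2
      have e1 : a⁻¹ • grad v (a • F : LefPen.Form r k d).1 = grad v F.1 := by
        funext s; simp [grad, MvPolynomial.smul_eval, inv_mul_cancel_left₀ ha]
      rwa [e1] at this
    have hbad' := hbad.smul i (inv_ne_zero hj)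
    obtain ⟨ev, hev⟩ := exists_point (n := n) i hbad'.1 j (inv_mul_cancel₀ hj)
    have hevF : ev (psi i j F.1) = 0 := by
      rw [ev_psi, hev, LefGeo.eval_smul_of_isHomogeneous ((MvPolynomial.mem_homogeneousSubmodule d _).1 F.2), hF0,
        mul_zero]
    let e : (Γ(X, chartX i j) ⧸ Ideal.span {psi i j F.1}) →ₐ[k] k := evCut _ ev hevF
    refine h j e ?_
    have hsq : psi i j (a • F + b • G).1 ∈ RingHom.ker ev ^ 2 :=
      (mem_sq_iff_grad (n := n) i _ j ev).2 (by rw [hev]; exact hbad'.2)
    have h2 : Ideal.Quotient.mk (Ideal.span {psi i j F.1}) (psi i j (a • F + b • G).1) ∈ RingHom.ker e ^ 2 := by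
      refine (Ideal.pow_right_mono (?_ : (RingHom.ker ev).map (Ideal.Quotient.mk _) ≤ RingHom.ker e) 2) ?_
      · exact Ideal.map_le_iff_le_comap.2 fun x hx => hx
      · rw [← Ideal.map_pow]; exact Ideal.mem_map_of_mem _ hsq
    have e3 : psiCut i F j G.1 = algebraMap k _ b⁻¹ *
        Ideal.Quotient.mk (Ideal.span {psi i j F.1}) (psi i j (a • F + b • G).1) := by
      have hz : Ideal.Quotient.mkₐ k (Ideal.span {psi i j F.1}) (psi i j F.1) = 0 :=
        Ideal.Quotient.eq_zero_iff_mem.2 (Ideal.mem_span_singleton_self _)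
      simp only [← Ideal.Quotient.mkₐ_eq_mk k, Submodule.coe_add, Submodule.coe_smul, map_add, map_smul, hz,
        smul_zero, zero_add, ← Algebra.smul_def, smul_smul, inv_mul_cancel₀ hb, one_smul]
      rfl
    rw [e3]
    exact Ideal.mul_mem_left _ _ h2

include n in
/-- the charts of a transversal member -/
theorem exists_cut_chart (hn : 1 ≤ n)
    (hF : LefPen.Transversal k n 1 (LefPen.secToSpec i ({F} : Set (LefPen.Form r k d)))) :
    ∀ (j : Fin (r + 1)) (p : Ideal (Γ(X, chartX i j) ⧸ Ideal.span {psi i j F.1})), p.IsPrime → ∃ t, t ∉ p ∧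
      Algebra.IsStandardSmoothOfRelativeDimension (n - 1) k (Localization.Away t) := by
  -- the charts of the transversal member
  have hs : ∀ j, SmoothOfRelativeDimension (n - 1) (Spec.map (CommRingCat.ofHom
      ((Ideal.Quotient.mk (Ideal.span {psi i j F.1})).comp (algebraMap k Γ(X, chartX i j))))) := by
    intro j
    have h1 : SmoothOfRelativeDimension (n - 1) (LefPen.secToSpec i ({F} : Set (LefPen.Form r k d))) :=
      hF.elim And.right fun h' => absurd h'.1 (by omega)
    have h2 := (isZariskiLocal_iff (P := @SmoothOfRelativeDimension (n - 1)) i (LefPen.secIdeal i {F})).1 h1 j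
    rwa [secIdeal_chart, Set.image_singleton] at h2
  intro j p hp
  have h1 := hs j
  rw [HasRingHomProperty.Spec_iff (P := @SmoothOfRelativeDimension (n - 1)), CommRingCat.hom_ofHom] at h1
  obtain ⟨s, hspan, H⟩ := h1
  obtain ⟨t, hts, htp⟩ : ∃ t ∈ s, t ∉ p := by
    by_contra! hc
    exact hp.ne_top (top_le_iff.1 (hspan ▸ Ideal.span_le.2 hc))
  refine ⟨t, htp, ?_⟩
  rw [← RingHom.isStandardSmoothOfRelativeDimension_algebraMap,
    IsScalarTower.algebraMap_eq k (Γ(X, chartX i j) ⧸ Ideal.span {psi i j F.1}) (Localization.Away t)]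
  exact H t hts

include n in
/-- The base locus of a pencil with a transversal member is transversal iff the two forms are independent at every
common zero. -/
theorem transversal_two_iff (hn : 1 ≤ n) (F G : LefPen.Form r k d)
    (hF : LefPen.Transversal k n 1 (LefPen.secToSpec i ({F} : Set (LefPen.Form r k d)))) :
    LefPen.Transversal k n 2 (LefPen.secToSpec i ({F, G} : Set (LefPen.Form r k d))) ↔
      ∀ v : Fin (r + 1) → k, v ≠ 0 → ¬ BadPair i v F G := by
  classical
  have hnb : ∀ v : Fin (r + 1) → k, v ≠ 0 → ¬ BadAt i v F := fun v hv hbad =>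
    (not_transversal_iff_badAt i hn F).2 ⟨v, hv, hbad⟩ hF
  let ψ1 : ∀ j, MvPolynomial (Fin (r + 1)) k →ₐ[k] Γ(X, chartX i j) ⧸ Ideal.span {psi i j F.1} := fun j =>
    psiCut i F j
  have hψ1 : ∀ j, Function.Surjective (ψ1 j) := fun j => Ideal.Quotient.mk_surjective.comp (psi_surjective i j)
  have hchart := exists_cut_chart (n := n) i F hn hF
  have hpair := no_badPair_iff (n := n) i F G hn hF
  rw [hpair]
  have hchartIdeal : ∀ j, (LefPen.secIdeal i ({F, G} : Set (LefPen.Form r k d))).ideal (chartXA i j) =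
      Ideal.span {psi i j F.1, psi i j G.1} := fun j => by rw [secIdeal_chart, Set.image_pair]
  rcases Nat.lt_or_ge n 2 with h1 | h2
  · -- a curve
    have hT : LefPen.Transversal k n 2 (LefPen.secToSpec i ({F, G} : Set (LefPen.Form r k d))) ↔
        IsEmpty (LefPen.Sec i ({F, G} : Set (LefPen.Form r k d))) :=
      ⟨fun h => h.elim (fun h' => absurd h'.1 (by omega)) And.right, fun h => Or.inr ⟨h1, h⟩⟩
    rw [hT]
    refine (isEmpty_subscheme_iff i _).trans (forall_congr' fun j => ?_)
    rw [hchartIdeal]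
    haveI : Algebra.FiniteType k Γ(X, chartX i j) := Algebra.FiniteType.of_surjective _ (psi_surjective i j)
    constructor
    · intro htop e he
      let ev := e.comp (Ideal.Quotient.mkₐ k (Ideal.span {psi i j F.1}))
      have : Ideal.span {psi i j F.1, psi i j G.1} ≤ RingHom.ker ev := by
        refine Ideal.span_le.2 ?_
        rintro _ (rfl | rfl)
        · show e (Ideal.Quotient.mk _ _) = 0
          rw [Ideal.Quotient.eq_zero_iff_mem.2 (Ideal.mem_span_singleton_self _), map_zero]
        · show e (ψ1 j G.1) = 0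
          exact Ideal.pow_le_self two_ne_zero he
      rw [htop] at this
      exact (RingHom.ker_isPrime ev).ne_top (top_le_iff.1 this)
    · intro h
      by_contra hne
      obtain ⟨M, hM, hle⟩ := Ideal.exists_le_maximal _ hne
      obtain ⟨ev, hev⟩ := exists_ev (k := k) M
      rw [← hev] at hle
      have hF0 : ev (psi i j F.1) = 0 := hle (Ideal.subset_span (Or.inl rfl))
      have hG0 : ev (psi i j G.1) = 0 := hle (Ideal.subset_span (Or.inr rfl))
      refine h (evCut _ ev hF0) ((mem_sq_iff _ (hψ1 j) G.1).2 ⟨?_, fun w hw => ?_⟩)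
      · rw [← ev_psi]
        exact hG0
      · haveI : (RingHom.ker (evCut _ ev hF0)).IsPrime := RingHom.ker_isPrime _
        obtain ⟨t, ht, hts⟩ := hchart j (RingHom.ker (evCut _ ev hF0)) inferInstance
        have hfr := finrank_tanSpace_of_chart (n - 1) (hψ1 j) (evCut _ ev hF0) t ht
        rw [show n - 1 = 0 by omega, Submodule.finrank_eq_zero] at hfr
        rw [hfr, Submodule.mem_bot] at hw
        rw [hw, map_zero]
  · have hT : LefPen.Transversal k n 2 (LefPen.secToSpec i ({F, G} : Set (LefPen.Form r k d))) ↔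
        SmoothOfRelativeDimension (n - 1 - 1) (LefPen.secToSpec i ({F, G} : Set (LefPen.Form r k d))) := by
      rw [show n - 1 - 1 = n - 2 by omega]
      exact ⟨fun h => h.elim And.right fun h' => absurd h'.1 (by omega), fun h => Or.inl ⟨h2, h⟩⟩
    rw [hT]
    refine (isZariskiLocal_iff (P := @SmoothOfRelativeDimension (n - 1 - 1)) i _).trans (forall_congr' fun j => ?_)
    rw [hchartIdeal, ← smooth_quot_quot_iff]
    exact smooth_cut_iff (n - 1) (hψ1 j) (hchart j) (by omega) G.1

end

end Groth.Agent.LefPenLib
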