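import Groth.Agent.LefPenLib.Variety
import Groth.Agent.LefGeo.PolyFun
import Groth.Agent.S4228

/-!
# A generic hypersurface section of a smooth variety is transversal
-/

universe u

open CategoryTheory AlgebraicGeometry Opposite TopologicalSpace

namespace Groth.Agent.LefPenLib

noncomputable section

variable {r n d : ℕ} {k : Type u} [Field k] {X : Scheme.{u}} (i : X ⟶ CohB1.ProjSpace r k) [IsClosedImmersion i]
  [IrreducibleSpace X] [SmoothOfRelativeDimension n (i ≫ CohB1.ProjSpace.toSpec r k)]

/-- smooth of relative dimension `m` if it is so around every prime -/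
theorem smoothOfRelativeDimension_spec {m : ℕ} {C : Type u} [CommRing C] [Algebra k C]
    (h : ∀ q : Ideal C, q.IsPrime → ∃ f : C, f ∉ q ∧ SmoothOfRelativeDimension m
      (Spec.map (CommRingCat.ofHom (algebraMap k (Localization.Away f))))) :
    SmoothOfRelativeDimension m (Spec.map (CommRingCat.ofHom (algebraMap k C))) := by
  choose f hf hsm using fun q : PrimeSpectrum C => h q.asIdeal q.isPrime
  have hspan : Ideal.span (Set.range f) = ⊤ := by
    by_contra hne
    obtain ⟨M, hM, hle⟩ := Ideal.exists_le_maximal _ hne
    exact hf ⟨M, hM.isPrime⟩ (hle (Ideal.subset_span ⟨_, rfl⟩))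
  refine IsZariskiLocalAtSource.of_openCover (P := @SmoothOfRelativeDimension m)
    (Scheme.affineOpenCoverOfSpanRangeEqTop (R := CommRingCat.of C) f hspan).openCover fun q => ?_
  have := hsm q
  rw [IsScalarTower.algebraMap_eq k C (Localization.Away (f q)), CommRingCat.ofHom_comp, Spec.map_comp] at this
  exact this

/-- the forms of degree `d` whose section of the chart is smooth of dimension `n - 1` -/
theorem exists_poly_chart [Infinite k] (hd : 1 ≤ d) (j : Fin (r + 1)) :
    ∃ P : MvPolynomial (Fin (Module.finrank k (LefPen.Form r k d))) k, P ≠ 0 ∧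
      ∀ G : LefPen.Form r k d,
        MvPolynomial.eval (fun l => (LefGeo.formBasis k r d).repr G l) P ≠ 0 →
          SmoothOfRelativeDimension (n - 1) (Spec.map (CommRingCat.ofHom
            ((Ideal.Quotient.mk (Ideal.span {psi i j G.1})).comp (algebraMap k Γ(X, chartX i j))))) := by
  classical
  set A := Γ(X, chartX i j)
  cases subsingleton_or_nontrivial A with
  | inl hs =>
    refine ⟨1, one_ne_zero, fun G _ => ?_⟩
    show SmoothOfRelativeDimension (n - 1) (Spec.map (CommRingCat.ofHom (algebraMap k (A ⧸ Ideal.span {psi i j G.1}))))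
    refine smoothOfRelativeDimension_spec fun q hq => ?_
    haveI : Subsingleton (A ⧸ Ideal.span {psi i j G.1}) :=
      (Ideal.Quotient.mk_surjective).subsingleton
    exact absurd (Subsingleton.elim q ⊤) hq.ne_top
  | inr hn =>
    let b := LefGeo.formBasis k r d
    let x : Fin (Module.finrank k (LefPen.Form r k d)) → A := fun l => psi i j (b l).1
    have hlin : ∀ G : LefPen.Form r k d, psi i j G.1 = ∑ l, algebraMap k A (b.repr G l) * x l := fun G => by
      conv_lhs => rw [LefGeo.form_eq_sum G]
      simp [map_sum, x, b, Algebra.smul_def]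
      rfl
    let T : Fin (r + 1) → LefPen.Form r k d := fun l => ⟨MvPolynomial.X l * MvPolynomial.X j ^ (d - 1), by
      refine (MvPolynomial.mem_homogeneousSubmodule _ _).2 ?_
      simpa [Nat.add_sub_cancel' hd] using
        (MvPolynomial.isHomogeneous_X k l).mul (MvPolynomial.isHomogeneous_X_pow (R := k) j (d - 1))⟩
    have hT : ∀ l, psi i j (T l).1 = psi i j (MvPolynomial.X l) := fun l => by
      simp [T, psi_X_self]
    have hx : Function.Surjective (MvPolynomial.aeval x : MvPolynomial _ k →ₐ[k] A) := by
      rw [← AlgHom.range_eq_top, eq_top_iff]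
      rintro z -
      obtain ⟨P, rfl⟩ := psi_surjective i j z
      induction P using MvPolynomial.induction_on with
      | C c => exact ⟨MvPolynomial.C c, by simp [MvPolynomial.algebraMap_eq]; exact (AlgHom.commutes (psi i j) c).symm⟩
      | add p q hp hq => rw [map_add]; exact add_mem hp hq
      | mul_X p l hp =>
        rw [map_mul, ← hT l, hlin]
        exact mul_mem hp (Subalgebra.sum_mem _ fun l _ => mul_mem (Subalgebra.algebraMap_mem _ _)
          ⟨MvPolynomial.X l, by simp⟩)
    obtain ⟨g, hg0, hg⟩ := S4228.result k _ n A x hx (minimalPrimes_dim (n := n) i j)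
    obtain ⟨v, hv⟩ : ∃ v, MvPolynomial.eval v g ≠ 0 := by
      by_contra! h
      exact hg0 (MvPolynomial.funext fun v => by simpa using h v)
    -- absorb the constant term
    let c := b.repr (T j)
    have hone : (1 : A) = ∑ l, algebraMap k A (c l) * x l := by rw [← hlin, hT, psi_X_self]
    let sub : Fin (Module.finrank k (LefPen.Form r k d) + 1) →
        MvPolynomial (Fin (Module.finrank k (LefPen.Form r k d))) k :=
      Fin.cons (MvPolynomial.C (v 0)) fun l => MvPolynomial.X l - MvPolynomial.C (v 0 * c l)
    refine ⟨MvPolynomial.aeval sub g, fun h0 => hv ?_, fun G hG => ?_⟩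
    · have h' := congrArg (MvPolynomial.eval fun l => v l.succ + v 0 * c l) h0
      rw [map_zero, MvPolynomial.aeval_def, MvPolynomial.eval₂_comp_left
        (MvPolynomial.eval fun l => v l.succ + v 0 * c l)] at h'
      rw [← h']
      show MvPolynomial.eval₂ (RingHom.id k) v g = _
      congr 1
      · ext a; simp [MvPolynomial.algebraMap_eq]
      · funext l
        refine Fin.cases ?_ (fun l => ?_) l <;> simp [sub]
    · let a : Fin (Module.finrank k (LefPen.Form r k d) + 1) → k :=
        Fin.cons (v 0) fun l => b.repr G l - v 0 * c l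
      have ha : MvPolynomial.eval a g ≠ 0 := by
        convert hG using 1
        rw [MvPolynomial.aeval_def, MvPolynomial.eval₂_comp_left (MvPolynomial.eval fun l => b.repr G l)]
        show MvPolynomial.eval₂ (RingHom.id k) a g = _
        congr 1
        · ext t; simp [MvPolynomial.algebraMap_eq]
        · funext l
          refine Fin.cases ?_ (fun l => ?_) l <;> simp [sub, a]
      have hh : psi i j G.1 = algebraMap k A (a 0) + ∑ l, algebraMap k A (a l.succ) * x l := by
        rw [hlin]
        conv_rhs => arg 1; rw [← mul_one (algebraMap k A (a 0)), hone, Finset.mul_sum]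
        rw [← Finset.sum_add_distrib]
        refine Finset.sum_congr rfl fun l _ => ?_
        simp only [a, Fin.cons_zero, Fin.cons_succ, map_sub, map_mul]
        ring
      have key := hg a ha
      rw [← hh] at key
      show SmoothOfRelativeDimension (n - 1) (Spec.map (CommRingCat.ofHom (algebraMap k (A ⧸ Ideal.span {psi i j G.1}))))
      refine smoothOfRelativeDimension_spec fun q hq => key q hq ⟨1, fun h1 => ?_, ?_⟩
      · haveI := hq
        exact (Ideal.comap_isPrime (Ideal.Quotient.mk _) q).ne_top ((Ideal.eq_top_iff_one _).2 h1)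
      · haveI := smooth_chartX (n := n) i j
        haveI : Smooth (Spec.map (CommRingCat.ofHom (algebraMap k A))) := SmoothOfRelativeDimension.smooth n _
        haveI : IsOpenImmersion (Spec.map (CommRingCat.ofHom (algebraMap A (Localization.Away (1 : A))))) :=
          IsOpenImmersion.of_isLocalization (1 : A)
        rw [IsScalarTower.algebraMap_eq k A (Localization.Away (1 : A)), CommRingCat.ofHom_comp, Spec.map_comp]
        infer_instance

theorem isGeneric_transversal [Infinite k] (hn : 1 ≤ n) (hd : 1 ≤ d) :
    LefPen.IsGeneric k {H : LefPen.Form r k d |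
      LefPen.Transversal k n 1 (LefPen.secToSpec i ({H} : Set (LefPen.Form r k d)))} := by
  classical
  choose P hP0 hP using exists_poly_chart (n := n) i hd
  refine LefGeo.isGeneric_of_poly (LefGeo.formBasis k r d) (∏ j, P j)
    (Finset.prod_ne_zero_iff.2 fun j _ => hP0 j) fun G hG => Or.inl ⟨hn, ?_⟩
  rw [map_prod, Finset.prod_ne_zero_iff] at hG
  refine (isZariskiLocal_iff (P := @SmoothOfRelativeDimension (n - 1)) i (LefPen.secIdeal i {G})).2 fun j => ?_
  have e := secIdeal_chart i ({G} : Set (LefPen.Form r k d)) j
  rw [Set.image_singleton] at e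
  rw [e]
  exact hP j G (hG j (Finset.mem_univ j))

end

end Groth.Agent.LefPenLib
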