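import Groth.Agent.BertiniAff.Chart
import Mathlib.RingTheory.Nullstellensatz

/-!
# A generic element of a linear system vanishes nowhere to second order
-/

universe u

open KaehlerDifferential

namespace Groth.Agent.LefPenLib

variable {k : Type u} [Field k] [Infinite k] {A : Type u} [CommRing A] [Algebra k A]

/-- On a standard smooth chart, a generic element of a generating linear system vanishes nowhere to second order. -/
theorem exists_poly_not_sq {V : Type u} [AddCommGroup V] [Module k V] {N : ℕ} (b : Module.Basis (Fin N) k V)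
    (L : V →ₗ[k] A) (h1 : ∃ v, L v = 1) (hadj : Algebra.adjoin k (Set.range L) = ⊤) (F : A) (m : ℕ)
    [Algebra.IsStandardSmoothOfRelativeDimension m k (Localization.Away F)] :
    ∃ p : MvPolynomial (Fin N) k, p ≠ 0 ∧ ∀ v, MvPolynomial.eval (fun l => b.repr v l) p ≠ 0 →
      ∀ ev : A →ₐ[k] k, ev F ≠ 0 → L v ∉ RingHom.ker ev ^ 2 := by
  classical
  have hlift : ∀ ev : A →ₐ[k] k, ev F ≠ 0 → ∃ e : Localization.Away F →ₐ[k] k,
      ∀ a, e (algebraMap A _ a) = ev a := fun ev hev =>
    ⟨IsLocalization.liftAlgHom (M := Submonoid.powers F) (f := ev) (fun y => by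
      obtain ⟨_, N, rfl⟩ := y
      rw [map_pow]; exact (isUnit_iff_ne_zero.2 hev).pow N), fun a => IsLocalization.lift_eq _ a⟩
  cases subsingleton_or_nontrivial (Localization.Away F) with
  | inl hs =>
    refine ⟨1, one_ne_zero, fun v _ ev hev _ => ?_⟩
    obtain ⟨e, -⟩ := hlift ev hev
    haveI : Nontrivial (Localization.Away F) := e.toRingHom.domain_nontrivial
    exact not_subsingleton (Localization.Away F) hs
  | inr hn =>
    let x : Fin N → A := fun l => L (b l)
    have hlin : ∀ v, L v = ∑ l, algebraMap k A (b.repr v l) * x l := fun v => by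
      conv_lhs => rw [← b.sum_repr v]
      simp only [map_sum, map_smul, x, Algebra.smul_def]
    have hx : Function.Surjective (MvPolynomial.aeval x : MvPolynomial _ k →ₐ[k] A) := by
      rw [← AlgHom.range_eq_top, eq_top_iff, ← hadj, Algebra.adjoin_le_iff]
      rintro _ ⟨v, rfl⟩
      rw [hlin]
      exact Subalgebra.sum_mem _ fun l _ => mul_mem (Subalgebra.algebraMap_mem _ _) ⟨MvPolynomial.X l, by simp⟩
    obtain ⟨g, hg0, hg⟩ := BertiniAff.exists_bad (k := k) m x hx F
    obtain ⟨w, hw⟩ : ∃ w, MvPolynomial.eval w g ≠ 0 := by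
      by_contra! h
      exact hg0 (MvPolynomial.funext fun v => by simpa using h v)
    obtain ⟨v1, hv1⟩ := h1
    let sub : Fin (N + 1) → MvPolynomial (Fin N) k :=
      Fin.cons (MvPolynomial.C (w 0)) fun l => MvPolynomial.X l - MvPolynomial.C (w 0 * b.repr v1 l)
    have hsub : ∀ u : Fin N → k, MvPolynomial.eval u (MvPolynomial.aeval sub g) =
        MvPolynomial.eval (Fin.cons (w 0) fun l => u l - w 0 * b.repr v1 l) g := fun u => by
      rw [← MvPolynomial.aeval_eq_eval u, ← AlgHom.comp_apply, MvPolynomial.comp_aeval,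
        ← MvPolynomial.aeval_eq_eval]
      congr 2
      funext l
      refine Fin.cases ?_ (fun l => ?_) l <;> simp [sub]
    refine ⟨MvPolynomial.aeval sub g, fun h0 => hw ?_, fun v hv ev hev hsq => ?_⟩
    · have := hsub fun l => w l.succ + w 0 * b.repr v1 l
      rw [h0, map_zero] at this
      rw [this]
      congr 2
      funext l
      refine Fin.cases ?_ (fun l => ?_) l <;> simp
    rw [hsub] at hv
    let a : Fin (N + 1) → k := Fin.cons (w 0) fun l => b.repr v l - w 0 * b.repr v1 l
    have hh : L v = algebraMap k A (a 0) + ∑ l, algebraMap k A (a l.succ) * x l := by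
      rw [hlin]
      conv_rhs => arg 1; rw [← mul_one (algebraMap k A (a 0)), ← hv1, hlin, Finset.mul_sum]
      rw [← Finset.sum_add_distrib]
      refine Finset.sum_congr rfl fun l _ => ?_
      simp only [a, Fin.cons_zero, Fin.cons_succ, map_sub, map_mul]
      ring
    obtain ⟨e, he⟩ := hlift ev hev
    have hsqB : algebraMap A (Localization.Away F) (L v) ∈ RingHom.ker e ^ 2 := by
      refine Ideal.pow_right_mono (?_ : (RingHom.ker ev).map (algebraMap A _) ≤ RingHom.ker e) 2 ?_
      · exact Ideal.map_le_iff_le_comap.2 fun z hz => (he z).trans hz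
      · rw [← Ideal.map_pow]; exact Ideal.mem_map_of_mem _ hsq
    obtain ⟨φ, hφ⟩ := hg a hv (RingHom.ker e) (RingHom.ker_isPrime e)
      (by rw [← hh]; exact Ideal.pow_le_self two_ne_zero hsqB)
    rw [← hh] at hφ
    refine hφ ?_
    rw [pow_two] at hsqB
    refine Submodule.mul_induction_on hsqB (fun p hp q hq => ?_) (fun p q hp hq => ?_)
    · rw [Derivation.leibniz, map_add, map_smul, map_smul]
      exact add_mem (Ideal.mul_mem_right _ _ hp) (Ideal.mul_mem_right _ _ hq)
    · rw [map_add, map_add]; exact add_mem hp hq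

end Groth.Agent.LefPenLib
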