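import Groth.Agent.LefPenLib.Irred
import Mathlib.RingTheory.Smooth.Field
import Mathlib.RingTheory.Kaehler.JacobiZariski
import Mathlib.RingTheory.Kaehler.Polynomial
import Mathlib.RingTheory.AlgebraicIndependent.TranscendenceBasis
import Mathlib.Algebra.MvPolynomial.NoZeroDivisors

/-!
# The conormal direction of the variety of singular elements in characteristic zero
-/

universe u

open MvPolynomial
open scoped TensorProduct

namespace Groth.Agent.LefPenLib

noncomputable section

variable {k : Type u} [Field k]

theorem deriv_aeval {σ : Type*} [Fintype σ] {A M : Type*} [CommRing A] [Algebra k A] [AddCommGroup M] [Module A M]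
    [Module k M] [IsScalarTower k A M] (D : Derivation k A M) (x : σ → A) (p : MvPolynomial σ k) :
    D (aeval x p) = ∑ l, aeval x (pderiv l p) • D (x l) := by
  classical
  induction p using MvPolynomial.induction_on with
  | C c => simp
  | add p q hp hq => simp [map_add, hp, hq, add_smul, Finset.sum_add_distrib]
  | mul_X p j hp =>
    simp [map_mul, Derivation.leibniz, hp, pderiv_X, Pi.single_apply, add_smul, Finset.sum_add_distrib,
      Finset.smul_sum, mul_smul, apply_ite, ite_smul, smul_comm (x j), add_comm]

section Field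

variable {K : Type u} [Field K] [Algebra k K] [CharZero k]

/-- In characteristic zero algebraically independent elements have independent differentials. -/
theorem linearIndependent_D {ι : Type*} {v : ι → K} (hv : AlgebraicIndependent k v) :
    LinearIndependent K fun l => KaehlerDifferential.D k K (v l) := by
  classical
  let Q := MvPolynomial ι k
  letI : Algebra Q K := (aeval v).toRingHom.toAlgebra
  haveI : IsScalarTower k Q K := IsScalarTower.of_algebraMap_eq fun c => ((aeval v).commutes c).symm
  haveI : FaithfulSMul Q K := (faithfulSMul_iff_algebraMap_injective _ _).2 hv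
  let F := FractionRing Q
  letI : Algebra F K := FractionRing.liftAlgebra Q K
  haveI : CharZero F := charZero_of_injective_algebraMap (algebraMap k F).injective
  haveI : PerfectField F := PerfectField.ofCharZero
  obtain ⟨s, hs⟩ := exists_isTranscendenceBasis F K
  haveI : Algebra.IsAlgebraic (IntermediateField.adjoin F (Set.range ((↑) : s → K))) K := hs.isAlgebraic_field
  haveI : Algebra.FormallySmooth F K := Algebra.FormallySmooth.of_algebraicIndependent_of_isSeparable hs.1
  haveI : Algebra.FormallySmooth Q F := .of_isLocalization (nonZeroDivisors Q)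
  haveI : Algebra.FormallySmooth Q K := .comp Q F K
  have hinj : LinearMap.ker (KaehlerDifferential.mapBaseChange k Q K) = ⊥ := by
    refine LinearMap.ker_eq_bot'.2 fun z hz => ?_
    obtain ⟨w, rfl⟩ := (Algebra.H1Cotangent.exact_δ_mapBaseChange k Q K z).1 hz
    rw [Subsingleton.elim w 0, map_zero]
  have := ((KaehlerDifferential.mvPolynomialBasis k ι).baseChange K).linearIndependent.map' _ hinj
  have e : (fun l => KaehlerDifferential.D k K (v l)) = KaehlerDifferential.mapBaseChange k Q K ∘
      (KaehlerDifferential.mvPolynomialBasis k ι).baseChange K := funext fun l => by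
    rw [Function.comp_apply, Module.Basis.baseChange_apply, KaehlerDifferential.mvPolynomialBasis_apply,
      KaehlerDifferential.mapBaseChange_tmul, one_smul, KaehlerDifferential.map_D]
    exact congrArg (KaehlerDifferential.D k K) (aeval_X v l).symm
  rw [e]
  exact this

end Field

section Algebra

variable {A : Type u} [CommRing A] [Algebra k A] {V : Type u} [AddCommGroup V] [Module k V] (L : V →ₗ[k] A)
  (B : Type u) [CommRing B] [Algebra k B] [Algebra A B] [IsScalarTower k A B]

variable {L B} in
/-- the conditions of being singular at a point with values in an algebra -/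
def SingS {ι : Type*} (bas : Module.Basis ι B Ω[B⁄k]) {S : Type u} [CommRing S] [Algebra k S] (e : B →ₐ[k] S)
    (a : A) : Prop :=
  e (algebraMap A B a) = 0 ∧ ∀ s, e (bas.repr (KaehlerDifferential.D k B (algebraMap A B a)) s) = 0

variable {L B} in
/-- a singular element is singular on the points with values in `k` -/
theorem singS_iff {ι : Type*} [Fintype ι] (bas : Module.Basis ι B Ω[B⁄k]) (F : A) [IsLocalization.Away F B]
    (e : B →ₐ[k] k) (a : A) : a ∈ RingHom.ker (evA B e) ^ 2 ↔ SingS bas e a := by
  constructor
  · intro h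
    have hle : (RingHom.ker (evA B e)).map (algebraMap A B) ≤ RingHom.ker e :=
      Ideal.map_le_iff_le_comap.2 fun a ha => ha
    have hB : algebraMap A B a ∈ RingHom.ker e ^ 2 := by
      refine Ideal.pow_right_mono hle 2 ?_
      rw [← Ideal.map_pow]
      exact Ideal.mem_map_of_mem _ h
    refine ⟨Ideal.pow_le_self two_ne_zero hB, fun s => ?_⟩
    rw [pow_two] at hB
    refine Submodule.mul_induction_on hB (fun p hp q hq => ?_) (fun p q hp hq => ?_)
    · rw [Derivation.leibniz]
      simp [RingHom.mem_ker.1 hp, RingHom.mem_ker.1 hq]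
    · simp [hp, hq]
  · rintro ⟨h0, h1⟩
    refine mem_sq_of_away (A := A) (evA B e) e (fun a => rfl) F h0 (mem_sq_of_D e h0 ?_)
    rw [← bas.sum_repr (KaehlerDifferential.D k B (algebraMap A B a))]
    exact Submodule.sum_mem _ fun s _ =>
      Submodule.smul_mem_smul (RingHom.mem_ker.2 (h1 s)) Submodule.mem_top

/-- The projection to the elements singular at the points, as a matrix. -/
theorem exists_matrix {N : ℕ} (b : Module.Basis (Fin N) k V) {ι : Type*} [Fintype ι]
    (bas : Module.Basis ι B Ω[B⁄k]) (F : A) [IsLocalization.Away F B] (h1 : ∃ v, L v = 1)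
    (hadj : Algebra.adjoin k (Set.range L) = ⊤) :
    ∃ P : Fin N → Fin N → B,
      (∀ m, ∑ l, P l m * algebraMap A B (L (b l)) = 0) ∧
      (∀ m, ∑ l, P l m • KaehlerDifferential.D k B (algebraMap A B (L (b l))) = 0) ∧
      ∀ (S : Type u) [CommRing S] [Algebra k S] (e : B →ₐ[k] S) (v : V), SingS bas e (L v) →
        ∀ l, ∑ m, e (P l m) * algebraMap k S (b.repr v m) = algebraMap k S (b.repr v l) := by
  classical
  let x : Fin N → B := fun l => algebraMap A B (L (b l))
  let ω : Fin N → Ω[B⁄k] := fun l => KaehlerDifferential.D k B (x l)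
  have hL : ∀ v, algebraMap A B (L v) = ∑ l, algebraMap k B (b.repr v l) * x l := fun v => by
    conv_lhs => rw [← b.sum_repr v, map_sum, map_sum]
    simp [x, Algebra.smul_def, ← IsScalarTower.algebraMap_apply]
  have hDL : ∀ v, KaehlerDifferential.D k B (algebraMap A B (L v)) = ∑ l, algebraMap k B (b.repr v l) • ω l :=
    fun v => by
      rw [hL, map_sum]
      exact Finset.sum_congr rfl fun l _ => by simp [ω]
  have hspan : Submodule.span B (Set.range ω) = ⊤ := by
    rw [eq_top_iff, ← KaehlerDifferential.span_range_map_derivation_of_isLocalization (R := k) (S := A) (T := B)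
      (Submonoid.powers F), Submodule.span_le]
    rintro _ ⟨a, rfl⟩
    rw [Function.comp_apply, KaehlerDifferential.map_D, SetLike.mem_coe]
    induction (hadj ▸ Algebra.mem_top : a ∈ Algebra.adjoin k (Set.range L)) using Algebra.adjoin_induction with
    | mem y hy =>
      obtain ⟨v, rfl⟩ := hy
      rw [hDL]
      exact Submodule.sum_mem _ fun l _ => Submodule.smul_mem _ _ (Submodule.subset_span ⟨l, rfl⟩)
    | algebraMap c => simp [← IsScalarTower.algebraMap_apply]
    | add y z _ _ hy hz => rw [map_add, map_add]; exact add_mem hy hz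
    | mul y z _ _ hy hz =>
      rw [map_mul, Derivation.leibniz]
      exact add_mem (Submodule.smul_mem _ _ hz) (Submodule.smul_mem _ _ hy)
  obtain ⟨v1, hv1⟩ := h1
  let c0 : Fin N → B := fun l => algebraMap k B (b.repr v1 l)
  have hc0 : ∑ l, c0 l * x l = 1 := by rw [← hL, hv1, map_one]
  have hc0' : ∑ l, c0 l • ω l = 0 := by rw [← hDL, hv1, map_one, Derivation.map_one_eq_zero]
  have hcs : ∀ s, ∃ c : Fin N → B, ∑ l, c l * x l = 0 ∧ ∑ l, c l • ω l = bas s := fun s => by
    obtain ⟨c, hc⟩ := Submodule.mem_span_range_iff_exists_fun B |>.1 (hspan ▸ Submodule.mem_top : bas s ∈ _)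
    refine ⟨fun l => c l - (∑ m, c m * x m) * c0 l, ?_, ?_⟩
    · simp [sub_mul, mul_assoc, ← Finset.mul_sum, hc0]
    · simp [sub_smul, mul_smul, ← Finset.smul_sum, hc0', hc]
  choose cs hcs0 hcs1 using hcs
  let w : Fin N → ι → B := fun m s => bas.repr (ω m) s
  let P : Fin N → Fin N → B := fun l m => (if l = m then 1 else 0) - (c0 l * x m + ∑ s, cs s l * w m s)
  refine ⟨P, fun m => ?_, fun m => ?_, fun S _ _ e v hv l => ?_⟩
  · show ∑ l, P l m * x l = 0
    have e1 : ∑ l, c0 l * x m * x l = x m := by
      simp only [mul_right_comm _ (x m), ← Finset.sum_mul, hc0, one_mul]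
    have e2 : ∑ l, (∑ s, cs s l * w m s) * x l = 0 := by
      simp only [Finset.sum_mul]
      rw [Finset.sum_comm]
      simp only [mul_right_comm _ (w m _), ← Finset.sum_mul, hcs0, zero_mul, Finset.sum_const_zero]
    simp only [P, sub_mul, add_mul, Finset.sum_sub_distrib, Finset.sum_add_distrib, e1, e2, ite_mul,
      one_mul, zero_mul, Finset.sum_ite_eq', Finset.mem_univ, if_true, add_zero, sub_self]
  · show ∑ l, P l m • ω l = 0
    simp only [P, sub_smul, add_smul, Finset.sum_smul, Finset.sum_sub_distrib, Finset.sum_add_distrib, ite_smul,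
      one_smul, zero_smul, Finset.sum_ite_eq', Finset.mem_univ, if_true, mul_comm (c0 _), mul_comm (cs _ _),
      mul_smul, ← Finset.smul_sum, hc0', smul_zero, zero_add]
    rw [Finset.sum_comm]
    simp only [← Finset.smul_sum, hcs1, w, bas.sum_repr, sub_self]
  · obtain ⟨h0, h2⟩ := hv
    have h0' : ∑ m, e (x m) * algebraMap k S (b.repr v m) = 0 := by
      rw [← h0, hL, map_sum]
      exact Finset.sum_congr rfl fun m _ => by rw [map_mul, AlgHom.commutes, mul_comm]
    have h2' : ∀ s, ∑ m, e (w m s) * algebraMap k S (b.repr v m) = 0 := fun s => by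
      rw [← h2 s, hDL]
      simp [w, map_sum, Finsupp.coe_finsetSum, -algebraMap_smul, mul_comm]
    simp only [P, map_sub, map_add, map_mul, map_sum, sub_mul, add_mul, Finset.sum_mul, Finset.sum_sub_distrib,
      Finset.sum_add_distrib]
    rw [Finset.sum_comm (s := Finset.univ) (t := Finset.univ) (f := fun m s => e (cs s l) * _ * _)]
    simp only [mul_assoc, ← Finset.mul_sum, h0', h2', mul_zero, Finset.sum_const_zero, add_zero, sub_zero]
    simp [apply_ite e]

variable {L B}

/-- The differential of a polynomial vanishing on the singular elements is proportional to the system. -/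
theorem conormal_rel [CharZero k] [IsAlgClosed k] [IsDomain B] [Algebra.FiniteType k B] {N : ℕ}
    (b : Module.Basis (Fin N) k V) {ι : Type*} [Fintype ι]
    (bas : Module.Basis ι B Ω[B⁄k]) (F : A) [IsLocalization.Away F B] (h1 : ∃ v, L v = 1)
    (hadj : Algebra.adjoin k (Set.range L) = ⊤) {g : MvPolynomial (Fin N) k}
    (hgA : ∀ (e : B →ₐ[k] k) v, L v ∈ RingHom.ker (evA B e) ^ 2 → eval (fun l => b.repr v l) g = 0)
    (hdvd : ∀ p : MvPolynomial (Fin N) k,
      (∀ (e : B →ₐ[k] k) v, L v ∈ RingHom.ker (evA B e) ^ 2 → eval (fun l => b.repr v l) p = 0) → g ∣ p)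
    (l0 : Fin N) (hl0 : pderiv l0 g ≠ 0) {S : Type u} [CommRing S] [Algebra k S] (e : B →ₐ[k] S) (v : V)
    (hv : SingS bas e (L v)) (l : Fin N) :
    e (algebraMap A B (L (b l))) * algebraMap k S (eval (fun m => b.repr v m) (pderiv l0 g)) =
      e (algebraMap A B (L (b l0))) * algebraMap k S (eval (fun m => b.repr v m) (pderiv l g)) := by
  classical
  obtain ⟨P, hP0, hP1, hP2⟩ := exists_matrix L B b bas F h1 hadj
  let R := MvPolynomial (Fin N) B
  let h : Fin N → R := fun l => ∑ m, MvPolynomial.C (P l m) * MvPolynomial.X m
  let x : Fin N → B := fun l => algebraMap A B (L (b l))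
  -- specialisation
  have hΨ : ∀ (T : Type u) [CommRing T] [Algebra k T] (e : B →ₐ[k] T) (c : Fin N → T) (p : MvPolynomial (Fin N) k),
      aevalTower e c (aeval h p) = aeval (fun l => ∑ m, e (P l m) * c m) p := fun T _ _ e c p => by
    rw [← AlgHom.comp_apply, comp_aeval]
    exact congrArg (fun u => aeval u p) (funext fun l => by simp [h])
  have hg0 : aeval h g = (0 : R) := by
    refine MvPolynomial.ext _ _ fun t => (eq_zero_of_forall_ev (k := k) fun e => ?_).trans (coeff_zero t).symm
    suffices hm : MvPolynomial.map e.toRingHom (aeval h g) = 0 by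
      have := congrArg (coeff t) hm
      rw [coeff_map, coeff_zero] at this
      exact this
    refine MvPolynomial.funext fun c => ?_
    rw [map_zero, eval_map]
    rw [show eval₂ e.toRingHom c (aeval h g) = aevalTower e c (aeval h g) from rfl, hΨ, aeval_eq_eval]
    set u := b.equivFun.symm fun l => ∑ m, e (P l m) * c m
    have hu : (fun l => b.repr u l) = fun l => ∑ m, e (P l m) * c m := b.equivFun.apply_symm_apply _
    rw [← hu]
    refine hgA e u ((singS_iff bas F e _).2 ?_)
    have hLu : algebraMap A B (L u) = ∑ l, algebraMap k B (b.repr u l) * x l := by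
      conv_lhs => rw [← b.sum_repr u, map_sum, map_sum]
      simp [x, Algebra.smul_def, ← IsScalarTower.algebraMap_apply]
    refine ⟨?_, fun s => ?_⟩
    · rw [hLu, map_sum]
      simp only [map_mul, AlgHom.commutes, congrFun hu, Algebra.algebraMap_self, RingHom.id_apply, Finset.sum_mul]
      rw [Finset.sum_comm]
      refine Finset.sum_eq_zero fun m _ => ?_
      have := congrArg e (hP0 m)
      simp only [map_sum, map_mul, map_zero] at this
      simp only [mul_right_comm _ (c m), ← Finset.sum_mul, x, this, zero_mul]
    · rw [hLu]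
      simp only [map_sum, Derivation.leibniz, Derivation.map_algebraMap, smul_zero, add_zero, map_smul,
        Finsupp.coe_finsetSum, Finset.sum_apply, Finsupp.smul_apply, smul_eq_mul, map_mul, AlgHom.commutes,
        congrFun hu, Algebra.algebraMap_self, RingHom.id_apply, Finset.sum_mul]
      rw [Finset.sum_comm]
      refine Finset.sum_eq_zero fun m _ => ?_
      have := congrArg (fun z => e (bas.repr z s)) (hP1 m)
      simp only [map_sum, map_smul, Finsupp.coe_finsetSum, Finset.sum_apply, Finsupp.smul_apply, smul_eq_mul,
        map_mul, map_zero, Finsupp.zero_apply] at this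
      simp only [mul_right_comm _ (c m), ← Finset.sum_mul, x, this, zero_mul]
  have hker : ∀ p : MvPolynomial (Fin N) k, aeval h p = (0 : R) → g ∣ p := fun p hp => hdvd p fun e u hu => by
    have := hΨ k e (fun m => b.repr u m) p
    rw [hp, map_zero, aeval_eq_eval] at this
    rw [this]
    refine congrArg (fun c => eval c p) (funext fun l => ?_)
    exact (hP2 k e u ((singS_iff bas F e _).1 hu) l).symm
  -- independence
  let K := FractionRing R
  let hK : Fin N → K := fun l => algebraMap R K (h l)
  have hK' : ∀ p : MvPolynomial (Fin N) k, aeval hK p = algebraMap R K (aeval h p) :=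
    fun p => aeval_algebraMap_apply K h p
  have hind : AlgebraicIndependent k fun l : {l : Fin N // l ≠ l0} => hK l := by
    rw [algebraicIndependent_iff]
    intro p hp
    have h2 : aeval h (rename Subtype.val p) = (0 : R) := IsFractionRing.injective R K (by
      rw [map_zero, ← hK', aeval_rename]; exact hp)
    obtain ⟨q, hq⟩ := hker _ h2
    by_contra hp0
    have hr0 : rename Subtype.val p ≠ 0 := fun h => hp0 (rename_injective _ Subtype.val_injective (by simpa using h))
    rw [hq] at hr0
    have hd := congrArg (degreeOf l0) hq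
    rw [degreeOf_mul_eq (left_ne_zero_of_mul hr0) (right_ne_zero_of_mul hr0)] at hd
    have hl : degreeOf l0 (rename Subtype.val p) = 0 := by
      by_contra hne
      have := vars_rename Subtype.val p ((mem_vars _ ).2 (by
        rw [degreeOf_eq_sup] at hne
        by_contra! hc
        exact hne (Nat.le_zero.1 (Finset.sup_le fun t ht => le_of_eq (Finsupp.notMem_support_iff.1 (hc t ht))))))
      obtain ⟨a, -, ha⟩ := Finset.mem_image.1 this
      exact a.2 ha
    refine hl0 (pderiv_eq_zero_of_notMem_vars fun hm => ?_)
    obtain ⟨t, ht, ht'⟩ := (mem_vars _).1 hm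
    have hle := le_degreeOf_of_mem_support l0 ht
    have : t l0 = 0 := by omega
    exact Finsupp.mem_support_iff.1 ht' this
  have hD := linearIndependent_D hind
  -- differentials
  have hxh : ∑ l, MvPolynomial.C (x l) * h l = (0 : R) := by
    simp only [h, Finset.mul_sum, ← mul_assoc, ← map_mul]
    rw [Finset.sum_comm]
    refine Finset.sum_eq_zero fun m _ => ?_
    simp only [← Finset.sum_mul, ← map_sum, mul_comm (x _), x, hP0, map_zero, zero_mul]
  have hωh : ∑ l, h l • KaehlerDifferential.map k k B R (KaehlerDifferential.D k B (x l)) = 0 := by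
    have e1 : ∀ l, h l • KaehlerDifferential.map k k B R (KaehlerDifferential.D k B (x l)) =
        ∑ m, (MvPolynomial.X m : R) • KaehlerDifferential.map k k B R (P l m • KaehlerDifferential.D k B (x l)) :=
      fun l => (Finset.sum_smul (f := fun m => (MvPolynomial.C (P l m) * MvPolynomial.X m : R))).trans
        (Finset.sum_congr rfl fun m _ => by
          rw [LinearMap.map_smul, mul_comm, mul_smul, ← MvPolynomial.algebraMap_eq, algebraMap_smul])
    simp only [e1]
    rw [Finset.sum_comm]
    refine Finset.sum_eq_zero fun m _ => ?_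
    rw [← Finset.smul_sum, ← map_sum]
    simp only [x, hP1, map_zero, smul_zero]
  let D := KaehlerDifferential.D k K
  let Φ := KaehlerDifferential.map k k R K
  let α : Fin N → K := fun l => algebraMap R K (MvPolynomial.C (x l))
  let β : Fin N → K := fun l => aeval hK (pderiv l g)
  have eα : ∑ l, α l • D (hK l) = 0 := by
    have e1 : ∑ l, (MvPolynomial.C (x l) : R) • KaehlerDifferential.D k R (h l) = 0 := by
      have := congrArg (KaehlerDifferential.D k R) hxh
      simp only [map_sum, Derivation.leibniz, map_zero, Finset.sum_add_distrib, ← MvPolynomial.algebraMap_eq] at this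
      simp only [KaehlerDifferential.map_D] at hωh
      rw [hωh, add_zero] at this
      exact this
    have := congrArg Φ e1
    simpa [Φ, map_sum, map_smul, KaehlerDifferential.map_D, α, hK, D, algebra_compatible_smul K] using this
  have eβ : ∑ l, β l • D (hK l) = 0 := by
    rw [← deriv_aeval, hK', hg0, map_zero, map_zero]
  have hrel : ∀ l, α l * β l0 = α l0 * β l := by
    intro l
    by_cases hl : l = l0
    · rw [hl]
    have h3 : ∑ l, (β l0 * α l - α l0 * β l) • D (hK l) = 0 := by
      simp only [sub_smul, mul_smul, Finset.sum_sub_distrib, ← Finset.smul_sum, eα, eβ, smul_zero, sub_zero]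
    rw [← Finset.add_sum_erase _ _ (Finset.mem_univ l0), mul_comm (β l0), sub_self, zero_smul, zero_add,
      Finset.sum_subtype (Finset.univ.erase l0) (p := fun l => l ≠ l0) (by simp)] at h3
    have := Fintype.linearIndependent_iff.1 hD _ h3 ⟨l, hl⟩
    rw [sub_eq_zero] at this
    rw [← this, mul_comm]
  have hR : MvPolynomial.C (x l) * aeval h (pderiv l0 g) = MvPolynomial.C (x l0) * aeval h (pderiv l g) :=
    IsFractionRing.injective R K (by simpa only [map_mul, ← hK'] using hrel l)
  have := congrArg (aevalTower e fun m => algebraMap k S (b.repr v m)) hR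
  simp only [map_mul, aevalTower_C, hΨ, funext fun l => hP2 S e v hv l] at this
  have e2 : ∀ p : MvPolynomial (Fin N) k, aeval (fun m => algebraMap k S (b.repr v m)) p =
      algebraMap k S (eval (fun m => b.repr v m) p) := fun p => by
    rw [← aeval_eq_eval]
    exact aeval_algebraMap_apply S _ p
  rwa [e2, e2] at this

end Algebra

end

end Groth.Agent.LefPenLib
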