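import Groth.Agent.LefPenLib.Embedding
import Groth.Agent.LefPenLib.CharAlg
import Mathlib.Algebra.DualNumber

/-!
# In characteristic zero a hypersurface of singular forms has a form with one ordinary singular point
-/

universe u

open CategoryTheory AlgebraicGeometry Opposite TopologicalSpace
open MvPolynomial Matrix

namespace Groth.Agent.LefPenLib

noncomputable section

variable {k : Type u} [Field k]

section Poly

variable {σ : Type*} [Fintype σ]

theorem coeff_pderiv_ne [CharZero k] {g : MvPolynomial σ k} {t : σ →₀ ℕ} (ht : t ∈ g.support) {l : σ}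
    (hl : t l ≠ 0) : coeff (t - Finsupp.single l 1) (pderiv l g) ≠ 0 := by
  classical
  have e : t - Finsupp.single l 1 + Finsupp.single l 1 = t :=
    tsub_add_cancel_of_le (Finsupp.single_le_iff.2 (Nat.one_le_iff_ne_zero.2 hl))
  rw [coeff_pderiv, e]
  exact mul_ne_zero (mem_support_iff.1 ht) (Nat.cast_add_one_ne_zero _)

/-- A prime polynomial has a simple zero in characteristic zero. -/
theorem exists_simple_zero [CharZero k] [IsAlgClosed k] {g : MvPolynomial σ k} (hg : Prime g) :
    ∃ (l : σ) (y : σ → k), eval y g = 0 ∧ eval y (pderiv l g) ≠ 0 := by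
  classical
  obtain ⟨l, hl⟩ : ∃ l, pderiv l g ≠ 0 := by
    by_contra! h
    have hc : g = C (coeff 0 g) := by
      ext t
      rw [coeff_C]
      split_ifs with h0
      · rw [h0]
      · by_contra hne
        obtain ⟨l, hl⟩ : ∃ l, t l ≠ 0 := by
          by_contra! hz
          exact h0 (Finsupp.ext hz).symm
        exact coeff_pderiv_ne (mem_support_iff.2 hne) hl (by rw [h l, coeff_zero])
    rcases eq_or_ne (coeff 0 g) 0 with h0 | h0
    · exact hg.ne_zero (by rw [hc, h0, map_zero])
    · exact hg.not_unit (hc ▸ (isUnit_iff_ne_zero.2 h0).map C)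
  refine ⟨l, ?_⟩
  by_contra! hc
  have hprime : (Ideal.span {g}).IsPrime := (Ideal.span_singleton_prime hg.ne_zero).2 hg
  have hmem : pderiv l g ∈ (Ideal.span {g}).radical := by
    rw [← vanishingIdeal_zeroLocus_eq_radical (K := k), mem_vanishingIdeal_iff]
    intro y hy
    have hy0 : eval y g = 0 := by
      have := mem_zeroLocus_iff.1 hy g (Ideal.mem_span_singleton_self g)
      rwa [aeval_eq_eval] at this
    rw [aeval_eq_eval]
    exact hc y hy0
  rw [hprime.radical, Ideal.mem_span_singleton] at hmem
  obtain ⟨q, hq⟩ := hmem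
  have hq0 : g * q ≠ 0 := hq ▸ hl
  have h1 := congrArg totalDegree hq
  rw [totalDegree_mul_of_isDomain (left_ne_zero_of_mul hq0) (right_ne_zero_of_mul hq0)] at h1
  obtain ⟨t, ht, ht'⟩ := Finset.exists_mem_eq_sup _ (support_nonempty.2 hl) fun t : σ →₀ ℕ => t.sum fun _ e => e
  have ht2 : t + Finsupp.single l 1 ∈ g.support := by
    rw [mem_support_iff] at ht ⊢
    rw [coeff_pderiv] at ht
    exact left_ne_zero_of_mul ht
  have h2 := le_totalDegree ht2
  rw [Finsupp.sum_add_index' (fun _ => rfl) (fun _ _ _ => rfl), Finsupp.sum_single_index rfl] at h2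
  change totalDegree (pderiv l g) = _ at ht'
  omega

/-- values on first order arcs -/
theorem aeval_dual (v w : σ → k) (P : MvPolynomial σ k) :
    (aeval (fun s => TrivSqZeroExt.inl (v s) + TrivSqZeroExt.inr (w s) : σ → DualNumber k) P).fst = eval v P ∧
    (aeval (fun s => TrivSqZeroExt.inl (v s) + TrivSqZeroExt.inr (w s) : σ → DualNumber k) P).snd =
      ∑ l, eval v (pderiv l P) * w l := by
  classical
  induction P using MvPolynomial.induction_on with
  | C c => simp [TrivSqZeroExt.algebraMap_eq_inl]
  | add p q hp hq =>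
    simp only [map_add, TrivSqZeroExt.fst_add, TrivSqZeroExt.snd_add, hp.1, hp.2, hq.1, hq.2, add_mul,
      Finset.sum_add_distrib, and_self]
  | mul_X p j hp =>
    simp only [map_mul, aeval_X, eval_X, TrivSqZeroExt.fst_mul, TrivSqZeroExt.snd_mul, TrivSqZeroExt.fst_add,
      TrivSqZeroExt.snd_add, TrivSqZeroExt.fst_inl, TrivSqZeroExt.fst_inr, TrivSqZeroExt.snd_inl,
      TrivSqZeroExt.snd_inr, add_zero, zero_add, hp.1, hp.2, pderiv_mul, pderiv_X, map_add, add_mul,
      Finset.sum_add_distrib, Pi.single_apply, apply_ite (eval v), map_one, map_zero, ite_mul, one_mul, zero_mul,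
      mul_ite, mul_one, mul_zero, Finset.sum_ite_eq, Finset.mem_univ, if_true, smul_eq_mul, op_smul_eq_mul,
      true_and]
    rw [Finset.sum_mul, add_comm]
    exact congrArg (· + _) (Finset.sum_congr rfl fun s _ => by ring)

end Poly

variable {r n d : ℕ} {X : Scheme.{u}} (i : X ⟶ CohB1.ProjSpace r k) [IsClosedImmersion i]
  [IrreducibleSpace X] [SmoothOfRelativeDimension n (i ≫ CohB1.ProjSpace.toSpec r k)] [IsAlgClosed k]

omit [IsClosedImmersion i] [IrreducibleSpace X] [SmoothOfRelativeDimension n (i ≫ CohB1.ProjSpace.toSpec r k)]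
  [IsAlgClosed k] in
theorem eval_form_smul (G : LefPen.Form r k d) (c : k) (v : Fin (r + 1) → k) :
    eval (c • v) G.1 = c ^ d * eval v G.1 :=
  LefGeo.eval_smul_of_isHomogeneous ((mem_homogeneousSubmodule d _).1 G.2) c v

variable [CharZero k] {g : MvPolynomial (FormIdx k r d) k}
  (hgD : ∀ H : LefPen.Form r k d, ¬ LefPen.Transversal k n 1 (LefPen.secToSpec i ({H} : Set (LefPen.Form r k d))) →
      eval (crd H) g = 0)
  (hdvd : ∀ p : MvPolynomial (FormIdx k r d) k,
      (∀ H : LefPen.Form r k d, ¬ LefPen.Transversal k n 1 (LefPen.secToSpec i ({H} : Set (LefPen.Form r k d))) →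
        eval (crd H) p = 0) → g ∣ p)
  (l0 : FormIdx k r d)

include hgD hdvd in
/-- the derivatives of the equation at a singular form, along a point with values in an algebra -/
theorem rel_chart (hn : 1 ≤ n) (hd : 1 ≤ d) (hl0 : pderiv l0 g ≠ 0) (j : Fin (r + 1))
    [Nontrivial Γ(X, chartX i j)] (F : Γ(X, chartX i j)) (hF : F ≠ 0)
    [Algebra.IsStandardSmoothOfRelativeDimension n k (Localization.Away F)]
    [Algebra.IsStandardSmooth k (Localization.Away F)]
    (H : LefPen.Form r k d) {S : Type u} [CommRing S] [Algebra k S] (e : Localization.Away F →ₐ[k] S)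
    {ι : Type*} [Fintype ι] (bas : Module.Basis ι (Localization.Away F) Ω[Localization.Away F⁄k])
    (hH : SingS bas e (secLin i j H)) (G : LefPen.Form r k d) :
    e (algebraMap _ (Localization.Away F) (secLin i j G)) * algebraMap k S (eval (crd H) (pderiv l0 g)) =
      e (algebraMap _ (Localization.Away F) (secLin i j (LefGeo.formBasis k r d l0))) *
        algebraMap k S (∑ l, crd G l * eval (crd H) (pderiv l g)) := by
  classical
  haveI := isDomain_chartX (n := n) i j
  haveI : IsDomain (Localization.Away F) :=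
    IsLocalization.isDomain_localization (powers_le_nonZeroDivisors_of_noZeroDivisors hF)
  let b := LefGeo.formBasis k r d
  have key := conormal_rel (L := secLin (d := d) i j) (B := Localization.Away F) b
    bas F
    (secLin_one_adjoin i hd j).1 (secLin_one_adjoin i hd j).2 (g := g)
    (fun e' v hv => hgD v ((not_transversal_iff i hn v).2 ⟨j, _, secLin_apply i j v ▸ hv⟩))
    (fun p hp => hdvd p (kills_all (n := n) i hn hd j F hF (g := fun G => eval (crd G) p)
      (LefGeo.isPolyFun_eval (fun l => b.coord l) p) fun ev hev v hv => by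
        obtain ⟨e', rfl⟩ := exists_evB F hev
        exact hp e' v hv))
    l0 hl0 e H hH
  conv_lhs => rw [← b.sum_repr G, map_sum, map_sum, map_sum, Finset.sum_mul]
  rw [map_sum, Finset.mul_sum]
  refine Finset.sum_congr rfl fun l _ => ?_
  rw [map_smul, Algebra.smul_def, map_mul, map_mul, ← IsScalarTower.algebraMap_apply, AlgHom.commutes, map_mul,
    mul_assoc]
  rw [show e (algebraMap _ (Localization.Away F) (secLin i j (b l))) * algebraMap k S (eval (crd H) (pderiv l0 g)) = _
    from key l, mul_left_comm]
  rfl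

include hgD hdvd in
/-- the values at a singular point are given by the gradient of the equation -/
theorem rel_point (hn : 1 ≤ n) (hd : 1 ≤ d) (hl0 : pderiv l0 g ≠ 0) (H : LefPen.Form r k d)
    (v : Fin (r + 1) → k) (hv : v ≠ 0) (hbad : BadAt i v H) (G : LefPen.Form r k d) :
    eval v G.1 * eval (crd H) (pderiv l0 g) =
      eval v (LefGeo.formBasis k r d l0).1 * ∑ l, crd G l * eval (crd H) (pderiv l g) := by
  obtain ⟨j, hj⟩ := Function.ne_iff.1 hv
  have hbad' := hbad.smul i (inv_ne_zero hj)
  obtain ⟨ev, hev⟩ := exists_point (n := n) i hbad'.1 j (inv_mul_cancel₀ hj)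
  haveI : Nontrivial Γ(X, chartX i j) := ev.toRingHom.domain_nontrivial
  haveI : (RingHom.ker ev).IsPrime := RingHom.ker_isPrime _
  obtain ⟨F, hF, hsm⟩ := exists_standardSmooth (n := n) i j (RingHom.ker ev)
  haveI := hsm
  haveI : Algebra.IsStandardSmooth k (Localization.Away F) :=
    Algebra.IsStandardSmoothOfRelativeDimension.isStandardSmooth n
  have hF0 : F ≠ 0 := fun h0 => hF (h0 ▸ zero_mem _)
  haveI := isDomain_chartX (n := n) i j
  haveI : IsDomain (Localization.Away F) :=
    IsLocalization.isDomain_localization (powers_le_nonZeroDivisors_of_noZeroDivisors hF0)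
  obtain ⟨e, rfl⟩ := exists_evB (k := k) F (ev := ev) (fun h0 => hF h0)
  let bas := Module.finBasisOfFinrankEq (Localization.Away F) _
    (BertiniAff.finrank_kaehler (k := k) (B := Localization.Away F) n)
  have hs : psi i j H.1 ∈ RingHom.ker (evA (Localization.Away F) e) ^ 2 :=
    (mem_sq_iff_grad (n := n) i H j _).2 (by rw [hev]; exact hbad'.2)
  have key := rel_chart i hgD hdvd l0 hn hd hl0 j F hF0 H e bas
    ((singS_iff bas F e _).1 (secLin_apply i j H ▸ hs)) G
  have hval : ∀ G : LefPen.Form r k d, e (algebraMap _ (Localization.Away F) (secLin i j G)) =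
      ((v j)⁻¹) ^ d * eval v G.1 := fun G => by
    rw [secLin_apply, show e (algebraMap _ (Localization.Away F) (psi i j G.1)) =
      evA (Localization.Away F) e (psi i j G.1) from rfl, ev_psi, hev, eval_form_smul]
  rw [hval, hval, Algebra.algebraMap_self, RingHom.id_apply, RingHom.id_apply, mul_assoc, mul_assoc] at key
  exact mul_left_cancel₀ (pow_ne_zero _ (inv_ne_zero hj)) key

include hgD hdvd in
/-- a form where the equation has a nonzero derivative has one ordinary singular point -/
theorem goodOne_of_simple (hn : 1 ≤ n) (hd : 1 ≤ d) (H : LefPen.Form r k d)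
    (hH : ¬ LefPen.Transversal k n 1 (LefPen.secToSpec i ({H} : Set (LefPen.Form r k d))))
    (hsimple : eval (crd H) (pderiv l0 g) ≠ 0) : GoodOne i H := by
  classical
  have hl0 : pderiv l0 g ≠ 0 := fun h => hsimple (by rw [h, map_zero])
  obtain ⟨j, ev, hsing⟩ := (not_transversal_iff i hn H).1 hH
  set v := pt (psi i j) ev with hv_def
  have hvj : v j = 1 := pt_self i j ev
  have hv : v ≠ 0 := fun h => one_ne_zero (hvj.symm.trans (congrFun h j))
  have hbad : BadAt i v H := ⟨inCone_pt i j ev, (mem_sq_iff_grad (n := n) i H j ev).1 hsing⟩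
  let b := LefGeo.formBasis k r d
  let Xd : Fin (r + 1) → LefPen.Form r k d := fun t => ⟨MvPolynomial.X t ^ d,
    (mem_homogeneousSubmodule _ _).2 (isHomogeneous_X_pow (R := k) t d)⟩
  let T : Fin (r + 1) → LefPen.Form r k d := fun t => ⟨MvPolynomial.X t * MvPolynomial.X j ^ (d - 1), by
    refine (mem_homogeneousSubmodule _ _).2 ?_
    simpa [Nat.add_sub_cancel' hd] using (isHomogeneous_X k t).mul (isHomogeneous_X_pow (R := k) j (d - 1))⟩
  set c := eval v (b l0).1 with hc_def
  set g0 := eval (crd H) (pderiv l0 g)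
  have hrel : ∀ v' : Fin (r + 1) → k, v' ≠ 0 → BadAt i v' H → ∀ G : LefPen.Form r k d,
      eval v' G.1 * c = eval v G.1 * eval v' (b l0).1 := fun v' hv' hbad' G => by
    refine mul_right_cancel₀ hsimple ?_
    calc eval v' G.1 * c * g0 = eval v' G.1 * g0 * c := by ring
      _ = _ := by rw [rel_point i hgD hdvd l0 hn hd hl0 H v' hv' hbad' G]
      _ = eval v' (b l0).1 * (c * ∑ l, crd G l * eval (crd H) (pderiv l g)) := by ring
      _ = eval v G.1 * eval v' (b l0).1 * g0 := by
        rw [← rel_point i hgD hdvd l0 hn hd hl0 H v hv hbad G]; ring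
  have hc : c ≠ 0 := fun h0 => by
    have := rel_point i hgD hdvd l0 hn hd hl0 H v hv hbad (Xd j)
    rw [show eval v (LefGeo.formBasis k r d l0).1 = 0 from h0, zero_mul] at this
    simp [Xd, hvj] at this
    exact hsimple this
  refine ⟨j, ev, hsing, fun P hP h0 h1 w hw _ hwp => ?_, fun v' hv' hbad' => ⟨v' j, ?_⟩⟩
  · haveI : Nontrivial Γ(X, chartX i j) := ev.toRingHom.domain_nontrivial
    haveI : (RingHom.ker ev).IsPrime := RingHom.ker_isPrime _
    obtain ⟨F, hF, hsm⟩ := exists_standardSmooth (n := n) i j (RingHom.ker ev)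
    haveI := hsm
    haveI : Algebra.IsStandardSmooth k (Localization.Away F) :=
      Algebra.IsStandardSmoothOfRelativeDimension.isStandardSmooth n
    have hF0 : F ≠ 0 := fun h0 => hF (h0 ▸ zero_mem _)
    haveI := isDomain_chartX (n := n) i j
    haveI : IsDomain (Localization.Away F) :=
      IsLocalization.isDomain_localization (powers_le_nonZeroDivisors_of_noZeroDivisors hF0)
    let ξ : Fin (r + 1) → DualNumber k := fun s => TrivSqZeroExt.inl (v s) + TrivSqZeroExt.inr (w s)
    have hξ : RingHom.ker (psi i j) ≤ RingHom.ker (aeval (R := k) ξ) := fun Q hQ => by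
      have hQ' : psi i j Q = 0 := hQ
      refine TrivSqZeroExt.ext ?_ ?_
      · rw [TrivSqZeroExt.fst_zero, (aeval_dual v w Q).1, ← ev_psi, hQ', map_zero]
      · have := (mem_tanSpace (psi i j) ev w).1 hw Q hQ'
        rw [dAt_apply] at this
        rw [TrivSqZeroExt.snd_zero, (aeval_dual v w Q).2]
        exact this
    let eA : Γ(X, chartX i j) →ₐ[k] DualNumber k :=
      AlgHom.liftOfSurjective (psi i j) (psi_surjective i j) (aeval ξ) hξ
    have heA : ∀ Q, eA (psi i j Q) = aeval ξ Q := fun Q => AlgHom.liftOfSurjective_apply _ _ _ _ Q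
    let e : Localization.Away F →ₐ[k] DualNumber k :=
      IsLocalization.liftAlgHom (M := Submonoid.powers F) (f := eA) (fun y => by
        obtain ⟨_, N, rfl⟩ := y
        rw [map_pow]
        refine IsUnit.pow N ?_
        obtain ⟨Q, hQ⟩ := psi_surjective i j F
        rw [TrivSqZeroExt.isUnit_iff_isUnit_fst, ← hQ, heA, (aeval_dual v w Q).1, ← ev_psi, hQ]
        exact isUnit_iff_ne_zero.2 fun h0 => hF h0)
    have he : ∀ Q, e (algebraMap _ (Localization.Away F) (psi i j Q)) = aeval ξ Q := fun Q =>
      (IsLocalization.lift_eq _ _).trans (heA Q)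
    let η : Fin (r + 1) → Localization.Away F := fun s => algebraMap _ _ (psi i j (MvPolynomial.X s))
    have hη : ∀ Q, aeval η Q = algebraMap _ (Localization.Away F) (psi i j Q) := fun Q => by
      rw [aeval_unique (psi i j) ]
      exact aeval_algebraMap_apply _ _ Q
    set bas := Module.finBasisOfFinrankEq (Localization.Away F) _
      (BertiniAff.finrank_kaehler (k := k) (B := Localization.Away F) n)
    have hcoord : ∀ Q s, e (bas.repr (KaehlerDifferential.D k _ (algebraMap _ (Localization.Away F) (psi i j Q))) s) =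
        ∑ l, aeval ξ (pderiv l Q) * e (bas.repr (KaehlerDifferential.D k _ (η l)) s) := fun Q s => by
      rw [← hη, deriv_aeval]
      simp only [map_sum, map_smul, Finsupp.coe_finsetSum, Finset.sum_apply, Finsupp.smul_apply, smul_eq_mul,
        map_mul, hη, he]
    have hu : ∀ s, (fun l => (e (bas.repr (KaehlerDifferential.D k _ (η l)) s)).fst) ∈ tanSpace (psi i j) ev := by
      refine fun s => (mem_tanSpace _ _ _).2 fun Q hQ => ?_
      have h := congrArg TrivSqZeroExt.fst (hcoord Q s)
      rw [hQ] at h
      simp only [map_zero, Finsupp.zero_apply, TrivSqZeroExt.fst_zero, TrivSqZeroExt.fst_sum, TrivSqZeroExt.fst_mul,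
        (aeval_dual v w _).1, ξ] at h
      rw [dAt_apply]
      exact h.symm
    have hS : SingS bas e (secLin i j H) := by
      rw [secLin_apply, ← hP]
      refine ⟨?_, fun s => ?_⟩
      · rw [he]
        refine TrivSqZeroExt.ext ?_ ?_
        · rw [(aeval_dual v w P).1]; exact h0
        · rw [(aeval_dual v w P).2, TrivSqZeroExt.snd_zero]
          exact Finset.sum_eq_zero fun l _ => by rw [h1 l, zero_mul]
      · rw [hcoord]
        refine TrivSqZeroExt.ext ?_ ?_
        · simp only [TrivSqZeroExt.fst_sum, TrivSqZeroExt.fst_mul, TrivSqZeroExt.fst_zero, ξ, (aeval_dual v w _).1]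
          exact Finset.sum_eq_zero fun l _ => by rw [h1 l, zero_mul]
        · rw [TrivSqZeroExt.snd_zero, ← hwp _ (hu s), polar]
          simp only [TrivSqZeroExt.snd_sum, TrivSqZeroExt.snd_mul, ξ, (aeval_dual v w _).1, (aeval_dual v w _).2]
          refine Finset.sum_congr rfl fun l _ => ?_
          rw [h1 l]
          simp [mul_comm]
          exact Or.inl rfl
    have hfs : ∀ G : LefPen.Form r k d,
        eval v G.1 * g0 = c * ∑ l, crd G l * eval (crd H) (pderiv l g) ∧
        (∑ s, eval v (pderiv s G.1) * w s) * g0 =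
          (∑ s, eval v (pderiv s (b l0).1) * w s) * ∑ l, crd G l * eval (crd H) (pderiv l g) := fun G => by
      have key := rel_chart i hgD hdvd l0 hn hd hl0 j F hF0 H e bas hS G
      rw [secLin_apply, secLin_apply, he, he] at key
      have ea : ∀ c : k, (algebraMap k (DualNumber k) c).fst = c ∧ (algebraMap k (DualNumber k) c).snd = 0 :=
        fun c => ⟨TrivSqZeroExt.fst_inl k c, TrivSqZeroExt.snd_inl k c⟩
      constructor
      · have := congrArg TrivSqZeroExt.fst key
        simp only [TrivSqZeroExt.fst_mul, ξ, (aeval_dual v w _).1, (ea _).1] at this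
        exact this
      · have := congrArg TrivSqZeroExt.snd key
        simp only [TrivSqZeroExt.snd_mul, ξ, (aeval_dual v w _).1, (aeval_dual v w _).2, (ea _).1, (ea _).2,
          smul_eq_mul, op_smul_eq_mul, mul_zero, zero_add] at this
        exact this
    set μ := ∑ s, eval v (pderiv s (b l0).1) * w s
    have hprop : ∀ G : LefPen.Form r k d, (∑ s, eval v (pderiv s G.1) * w s) * c = μ * eval v G.1 := fun G => by
      obtain ⟨h3, h4⟩ := hfs G
      refine mul_right_cancel₀ hsimple ?_
      calc _ = c * ((∑ s, eval v (pderiv s G.1) * w s) * g0) := by ring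
        _ = μ * (c * ∑ l, crd G l * eval (crd H) (pderiv l g)) := by rw [h4]; ring
        _ = _ := by rw [← h3]; ring
    have hwj : w j = 0 := ((tanSpace_mem (n := n) i j ev w).1 hw).1
    have hμ : μ = 0 := by
      have := hprop (Xd j)
      simpa [Xd, pderiv_pow, pderiv_X, Pi.single_apply, apply_ite, hvj, hwj, eq_comm] using this
    funext t
    have e : ∑ s, eval v (pderiv s (T t).1) * w s = w t := by
      simp only [T, pderiv_mul, pderiv_pow, pderiv_X, Pi.single_apply, map_add, map_mul, map_pow, map_natCast,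
        eval_X, apply_ite (eval v), map_one, map_zero, hvj, one_pow, mul_one, one_mul, add_mul,
        Finset.sum_add_distrib, ite_mul, mul_ite, zero_mul, mul_zero, Finset.sum_ite_eq, Finset.mem_univ, if_true,
        hwj, add_zero]
    have := hprop (T t)
    rw [e, hμ, zero_mul] at this
    exact (mul_eq_zero.1 this).resolve_right hc
  · have hX : ∀ t, v' t ^ d * c = v t ^ d * eval v' (b l0).1 := fun t => by
      have := hrel v' hv' hbad' (Xd t)
      simpa [Xd] using this
    have hj' : eval v' (b l0).1 = v' j ^ d * c := by rw [hX, hvj, one_pow, one_mul]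
    have hne : v' j ≠ 0 := fun h0 => hv' (funext fun t => by
      have := hX t
      rw [hj', h0, zero_pow (by omega), zero_mul, mul_zero] at this
      exact pow_eq_zero_iff (by omega) |>.1 ((mul_eq_zero.1 this).resolve_right hc))
    funext t
    have := hrel v' hv' hbad' (T t)
    simp only [T, map_mul, map_pow, eval_X, hvj, one_pow, mul_one, hj'] at this
    have e : v' j ^ d = v' j * v' j ^ (d - 1) := by rw [← pow_succ', Nat.sub_add_cancel hd]
    rw [e] at this
    refine mul_right_cancel₀ (mul_ne_zero hc (pow_ne_zero (d - 1) hne)) ?_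
    simp only [Pi.smul_apply, smul_eq_mul]
    linear_combination this

include n in
/-- Lefschetz embeddings in characteristic zero -/
theorem isLefschetzEmb_of_charZero (hn : 1 ≤ n) (hd : 1 ≤ d) : LefPen.IsLefschetzEmb k n i d := by
  refine isLefschetzEmb_of_no_worse (n := n) i hn hd ?_
  rintro ⟨g, a, -, hg, -, hgB⟩
  obtain ⟨hgD, hdvd⟩ := discr_of_worse (n := n) i hn hd hg hgB
  obtain ⟨l0, y, hy, hy'⟩ := exists_simple_zero hg
  let b := LefGeo.formBasis k r d
  have hcrd' : crd (b.equivFun.symm y) = y := b.equivFun.apply_symm_apply y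
  have hw := hgB (b.equivFun.symm y) (by rw [hcrd']; exact hy)
  exact hw.2 (goodOne_of_simple i hgD hdvd l0 hn hd _ ((worse_iff i hn _).1 hw).1 (by rw [hcrd']; exact hy'))

end

end Groth.Agent.LefPenLib
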