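import Groth.Agent.LefPenLib.Cone
import Groth.Agent.LefGeo.Elim
import Groth.Agent.LefGeo.PolyFun

/-!
# Being transversal is an open condition
-/

universe u

open CategoryTheory AlgebraicGeometry Opposite TopologicalSpace

namespace Groth.Agent.LefPenLib

noncomputable section

variable {r n d : ℕ} {k : Type u} [Field k] {X : Scheme.{u}} (i : X ⟶ CohB1.ProjSpace r k) [IsClosedImmersion i]

/-- the form is singular on `X` at the vector -/
def BadAt (v : Fin (r + 1) → k) (G : LefPen.Form r k d) : Prop :=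
  InCone i v ∧ MvPolynomial.eval v G.1 = 0 ∧ grad v G.1 ∈ gradSpan i v

omit [IsClosedImmersion i] in
theorem grad_smul {e : ℕ} {Q : MvPolynomial (Fin (r + 1)) k} (hQ : Q.IsHomogeneous e) (c : k)
    (v : Fin (r + 1) → k) : grad (c • v) Q = c ^ (e - 1) • grad v Q :=
  funext fun s => LefGeo.eval_smul_of_isHomogeneous (hQ.pderiv (i := s)) c v

omit [IsClosedImmersion i] in
theorem BadAt.smul {v : Fin (r + 1) → k} {G : LefPen.Form r k d} (h : BadAt i v G) {c : k} (hc : c ≠ 0) :
    BadAt i (c • v) G := by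
  obtain ⟨h1, h2, h3⟩ := h
  refine ⟨fun Q hQ => ?_, ?_, ?_⟩
  · obtain ⟨e, he, hQ'⟩ := hQ
    rw [LefGeo.eval_smul_of_isHomogeneous he, h1 Q ⟨e, he, hQ'⟩, mul_zero]
  · rw [LefGeo.eval_smul_of_isHomogeneous ((MvPolynomial.mem_homogeneousSubmodule d _).1 G.2), h2, mul_zero]
  · rw [grad_smul ((MvPolynomial.mem_homogeneousSubmodule d _).1 G.2)]
    refine Submodule.smul_mem _ _ (Submodule.span_le.2 ?_ h3)
    rintro _ ⟨Q, rfl⟩
    obtain ⟨e, he, hQ'⟩ := id Q.2
    have : grad v Q.1 = (c ^ (e - 1))⁻¹ • grad (c • v) Q.1 := by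
      rw [grad_smul he, smul_smul, inv_mul_cancel₀ (pow_ne_zero _ hc), one_smul]
    show grad v Q.1 ∈ gradSpan i (c • v)
    rw [this]
    exact Submodule.smul_mem _ _ (Submodule.subset_span ⟨Q, rfl⟩)

variable [IrreducibleSpace X] [SmoothOfRelativeDimension n (i ≫ CohB1.ProjSpace.toSpec r k)] [IsAlgClosed k]

include n in
theorem exists_ev_iff_badAt (G : LefPen.Form r k d) :
    (∃ (j : Fin (r + 1)) (ev : Γ(X, chartX i j) →ₐ[k] k), psi i j G.1 ∈ RingHom.ker ev ^ 2) ↔
      ∃ v : Fin (r + 1) → k, v ≠ 0 ∧ BadAt i v G := by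
  constructor
  · rintro ⟨j, ev, h⟩
    refine ⟨pt (psi i j) ev, fun h0 => ?_, inCone_pt i j ev, (mem_sq_iff_grad (n := n) i G j ev).1 h⟩
    have := pt_self i j ev
    rw [h0] at this
    exact zero_ne_one this
  · rintro ⟨v, hv, hbad⟩
    obtain ⟨j, hj⟩ := Function.ne_iff.1 hv
    have hbad' := hbad.smul i (inv_ne_zero hj)
    obtain ⟨ev, hev⟩ := exists_point (n := n) i hbad'.1 j (by simp [hj]; exact inv_mul_cancel₀ hj)
    refine ⟨j, ev, (mem_sq_iff_grad (n := n) i G j ev).2 ?_⟩
    rw [hev]
    exact hbad'.2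

theorem not_transversal_iff_badAt (hn : 1 ≤ n) (G : LefPen.Form r k d) :
    ¬ LefPen.Transversal k n 1 (LefPen.secToSpec i ({G} : Set (LefPen.Form r k d))) ↔
      ∃ v : Fin (r + 1) → k, v ≠ 0 ∧ BadAt i v G :=
  (not_transversal_iff i hn G).trans (exists_ev_iff_badAt (n := n) i G)

open MvPolynomial

omit [IsAlgClosed k]

variable (d) in
/-- coordinates of forms -/
abbrev FormIdx (k : Type u) [Field k] (r d : ℕ) : Type := Fin (Module.finrank k (LefPen.Form r k d))

/-- the coordinates of a form -/
def crd (H : LefPen.Form r k d) : FormIdx k r d → k := fun l => (LefGeo.formBasis k r d).repr H l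

/-- the polynomial in coordinates and variables of the value of a derived form -/
def lin (φ : MvPolynomial (Fin (r + 1)) k →ₗ[k] MvPolynomial (Fin (r + 1)) k) :
    MvPolynomial (FormIdx k r d ⊕ Fin (r + 1)) k :=
  ∑ l, MvPolynomial.X (Sum.inl l) * rename Sum.inr (φ (LefGeo.formBasis k r d l).1)

theorem eval_lin (φ : MvPolynomial (Fin (r + 1)) k →ₗ[k] MvPolynomial (Fin (r + 1)) k) (H : LefPen.Form r k d)
    (z : Fin (r + 1) → k) : eval (Sum.elim (crd H) z) (lin φ) = eval z (φ H.1) := by
  conv_rhs => rw [LefGeo.form_eq_sum H]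
  simp only [lin, crd, map_sum, map_mul, eval_X, eval_rename, Function.comp_def, Sum.elim_inl, Sum.elim_inr, map_smul, smul_eval]

/-- the rows of the singularity system -/
def badRow (d : ℕ) : Eqn i ⊕ Unit → Fin (r + 1) → MvPolynomial (FormIdx k r d ⊕ Fin (r + 1)) k :=
  Sum.elim (fun Q s => rename Sum.inr (pderiv s Q.1)) fun _ s => lin (pderiv s).toLinearMap

/-- the indices of the singularity system -/
abbrev BadIdx (n : ℕ) : Type u :=
  Eqn i ⊕ Unit ⊕ ((Fin (r - n + 1) → Eqn i ⊕ Unit) × (Fin (r - n + 1) → Fin (r + 1)))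

/-- The system saying that a form is singular at a vector. -/
def badP (n d : ℕ) : BadIdx i n → MvPolynomial (FormIdx k r d ⊕ Fin (r + 1)) k :=
  Sum.elim (fun Q => rename Sum.inr Q.1) (Sum.elim (fun _ => lin LinearMap.id)
    (fun RC => Matrix.det (Matrix.of fun p q => badRow i d (RC.1 p) (RC.2 q))))

omit [IrreducibleSpace X] [SmoothOfRelativeDimension n (i ≫ CohB1.ProjSpace.toSpec r k)] in
/-- the system is homogeneous in the vector -/
theorem badP_smul {K : Type u} [Field K] [Algebra k K] (a : BadIdx i n) (y : FormIdx k r d → K)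
    (z : Fin (r + 1) → K) (l : K) (h : aeval (Sum.elim y z) (badP i n d a) = 0) :
    aeval (Sum.elim y (l • z)) (badP i n d a) = 0 := by
  have hsc : ∀ {e : ℕ} {Q : MvPolynomial (Fin (r + 1)) k}, Q.IsHomogeneous e →
      aeval (Sum.elim y (l • z)) (rename Sum.inr Q : MvPolynomial (FormIdx k r d ⊕ Fin (r + 1)) k) =
        l ^ e * aeval (Sum.elim y z) (rename Sum.inr Q : MvPolynomial (FormIdx k r d ⊕ Fin (r + 1)) k) := by
    intro e Q hQ
    have := LefGeo.eval_smul_of_isHomogeneous (hQ.map (algebraMap k K)) l z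
    rw [MvPolynomial.eval_map, MvPolynomial.eval_map, ← aeval_def, ← aeval_def] at this
    rw [aeval_rename, aeval_rename]
    exact this
  have hb : ∀ m, (LefGeo.formBasis k r d m).1.IsHomogeneous d :=
    fun m => (mem_homogeneousSubmodule d _).1 (LefGeo.formBasis k r d m).2
  have hE : ∀ Q : Eqn i, ∃ e, Q.1.IsHomogeneous e := fun Q => by
    obtain ⟨e, he, -⟩ := Q.2; exact ⟨e, he⟩
  choose deg hdeg using hE
  rcases a with Q | u | RC
  · simp only [badP, Sum.elim_inl] at h ⊢
    rw [hsc (hdeg Q), h, mul_zero]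
  · simp only [badP, lin, LinearMap.id_coe, id_eq, Sum.elim_inr, Sum.elim_inl, map_sum, map_mul, aeval_X] at h ⊢
    simp only [hsc (hb _), mul_left_comm (y _), ← Finset.mul_sum, h, mul_zero]
  · simp only [badP, Sum.elim_inr] at h ⊢
    rw [AlgHom.map_det] at h ⊢
    let wt : Eqn i ⊕ Unit → K := Sum.elim (fun Q => l ^ (deg Q - 1)) (fun _ => l ^ (d - 1))
    have hM : (aeval (Sum.elim y (l • z))).mapMatrix (Matrix.of fun p q => badRow i d (RC.1 p) (RC.2 q)) =
        Matrix.of fun p q => wt (RC.1 p) * (aeval (Sum.elim y z)).mapMatrix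
          (Matrix.of fun p q => badRow i d (RC.1 p) (RC.2 q)) p q := by
      ext p q
      simp only [AlgHom.mapMatrix_apply, Matrix.map_apply, Matrix.of_apply]
      cases hR : RC.1 p with
      | inl Q =>
        simp only [badRow, wt, Sum.elim_inl]
        exact hsc (hdeg Q).pderiv
      | inr u =>
        simp only [badRow, lin, wt, Derivation.coeFn_coe, Sum.elim_inr, map_sum, map_mul, aeval_X, Sum.elim_inl]
        simp only [hsc ((hb _).pderiv), mul_left_comm (y _), ← Finset.mul_sum]
    rw [hM, Matrix.det_mul_column, h, mul_zero]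

variable [IsAlgClosed k]

include n in
theorem eval_badP_iff (H : LefPen.Form r k d) {j : Fin (r + 1)} {z : Fin (r + 1) → k} (hzj : z j = 1) :
    (∀ a, eval (Sum.elim (crd H) z) (badP i n d a) = 0) ↔ BadAt i z H := by
  classical
  let row : Eqn i ⊕ Unit → Fin (r + 1) → k := Sum.elim (fun Q => grad z Q.1) (fun _ => grad z H.1)
  have hrow : ∀ R s, eval (Sum.elim (crd H) z) (badRow i d R s) = row R s := by
    rintro (Q | u) s
    · simp [badRow, row, grad, eval_rename]
    · exact eval_lin _ H z
  have hdet : ∀ RC, eval (Sum.elim (crd H) z) (badP i n d (Sum.inr (Sum.inr RC))) =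
      (Matrix.of fun p q => row (RC.1 p) (RC.2 q)).det := by
    intro RC
    simp only [badP, Sum.elim_inr, RingHom.map_det]
    congr 1
    ext p q
    exact hrow _ _
  constructor
  · intro h
    have hcone : InCone i z := fun Q hQ => by
      simpa [badP, eval_rename, Function.comp_def] using h (Sum.inl ⟨Q, hQ⟩)
    refine ⟨hcone, (eval_lin LinearMap.id H z).symm.trans (h (Sum.inr (Sum.inl ()))), ?_⟩
    obtain ⟨ev, hev⟩ := exists_point (n := n) i hcone j hzj
    have hrank := finrank_gradSpan (n := n) i j ev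
    rw [hev] at hrank
    by_contra hnot
    obtain ⟨g, hg, hgspan, hgli⟩ :=
      Submodule.exists_fun_fin_finrank_span_eq k (Set.range fun Q : Eqn i => grad z Q.1)
    have hc : r - n = Module.finrank k (Submodule.span k (Set.range fun Q : Eqn i => grad z Q.1)) := by
      show r - n = Module.finrank k (gradSpan i z)
      omega
    choose e he using hg
    let R : Fin (r - n + 1) → Eqn i ⊕ Unit := Fin.cons (Sum.inr ()) fun a => Sum.inl (e (Fin.cast hc a))
    let A : Matrix (Fin (r - n + 1)) (Fin (r + 1)) k := Matrix.of fun p => row (R p)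
    have hA : A.row = Fin.cons (grad z H.1) (g ∘ Fin.cast hc) := by
      funext p
      refine Fin.cases ?_ (fun a => ?_) p
      · show row (R 0) = _
        simp [R, row]
      · show row (R a.succ) = _
        simp only [R, row, Fin.cons_succ, Function.comp_apply, Sum.elim_inl]
        exact he _
    have hli : LinearIndependent k A.row := by
      rw [hA]
      refine linearIndependent_finCons.2 ⟨hgli.comp _ (Fin.cast_injective hc), fun hmem => hnot ?_⟩
      rw [(Fin.rightInverse_cast hc).surjective.range_comp, hgspan] at hmem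
      exact hmem
    obtain ⟨e', C, hdet'⟩ := LefGeo.exists_det_submatrix_ne_zero A (r := r - n + 1)
      (by rw [hli.rank_matrix, Fintype.card_fin])
    refine hdet' ?_
    have := h (Sum.inr (Sum.inr (R ∘ e', C)))
    rw [hdet] at this
    exact this
  · rintro ⟨h1, h2, h3⟩ (Q | u | RC)
    · simpa [badP, eval_rename, Function.comp_def] using h1 Q.1 Q.2
    · exact (eval_lin LinearMap.id H z).trans h2
    · rw [hdet]
      by_contra hne
      obtain ⟨ev, hev⟩ := exists_point (n := n) i h1 j hzj
      have hrank := finrank_gradSpan (n := n) i j ev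
      rw [hev] at hrank
      have hli := Matrix.linearIndependent_rows_of_det_ne_zero hne
      have hli' : LinearIndependent k (fun p => row (RC.1 p)) :=
        LinearIndependent.of_comp (LinearMap.funLeft k k RC.2) hli
      have hmem : ∀ p, row (RC.1 p) ∈ gradSpan i z := fun p => by
        cases RC.1 p with
        | inl Q => exact Submodule.subset_span ⟨Q, rfl⟩
        | inr _ => exact h3
      have hle := (finrank_span_eq_card hli').ge.trans
        (Submodule.finrank_mono (Submodule.span_le.2 (Set.range_subset_iff.2 hmem)))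
      rw [Fintype.card_fin] at hle
      omega

include n in
theorem eval_badP_of_badAt (H : LefPen.Form r k d) {v : Fin (r + 1) → k} (hv : v ≠ 0) (hbad : BadAt i v H)
    (a : BadIdx i n) : eval (Sum.elim (crd H) v) (badP i n d a) = 0 := by
  obtain ⟨j, hj⟩ := Function.ne_iff.1 hv
  have h := (eval_badP_iff (n := n) i H (j := j) (z := (v j)⁻¹ • v) (inv_mul_cancel₀ hj)).2
    (hbad.smul i (inv_ne_zero hj)) a
  rw [← MvPolynomial.aeval_eq_eval] at h ⊢
  have := badP_smul i a (crd H) _ (v j) h
  rwa [smul_smul, mul_inv_cancel₀ hj, one_smul] at this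

include n in
theorem badAt_of_eval_badP (H : LefPen.Form r k d) {v : Fin (r + 1) → k} (hv : v ≠ 0)
    (h : ∀ a, eval (Sum.elim (crd H) v) (badP i n d a) = 0) : BadAt i v H := by
  obtain ⟨j, hj⟩ := Function.ne_iff.1 hv
  have h' : ∀ a, eval (Sum.elim (crd H) ((v j)⁻¹ • v)) (badP i n d a) = 0 := fun a => by
    rw [← MvPolynomial.aeval_eq_eval]
    exact badP_smul i a (crd H) v _ (by rw [MvPolynomial.aeval_eq_eval]; exact h a)
  have := ((eval_badP_iff (n := n) i H (j := j) (z := (v j)⁻¹ • v) (inv_mul_cancel₀ hj)).1 h').smul i hj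
  rwa [smul_smul, mul_inv_cancel₀ hj, one_smul] at this

include n in
/-- having no singular point on a given hypersurface is an open condition -/
theorem exists_poly_bad_ne {E : MvPolynomial (Fin (r + 1)) k} {e : ℕ} (hE : E.IsHomogeneous e)
    (H : LefPen.Form r k d) (hH : ∀ v, v ≠ 0 → BadAt i v H → eval v E ≠ 0) :
    ∃ p : MvPolynomial (FormIdx k r d) k, eval (crd H) p ≠ 0 ∧
      ∀ H' : LefPen.Form r k d, eval (crd H') p ≠ 0 → ∀ v, v ≠ 0 → BadAt i v H' → eval v E ≠ 0 := by
  let P : Option (BadIdx i n) → MvPolynomial (FormIdx k r d ⊕ Fin (r + 1)) k :=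
    fun a => a.elim (rename Sum.inr E) (badP i n d)
  have hP : ∀ (K : Type u) [Field K] [Algebra k K] a (y : FormIdx k r d → K) (z : Fin (r + 1) → K) (l : K),
      aeval (Sum.elim y z) (P a) = 0 → aeval (Sum.elim y (l • z)) (P a) = 0 := by
    intro K _ _ a y z l h
    cases a with
    | none =>
      simp only [P, Option.elim_none, aeval_rename] at h ⊢
      have := LefGeo.eval_smul_of_isHomogeneous (hE.map (algebraMap k K)) l z
      rw [MvPolynomial.eval_map, MvPolynomial.eval_map, ← aeval_def, ← aeval_def] at this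
      exact this.trans (mul_eq_zero_of_right _ h)
    | some a => exact badP_smul i a y z l h
  obtain ⟨Q, hQ, hQ'⟩ := LefGeo.exists_poly_no_nontrivial_zero P hP (crd H) (fun z hz => by
    by_contra! hall
    refine hH z hz (badAt_of_eval_badP (n := n) i H hz fun a => hall (some a)) ?_
    simpa [P, eval_rename, Function.comp_def] using hall none)
  refine ⟨Q, hQ, fun H' hH' v hv hbad hEv => ?_⟩
  obtain ⟨a, ha⟩ := hQ' _ hH' v hv
  cases a with
  | none => exact ha (by simpa [P, eval_rename, Function.comp_def] using hEv)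
  | some a => exact ha (eval_badP_of_badAt (n := n) i H' hv hbad a)

/-- the space of transversal forms is open -/
theorem isZOpen_transversal (hn : 1 ≤ n) :
    LefPen.IsZOpen k {H : LefPen.Form r k d |
      LefPen.Transversal k n 1 (LefPen.secToSpec i ({H} : Set (LefPen.Form r k d)))} := by
  refine LefGeo.isZOpen_of_poly (LefGeo.formBasis k r d) fun H hH => ?_
  obtain ⟨p, hp, hp'⟩ := exists_poly_bad_ne (n := n) i (E := 0) (e := 0) (MvPolynomial.isHomogeneous_zero _ _ _) H
    (fun v hv hbad => absurd hH ((not_transversal_iff_badAt i hn H).2 ⟨v, hv, hbad⟩))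
  refine ⟨p, hp, fun H' hH' => ?_⟩
  by_contra hT
  obtain ⟨v, hv, hbad⟩ := (not_transversal_iff_badAt i hn H').1 hT
  exact hp' H' hH' v hv hbad (map_zero _)

end

end Groth.Agent.LefPenLib
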