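import Groth.Agent.LefPenLib.OneOrd

/-!
# Closed points of a chart
-/

universe u

open CategoryTheory AlgebraicGeometry Opposite TopologicalSpace

namespace Groth.Agent.LefPenLib

noncomputable section

variable {r d : ℕ} {k : Type u} [Field k] {X : Scheme.{u}} (i : X ⟶ CohB1.ProjSpace r k) [IsClosedImmersion i]

/-- the point of `X` at a rational point of a chart -/
def chartPoint (j : Fin (r + 1)) (ev : Γ(X, chartX i j) →ₐ[k] k) : X :=
  (isAffineOpen_chartX i j).fromSpec ⟨RingHom.ker ev, RingHom.ker_isPrime _⟩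

theorem secι_secPoint (G : LefPen.Form r k d) (j : Fin (r + 1)) (ev : Γ(X, chartX i j) →ₐ[k] k)
    (hev : ev (psi i j G.1) = 0) :
    LefPen.secι i {G} (secPoint i G j ev hev) = chartPoint i j ev := by
  rw [secPoint, secPiece_point]
  rfl

theorem exists_ev_of_isClosed [IsAlgClosed k] (x : X) (hx : IsClosed ({x} : Set X)) (j : Fin (r + 1))
    (hj : x ∈ chartX i j) : ∃ ev : Γ(X, chartX i j) →ₐ[k] k, chartPoint i j ev = x := by
  obtain ⟨z, hz⟩ := ((isAffineOpen_chartX i j).range_fromSpec).ge hj
  have hzc : IsClosed ({z} : Set (Spec Γ(X, chartX i j))) := by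
    rw [show ({z} : Set _) = (isAffineOpen_chartX i j).fromSpec ⁻¹' {x} from
      Set.ext fun w => ⟨fun h => (congrArg _ h).trans hz, fun h =>
        (isAffineOpen_chartX i j).fromSpec.isOpenEmbedding.injective (h.trans hz.symm)⟩]
    exact hx.preimage (isAffineOpen_chartX i j).fromSpec.continuous
  haveI : z.asIdeal.IsMaximal := (PrimeSpectrum.isClosed_singleton_iff_isMaximal z).1 hzc
  obtain ⟨ev, hev⟩ := exists_ev (k := k) z.asIdeal
  exact ⟨ev, (congrArg (isAffineOpen_chartX i j).fromSpec (PrimeSpectrum.ext hev)).trans hz⟩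

end

end Groth.Agent.LefPenLib
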