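import Mathlib.RingTheory.AdicCompletion.Algebra
import Mathlib.RingTheory.AdicCompletion.RingHom
import Mathlib.RingTheory.LocalRing.MaximalIdeal.Basic
import Mathlib.RingTheory.LocalRing.RingHom.Basic

/-!
# Completions of isomorphic local rings
-/

universe u

namespace Groth.Agent.LefPenLib

theorem exists_completionCongr {R R' : Type u} [CommRing R] [CommRing R'] [IsLocalRing R] [IsLocalRing R']
    (e : R ≃+* R') :
    ∃ E : AdicCompletion (IsLocalRing.maximalIdeal R) R ≃+* AdicCompletion (IsLocalRing.maximalIdeal R') R',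
      ∀ r, E (algebraMap R _ r) = algebraMap R' _ (e r) := by
  let I := IsLocalRing.maximalIdeal R
  let I' := IsLocalRing.maximalIdeal R'
  have hI : I.map (e : R →+* R') = I' := IsLocalRing.map_ringEquiv_maximalIdeal e
  have hI' : I'.map (e.symm : R' →+* R) = I := IsLocalRing.map_ringEquiv_maximalIdeal e.symm
  have h1 : ∀ n, I ^ n ≤ (I' ^ n).comap (e : R →+* R') := fun n => by
    rw [← Ideal.map_le_iff_le_comap, Ideal.map_pow, hI]
  have h2 : ∀ n, I' ^ n ≤ (I ^ n).comap (e.symm : R' →+* R) := fun n => by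
    rw [← Ideal.map_le_iff_le_comap, Ideal.map_pow, hI']
  let F : AdicCompletion I R →+* AdicCompletion I' R' := AdicCompletion.liftRingHom I'
    (fun n => (Ideal.quotientMap (I' ^ n) (e : R →+* R') (h1 n)).comp (AdicCompletion.evalₐ I n).toRingHom)
    (fun {m n} hle => by
      refine RingHom.ext fun x => ?_
      obtain ⟨g, rfl⟩ := AdicCompletion.mk_surjective I R x
      simp only [RingHom.comp_apply, AlgHom.toRingHom_eq_coe, RingHom.coe_coe, AdicCompletion.evalₐ_mk,
        Ideal.quotientMap_mk]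
      show Ideal.Quotient.mk _ (e (g n)) = Ideal.Quotient.mk _ (e (g m))
      rw [Ideal.Quotient.eq, ← map_sub]
      refine h1 m ?_
      simpa using neg_mem (SModEq.sub_mem.1 (g.property hle)))
  let G : AdicCompletion I' R' →+* AdicCompletion I R := AdicCompletion.liftRingHom I
    (fun n => (Ideal.quotientMap (I ^ n) (e.symm : R' →+* R) (h2 n)).comp (AdicCompletion.evalₐ I' n).toRingHom)
    (fun {m n} hle => by
      refine RingHom.ext fun x => ?_
      obtain ⟨g, rfl⟩ := AdicCompletion.mk_surjective I' R' x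
      simp only [RingHom.comp_apply, AlgHom.toRingHom_eq_coe, RingHom.coe_coe, AdicCompletion.evalₐ_mk,
        Ideal.quotientMap_mk]
      show Ideal.Quotient.mk _ (e.symm (g n)) = Ideal.Quotient.mk _ (e.symm (g m))
      rw [Ideal.Quotient.eq, ← map_sub]
      refine h2 m ?_
      simpa using neg_mem (SModEq.sub_mem.1 (g.property hle)))
  have hFn : ∀ x n, AdicCompletion.evalₐ I' n (F x) =
      Ideal.quotientMap (I' ^ n) (e : R →+* R') (h1 n) (AdicCompletion.evalₐ I n x) :=
    fun x n => AdicCompletion.evalₐ_liftRingHom _ _ _ _ _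
  have hGn : ∀ x n, AdicCompletion.evalₐ I n (G x) =
      Ideal.quotientMap (I ^ n) (e.symm : R' →+* R) (h2 n) (AdicCompletion.evalₐ I' n x) :=
    fun x n => AdicCompletion.evalₐ_liftRingHom _ _ _ _ _
  have hFG : ∀ x, F (G x) = x := fun x => AdicCompletion.ext_evalₐ fun n => by
    obtain ⟨g, rfl⟩ := AdicCompletion.mk_surjective I' R' x
    rw [hFn, hGn, AdicCompletion.evalₐ_mk, Ideal.quotientMap_mk, Ideal.quotientMap_mk]
    simp
  have hGF : ∀ x, G (F x) = x := fun x => AdicCompletion.ext_evalₐ fun n => by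
    obtain ⟨g, rfl⟩ := AdicCompletion.mk_surjective I R x
    rw [hGn, hFn, AdicCompletion.evalₐ_mk, Ideal.quotientMap_mk, Ideal.quotientMap_mk]
    simp
  refine ⟨RingEquiv.ofRingHom F G (RingHom.ext hFG) (RingHom.ext hGF), fun r => AdicCompletion.ext_evalₐ fun n => ?_⟩
  show AdicCompletion.evalₐ I' n (F (algebraMap R (AdicCompletion I R) r)) = _
  rw [hFn, AlgHom.commutes, AlgHom.commutes]
  rfl

end Groth.Agent.LefPenLib
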