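import Groth.Agent.LefPenLib.Points
import Groth.Agent.LefGeo.Singular
import Mathlib.LinearAlgebra.Matrix.Dual

/-!
# Homogeneous equations of a smooth variety and the tangent spaces of its cone
-/

universe u

open CategoryTheory AlgebraicGeometry Opposite TopologicalSpace
open HomogeneousLocalization (Away)

namespace Groth.Agent.LefPenLib

noncomputable section

variable {r n d : ℕ} {k : Type u} [Field k]

local notation "𝒜" => CohB1.polyGrading r k

theorem basicOpen_dehom_le {d : ℕ} (G : LefPen.Form r k d) (l : Fin (r + 1)) :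
    (CohB1.ProjSpace r k).basicOpen (LefPen.dehom G l) ≤ Proj.basicOpen 𝒜 G.1 := by
  intro x hx
  have hxl : x ∈ LefPen.chart r k l := Scheme.basicOpen_le _ _ hx
  rw [Scheme.mem_basicOpen _ _ x hxl] at hx
  intro hmem
  have hgerm := congr($(ProjectiveSpectrum.Proj.awayToSection_germ 𝒜 (MvPolynomial.X l) x hxl)
    (Away.mk 𝒜 (LefPen.X_mem r k l) d G.1 (by rw [smul_eq_mul, mul_one]; exact G.2)))
  rw [show ((CohB1.ProjSpace r k).presheaf.germ (LefPen.chart r k l) x hxl).hom (LefPen.dehom G l) = _ from hgerm] at hx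
  have hx' : IsUnit ((Proj.stalkIso' 𝒜 x).symm (HomogeneousLocalization.mapId 𝒜 (Submonoid.powers_le.mpr hxl)
      (Away.mk 𝒜 (LefPen.X_mem r k l) d G.1 (by rw [smul_eq_mul, mul_one]; exact G.2)))) := hx
  have he := (isUnit_map_iff (Proj.stalkIso' 𝒜 x).symm _).1 hx'
  have hu4 := he.map (algebraMap _ (Localization x.asHomogeneousIdeal.toIdeal.primeCompl))
  rw [HomogeneousLocalization.algebraMap_apply] at hu4
  simp only [CommRingCat.hom_ofHom, HomogeneousLocalization.mapId, HomogeneousLocalization.map, Away.mk] at hu4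
  erw [HomogeneousLocalization.val_mk, Localization.mk_eq_mk', IsLocalization.AtPrime.isUnit_mk'_iff _
    x.asHomogeneousIdeal.toIdeal] at hu4
  exact hu4 hmem

variable {X : Scheme.{u}} (i : X ⟶ CohB1.ProjSpace r k) [IsClosedImmersion i]
  [IrreducibleSpace X] [SmoothOfRelativeDimension n (i ≫ CohB1.ProjSpace.toSpec r k)]

/-- a homogeneous polynomial vanishing on `X` -/
def IsEq (Q : MvPolynomial (Fin (r + 1)) k) : Prop :=
  ∃ e, Q.IsHomogeneous e ∧ ∀ l, psi i l Q = 0

/-- the equations of `X` -/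
abbrev Eqn : Type u := {Q : MvPolynomial (Fin (r + 1)) k // IsEq i Q}

omit [IrreducibleSpace X] in
theorem nonempty_of_nontrivial (j : Fin (r + 1)) [Nontrivial Γ(X, chartX i j)] :
    Nonempty (chartX i j : X.Opens) := by
  by_contra hne
  rw [not_nonempty_iff] at hne
  have hbot : chartX i j = ⊥ := le_bot_iff.1 fun x hx => (hne.false ⟨x, hx⟩).elim
  haveI : Subsingleton Γ(X, (⊥ : X.Opens)) := CommRingCat.subsingleton_of_isTerminal X.sheaf.isTerminalOfEmpty
  have : Subsingleton Γ(X, chartX i j) := hbot ▸ ‹Subsingleton Γ(X, (⊥ : X.Opens))›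
  exact not_subsingleton Γ(X, chartX i j) this

include n in
theorem psi_zero_transfer {e : ℕ} {Q : MvPolynomial (Fin (r + 1)) k} (hQ : Q.IsHomogeneous e) (j : Fin (r + 1))
    [Nontrivial Γ(X, chartX i j)] (h : psi i j Q = 0) (l : Fin (r + 1)) : psi i l Q = 0 := by
  cases subsingleton_or_nontrivial Γ(X, chartX i l) with
  | inl hs => exact Subsingleton.elim _ _
  | inr hn =>
    haveI := isIntegral_X (n := n) i
    haveI := nonempty_of_nontrivial i j
    haveI := nonempty_of_nontrivial i l
    let U : X.Opens := chartX i l ⊓ chartX i j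
    haveI : Nonempty U := by
      obtain ⟨⟨a, ha⟩⟩ := ‹Nonempty (chartX i l : X.Opens)›
      obtain ⟨⟨b, hb⟩⟩ := ‹Nonempty (chartX i j : X.Opens)›
      obtain ⟨c, hc⟩ := nonempty_preirreducible_inter (chartX i l).isOpen (chartX i j).isOpen ⟨a, ha⟩ ⟨b, hb⟩
      exact ⟨⟨c, hc⟩⟩
    refine map_injective_of_isIntegral X (homOfLE (inf_le_left : U ≤ chartX i l)) ?_
    rw [map_zero]
    let G : LefPen.Form r k e := ⟨Q, (MvPolynomial.mem_homogeneousSubmodule e Q).2 hQ⟩
    let W : (CohB1.ProjSpace r k).Opens := LefPen.chart r k l ⊓ LefPen.chart r k j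
    have key := congrArg (i.app W).hom (dehom_res G j l W inf_le_right inf_le_left)
    rw [map_mul] at key
    have hnat : ∀ (V : (CohB1.ProjSpace r k).Opens) (hV : W ≤ V) (z : Γ(CohB1.ProjSpace r k, V)),
        (i.app W).hom (((CohB1.ProjSpace r k).presheaf.map (homOfLE hV).op).hom z) =
          (X.presheaf.map (homOfLE (i.preimage_mono hV)).op).hom ((i.app V).hom z) := fun V hV z =>
      congr($(i.naturality (homOfLE hV).op) z)
    erw [hnat, hnat, hnat, app_dehom, app_dehom] at key
    have h0 : psi i j G.1 = 0 := h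
    rw [h0, map_zero, mul_zero] at key
    exact key

include n in
theorem psi_X_of_empty (j l : Fin (r + 1)) [Subsingleton Γ(X, chartX i j)] :
    psi i l (MvPolynomial.X j) = 0 := by
  haveI := isIntegral_X (n := n) i
  let G : LefPen.Form r k 1 := ⟨MvPolynomial.X j, LefPen.X_mem r k j⟩
  have h1 := app_dehom i G l
  rw [show psi i l (MvPolynomial.X j) = psi i l G.1 from rfl, ← h1, ← basicOpen_eq_bot_iff,
    ← Scheme.preimage_basicOpen]
  refine le_bot_iff.1 fun x hx => ?_
  have hxj : x ∈ chartX i j := basicOpen_dehom_le G l hx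
  have hxb : x ∈ X.basicOpen (1 : Γ(X, chartX i j)) := by rw [X.basicOpen_of_isUnit isUnit_one]; exact hxj
  rw [Subsingleton.elim (1 : Γ(X, chartX i j)) 0, Scheme.basicOpen_zero] at hxb
  exact hxb

/-- homogenisation -/
theorem exists_homogenize (j : Fin (r + 1)) (P : MvPolynomial (Fin (r + 1)) k) :
    ∃ Q, (∃ e, Q.IsHomogeneous e) ∧ P - Q ∈ Ideal.span {MvPolynomial.X j - 1} := by
  refine ⟨∑ e ∈ Finset.range (P.totalDegree + 1),
    MvPolynomial.homogeneousComponent e P * MvPolynomial.X j ^ (P.totalDegree - e),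
    ⟨P.totalDegree, MvPolynomial.IsHomogeneous.sum _ _ _ fun e he => ?_⟩, ?_⟩
  · have := (MvPolynomial.homogeneousComponent_isHomogeneous e P).mul
      (MvPolynomial.isHomogeneous_X_pow (R := k) j (P.totalDegree - e))
    rwa [Nat.add_sub_cancel' (Finset.mem_range_succ_iff.1 he)] at this
  · have key : ∀ (S : MvPolynomial (Fin (r + 1)) k),
        (∑ e ∈ Finset.range (P.totalDegree + 1), MvPolynomial.homogeneousComponent e P) - S ∈
          Ideal.span {MvPolynomial.X j - 1} → P - S ∈ Ideal.span {MvPolynomial.X j - 1} := fun S hS => by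
      rwa [MvPolynomial.sum_homogeneousComponent] at hS
    refine key _ ?_
    rw [← Finset.sum_sub_distrib]
    refine Submodule.sum_mem _ fun e _ => ?_
    rw [Ideal.mem_span_singleton]
    refine Dvd.dvd.trans ?_ (dvd_of_eq (show MvPolynomial.homogeneousComponent e P *
      (-(MvPolynomial.X j ^ (P.totalDegree - e) - 1)) = _ by ring))
    exact Dvd.dvd.mul_left ((sub_one_dvd_pow_sub_one _ _).neg_right) _

omit [IrreducibleSpace X] in
theorem psi_X_sub_one (j : Fin (r + 1)) : psi i j (MvPolynomial.X j - 1) = 0 := by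
  rw [map_sub, psi_X_self, map_one, sub_self]

include n in
/-- The kernel on a chart is generated by the equations and `T_j - 1`. -/
theorem exists_eq_of_psi_zero (j : Fin (r + 1)) [Nontrivial Γ(X, chartX i j)] {P : MvPolynomial (Fin (r + 1)) k}
    (hP : psi i j P = 0) : ∃ Q, IsEq i Q ∧ P - Q ∈ Ideal.span {MvPolynomial.X j - 1} := by
  obtain ⟨Q, ⟨e, hQ⟩, hPQ⟩ := exists_homogenize (k := k) j P
  obtain ⟨a, ha⟩ := Ideal.mem_span_singleton'.1 hPQ
  refine ⟨Q, ⟨e, hQ, psi_zero_transfer (n := n) i hQ j ?_⟩, hPQ⟩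
  rw [show Q = P - a * (MvPolynomial.X j - 1) by rw [ha]; ring, map_sub, map_mul, hP, psi_X_sub_one, mul_zero,
    sub_zero]

/-- The points of the cone over `X`. -/
def InCone (v : Fin (r + 1) → k) : Prop := ∀ Q, IsEq i Q → MvPolynomial.eval v Q = 0

omit [IrreducibleSpace X] in
theorem pt_self (j : Fin (r + 1)) (ev : Γ(X, chartX i j) →ₐ[k] k) : pt (psi i j) ev j = 1 := by
  simp [pt, psi_X_self]

omit [IrreducibleSpace X] in
theorem inCone_pt (j : Fin (r + 1)) (ev : Γ(X, chartX i j) →ₐ[k] k) : InCone i (pt (psi i j) ev) :=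
  fun Q hQ => by
    obtain ⟨e, -, h⟩ := hQ
    rw [← ev_psi, h, map_zero]

include n in
theorem exists_point {v : Fin (r + 1) → k} (hv : InCone i v) (j : Fin (r + 1)) (hj : v j = 1) :
    ∃ ev : Γ(X, chartX i j) →ₐ[k] k, pt (psi i j) ev = v := by
  haveI : Nontrivial Γ(X, chartX i j) := by
    by_contra hn
    rw [not_nontrivial_iff_subsingleton] at hn
    have := hv (MvPolynomial.X j) ⟨1, MvPolynomial.isHomogeneous_X k j, fun l => psi_X_of_empty (n := n) i j l⟩
    simp [hj] at this
  have hker : RingHom.ker (psi i j) ≤ RingHom.ker (MvPolynomial.aeval (R := k) v) := fun P hP => by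
    obtain ⟨Q, hQ, hPQ⟩ := exists_eq_of_psi_zero (n := n) i j hP
    obtain ⟨a, ha⟩ := Ideal.mem_span_singleton'.1 hPQ
    rw [RingHom.mem_ker, show P = Q + a * (MvPolynomial.X j - 1) by rw [ha]; ring, map_add, map_mul, map_sub,
      MvPolynomial.aeval_X, hj, map_one, sub_self, mul_zero, add_zero, MvPolynomial.aeval_eq_eval]
    exact hv Q hQ
  refine ⟨AlgHom.liftOfSurjective (psi i j) (psi_surjective i j) (MvPolynomial.aeval v) hker, funext fun s => ?_⟩
  simp [pt, AlgHom.liftOfSurjective_apply]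

/-- the gradient -/
def grad (v : Fin (r + 1) → k) (Q : MvPolynomial (Fin (r + 1)) k) : Fin (r + 1) → k :=
  fun s => MvPolynomial.eval v (MvPolynomial.pderiv s Q)

omit [IrreducibleSpace X] in
theorem dAt_eq_grad (j : Fin (r + 1)) (ev : Γ(X, chartX i j) →ₐ[k] k) (P : MvPolynomial (Fin (r + 1)) k)
    (w : Fin (r + 1) → k) : dAt (psi i j) ev P w = grad (pt (psi i j) ev) P ⬝ᵥ w := by
  rw [dAt_apply]; rfl

theorem grad_euler {e : ℕ} {Q : MvPolynomial (Fin (r + 1)) k} (hQ : Q.IsHomogeneous e) (v : Fin (r + 1) → k) :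
    grad v Q ⬝ᵥ v = e * MvPolynomial.eval v Q := by
  have := congrArg (MvPolynomial.eval v) hQ.sum_X_mul_pderiv
  simp only [map_sum, map_mul, MvPolynomial.eval_X, nsmul_eq_mul, map_natCast] at this
  rw [← this]
  exact Finset.sum_congr rfl fun s _ => mul_comm _ _

/-- the span of the gradients of the equations -/
def gradSpan (v : Fin (r + 1) → k) : Submodule k (Fin (r + 1) → k) :=
  Submodule.span k (Set.range fun Q : Eqn i => grad v Q.1)

omit [IrreducibleSpace X] in
theorem mem_orth_iff (v w : Fin (r + 1) → k) :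
    w ∈ ((gradSpan i v).map (dotProductEquiv k (Fin (r + 1))).toLinearMap).dualCoannihilator ↔
      ∀ Q, IsEq i Q → grad v Q ⬝ᵥ w = 0 := by
  rw [Submodule.mem_dualCoannihilator]
  constructor
  · intro h Q hQ
    exact h _ ⟨_, Submodule.subset_span ⟨⟨Q, hQ⟩, rfl⟩, rfl⟩
  · rintro h _ ⟨u, hu, rfl⟩
    show u ⬝ᵥ w = 0
    induction hu using Submodule.span_induction with
    | mem x hx => obtain ⟨Q, rfl⟩ := hx; exact h Q.1 Q.2
    | zero => simp
    | add x y _ _ hx hy => rw [add_dotProduct, hx, hy, add_zero]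
    | smul a x _ hx => rw [smul_dotProduct, hx, smul_zero]

variable [IsAlgClosed k]

include n in
theorem tanSpace_mem (j : Fin (r + 1)) (ev : Γ(X, chartX i j) →ₐ[k] k) (w : Fin (r + 1) → k) :
    w ∈ tanSpace (psi i j) ev ↔ w j = 0 ∧ ∀ Q, IsEq i Q → grad (pt (psi i j) ev) Q ⬝ᵥ w = 0 := by
  haveI : Nontrivial Γ(X, chartX i j) := ev.toRingHom.domain_nontrivial
  rw [mem_tanSpace]
  constructor
  · intro h
    refine ⟨?_, fun Q hQ => ?_⟩
    · have := h _ (psi_X_sub_one i j)
      simpa [dAt_apply, MvPolynomial.pderiv_X, Pi.single_apply] using this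
    · rw [← dAt_eq_grad]
      obtain ⟨e, -, hQ⟩ := hQ
      exact h Q (hQ j)
  · rintro ⟨hw, h⟩ P hP
    obtain ⟨Q, hQ, hPQ⟩ := exists_eq_of_psi_zero (n := n) i j hP
    obtain ⟨a, ha⟩ := Ideal.mem_span_singleton'.1 hPQ
    rw [show P = Q + a * (MvPolynomial.X j - 1) by rw [ha]; ring, dAt_add, dAt_mul, LinearMap.add_apply,
      LinearMap.add_apply, LinearMap.smul_apply, LinearMap.smul_apply, dAt_eq_grad i j ev Q, h Q hQ]
    simp [dAt_apply, MvPolynomial.pderiv_X, Pi.single_apply, hw, pt_self]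

/-- the gradients of the equations have rank `r - n` at every point -/
theorem finrank_gradSpan (j : Fin (r + 1)) (ev : Γ(X, chartX i j) →ₐ[k] k) :
    Module.finrank k (gradSpan i (pt (psi i j) ev)) + n = r := by
  set v := pt (psi i j) ev
  set W := ((gradSpan i v).map (dotProductEquiv k (Fin (r + 1))).toLinearMap).dualCoannihilator
  haveI : (RingHom.ker ev).IsPrime := RingHom.ker_isPrime _
  obtain ⟨F, hF, hst⟩ := exists_standardSmooth (n := n) i j (RingHom.ker ev)
  have hT := finrank_tanSpace_of_chart n (psi_surjective i j) ev F hF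
  have hvW : v ∈ W := (mem_orth_iff i v v).2 fun Q hQ => by
    obtain ⟨e, he, hQ'⟩ := hQ
    rw [grad_euler he, inCone_pt i j ev Q ⟨e, he, hQ'⟩, mul_zero]
  have hW : W = tanSpace (psi i j) ev ⊔ Submodule.span k {v} := by
    refine le_antisymm (fun w hw => ?_) (sup_le (fun w hw => ?_) ((Submodule.span_singleton_le_iff_mem _ _).2 hvW))
    · refine Submodule.mem_sup.2 ⟨w - w j • v, ?_, w j • v, Submodule.mem_span_singleton.2 ⟨_, rfl⟩, sub_add_cancel _ _⟩
      refine (tanSpace_mem (n := n) i j ev _).2 ⟨by simp [v, pt_self], fun Q hQ => ?_⟩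
      rw [dotProduct_sub, dotProduct_smul, (mem_orth_iff i v w).1 hw Q hQ, (mem_orth_iff i v v).1 hvW Q hQ]
      simp
    · exact (mem_orth_iff i v w).2 ((tanSpace_mem (n := n) i j ev w).1 hw).2
  have hdisj : tanSpace (psi i j) ev ⊓ Submodule.span k {v} = ⊥ := by
    rw [eq_bot_iff]
    rintro w ⟨hw, hw'⟩
    obtain ⟨c, rfl⟩ := Submodule.mem_span_singleton.1 hw'
    have := ((tanSpace_mem (n := n) i j ev _).1 hw).1
    simp [v, pt_self] at this
    simp [this]
  have hv0 : v ≠ 0 := fun h => by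
    have := congrFun h j
    simp [v, pt_self] at this
  have h1 := Submodule.finrank_sup_add_finrank_inf_eq (tanSpace (psi i j) ev) (Submodule.span k {v})
  rw [← hW, hdisj, finrank_bot, hT, finrank_span_singleton hv0] at h1
  have h2 := Subspace.finrank_add_finrank_dualCoannihilator_eq
    ((gradSpan i v).map (dotProductEquiv k (Fin (r + 1))).toLinearMap)
  rw [← ((dotProductEquiv k (Fin (r + 1))).submoduleMap (gradSpan i v)).finrank_eq,
    Module.finrank_fin_fun] at h2
  change Module.finrank k (gradSpan i v) + Module.finrank k W = r + 1 at h2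
  omega

include n in
/-- A form vanishes to second order at a point iff it vanishes there and its gradient is a combination of those of
the equations. -/
theorem mem_sq_iff_grad (G : LefPen.Form r k d) (j : Fin (r + 1)) (ev : Γ(X, chartX i j) →ₐ[k] k) :
    psi i j G.1 ∈ RingHom.ker ev ^ 2 ↔ MvPolynomial.eval (pt (psi i j) ev) G.1 = 0 ∧
      grad (pt (psi i j) ev) G.1 ∈ gradSpan i (pt (psi i j) ev) := by
  set v := pt (psi i j) ev with hv
  rw [mem_sq_iff ev (psi_surjective i j)]
  refine and_congr_right fun h0 => ?_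
  constructor
  · intro h
    have hmem : dotProductEquiv k (Fin (r + 1)) (grad v G.1) ∈
        (gradSpan i v).map (dotProductEquiv k (Fin (r + 1))).toLinearMap := by
      rw [← Subspace.dualCoannihilator_dualAnnihilator_eq
        (W := (gradSpan i v).map (dotProductEquiv k (Fin (r + 1))).toLinearMap), Submodule.mem_dualAnnihilator]
      intro w hw
      show grad v G.1 ⬝ᵥ w = 0
      have hG : grad v G.1 ⬝ᵥ v = 0 := by
        rw [grad_euler ((MvPolynomial.mem_homogeneousSubmodule d _).1 G.2)]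
        rw [hv, h0, mul_zero]
      have hw' : w - w j • v ∈ tanSpace (psi i j) ev := by
        refine (tanSpace_mem (n := n) i j ev _).2 ⟨by simp [v, pt_self], fun Q hQ => ?_⟩
        obtain ⟨e, he, hQ'⟩ := id hQ
        rw [dotProduct_sub, dotProduct_smul, (mem_orth_iff i v w).1 hw Q hQ, grad_euler he,
          inCone_pt i j ev Q hQ]
        simp
      have := h _ hw'
      rw [dAt_eq_grad, dotProduct_sub, dotProduct_smul, hG, smul_zero, sub_zero] at this
      exact this
    obtain ⟨u, hu, hu'⟩ := hmem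
    exact (dotProductEquiv k (Fin (r + 1))).injective hu' ▸ hu
  · intro hG w hw
    rw [dAt_eq_grad]
    revert hG
    generalize grad (pt (psi i j) ev) G.1 = u
    intro hG
    induction hG using Submodule.span_induction with
    | mem x hx => obtain ⟨Q, rfl⟩ := hx; exact ((tanSpace_mem (n := n) i j ev w).1 hw).2 Q.1 Q.2
    | zero => simp
    | add x y _ _ hx hy => rw [add_dotProduct, hx, hy, add_zero]
    | smul a x _ hx => rw [smul_dotProduct, hx, smul_zero]

end

end Groth.Agent.LefPenLib
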