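import Groth.Agent.LefGeo.Finite
import Mathlib.RingTheory.Smooth.StandardSmoothCotangent
import Mathlib.RingTheory.Kaehler.Basic
import Mathlib.RingTheory.Etale.Kaehler
import Mathlib.RingTheory.Ideal.Cotangent
import Mathlib.RingTheory.Nullstellensatz
import Mathlib.RingTheory.Jacobson.Ring
import Mathlib.FieldTheory.IsAlgClosed.Basic

/-!
# Tangent spaces at rational points of a presented algebra
-/

universe u

open KaehlerDifferential MvPolynomial

namespace Groth.Agent.LefPenLib

variable {k : Type u} [Field k] {σ : Type*} [Fintype σ] {A : Type u} [CommRing A] [Algebra k A]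

/-- A closed point over an algebraically closed field is rational. -/
theorem exists_ev [IsAlgClosed k] [Algebra.FiniteType k A] (M : Ideal A) [M.IsMaximal] :
    ∃ ev : A →ₐ[k] k, RingHom.ker ev = M := by
  letI := Ideal.Quotient.field M
  haveI : Module.Finite k (A ⧸ M) := finite_of_finite_type_of_isJacobsonRing k (A ⧸ M)
  haveI : Algebra.IsIntegral k (A ⧸ M) := Algebra.IsIntegral.of_finite k _
  let e := AlgEquiv.ofBijective (Algebra.ofId k (A ⧸ M)) IsAlgClosed.algebraMap_bijective_of_isIntegral
  refine ⟨e.symm.toAlgHom.comp (Ideal.Quotient.mkₐ k M), Ideal.ext fun a => ?_⟩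
  rw [RingHom.mem_ker, AlgHom.comp_apply]
  show e.symm _ = 0 ↔ _
  rw [map_eq_zero_iff _ e.symm.injective]
  exact Ideal.Quotient.eq_zero_iff_mem

variable (ψ : MvPolynomial σ k →ₐ[k] A) (ev : A →ₐ[k] k)

/-- the coordinates of a point -/
noncomputable def pt (s : σ) : k := ev (ψ (X s))

theorem ev_psi (P : MvPolynomial σ k) : ev (ψ P) = eval (pt ψ ev) P := by
  induction P using MvPolynomial.induction_on with
  | C c => simp [← MvPolynomial.algebraMap_eq]
  | add p q hp hq => simp [hp, hq]
  | mul_X p s hp => simp [hp, pt]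

/-- the differential of a polynomial at the point, on a vector -/
noncomputable def dAt (P : MvPolynomial σ k) : Module.Dual k (σ → k) :=
  ∑ s, eval (pt ψ ev) (pderiv s P) • LinearMap.proj s

theorem dAt_apply (P : MvPolynomial σ k) (w : σ → k) :
    dAt ψ ev P w = ∑ s, eval (pt ψ ev) (pderiv s P) * w s := by
  simp [dAt]

theorem dAt_add (P Q : MvPolynomial σ k) : dAt ψ ev (P + Q) = dAt ψ ev P + dAt ψ ev Q := by
  refine LinearMap.ext fun w => ?_
  simp [dAt_apply, add_mul, Finset.sum_add_distrib]

theorem dAt_mul (P Q : MvPolynomial σ k) :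
    dAt ψ ev (P * Q) = eval (pt ψ ev) P • dAt ψ ev Q + eval (pt ψ ev) Q • dAt ψ ev P := by
  refine LinearMap.ext fun w => ?_
  simp only [dAt_apply, pderiv_mul, map_add, map_mul, LinearMap.add_apply, LinearMap.smul_apply, smul_eq_mul,
    Finset.mul_sum, ← Finset.sum_add_distrib]
  exact Finset.sum_congr rfl fun s _ => by ring

/-- the tangent space at the point -/
noncomputable def tanSpace : Submodule k (σ → k) := ⨅ P : {P // ψ P = 0}, LinearMap.ker (dAt ψ ev P.1)

theorem mem_tanSpace (w : σ → k) : w ∈ tanSpace ψ ev ↔ ∀ P, ψ P = 0 → dAt ψ ev P w = 0 := by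
  simp [tanSpace]

theorem dAt_eq_zero_of_mem_sq {P : MvPolynomial σ k} (hP : P ∈ LefGeo.pointIdeal (pt ψ ev) ^ 2) :
    dAt ψ ev P = 0 := by
  rw [pow_two] at hP
  refine Submodule.mul_induction_on hP (fun p hp q hq => ?_) (fun p q hp hq => by rw [dAt_add, hp, hq, add_zero])
  rw [dAt_mul, RingHom.mem_ker.1 hp, RingHom.mem_ker.1 hq, zero_smul, zero_smul, add_zero]

variable {ψ} in
theorem map_pointIdeal (hψ : Function.Surjective ψ) :
    (LefGeo.pointIdeal (pt ψ ev)).map ψ = RingHom.ker ev := by
  refine le_antisymm (Ideal.map_le_iff_le_comap.2 fun P hP => ?_) fun a ha => ?_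
  · rw [Ideal.mem_comap, RingHom.mem_ker, ev_psi]
    exact hP
  · obtain ⟨P, rfl⟩ := hψ a
    refine Ideal.mem_map_of_mem _ ?_
    rw [RingHom.mem_ker, ev_psi] at ha
    exact ha

variable {ψ} in
/-- A function vanishes to second order iff its value and its differential on the tangent space vanish. -/
theorem mem_sq_iff (hψ : Function.Surjective ψ) (P : MvPolynomial σ k) :
    ψ P ∈ RingHom.ker ev ^ 2 ↔ eval (pt ψ ev) P = 0 ∧ ∀ w ∈ tanSpace ψ ev, dAt ψ ev P w = 0 := by
  classical
  have hm := map_pointIdeal ev hψ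
  constructor
  · intro h
    have h0 : eval (pt ψ ev) P = 0 := by
      rw [← ev_psi]
      exact RingHom.mem_ker.1 (Ideal.pow_le_self two_ne_zero h)
    rw [← hm, ← Ideal.map_pow] at h
    obtain ⟨Q, hQ, hQP⟩ := (Ideal.mem_map_iff_of_surjective ψ hψ).1 h
    refine ⟨h0, fun w hw => ?_⟩
    have h1 := (mem_tanSpace ψ ev w).1 hw (P - Q) (by rw [map_sub, hQP, sub_self])
    have h2 := dAt_add ψ ev (P - Q) Q
    rw [sub_add_cancel, dAt_eq_zero_of_mem_sq ψ ev hQ, add_zero] at h2
    rw [h2]
    exact h1
  · rintro ⟨h0, hw⟩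
    let W : Submodule k (Module.Dual k (σ → k)) := Submodule.span k (Set.range fun Q : {Q // ψ Q = 0} => dAt ψ ev Q.1)
    have hmem : dAt ψ ev P ∈ W := by
      rw [← Subspace.dualCoannihilator_dualAnnihilator_eq (W := W), Submodule.mem_dualAnnihilator]
      intro w hw'
      refine hw w ((mem_tanSpace ψ ev w).2 fun Q hQ => ?_)
      exact (Submodule.mem_dualCoannihilator w).1 hw' _ (Submodule.subset_span ⟨⟨Q, hQ⟩, rfl⟩)
    obtain ⟨c, hc⟩ := Finsupp.mem_span_range_iff_exists_finsupp.1 hmem
    set Q : MvPolynomial σ k := c.sum fun Q a => C a * Q.1 with hQ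
    have hQ0 : ψ Q = 0 := by
      rw [hQ, map_finsuppSum]
      refine Finset.sum_eq_zero fun Q' _ => ?_
      show ψ (C (c Q') * Q'.1) = 0
      rw [map_mul, Q'.2, mul_zero]
    have hdQ : dAt ψ ev Q = dAt ψ ev P := by
      rw [← hc, hQ, Finsupp.sum, Finsupp.sum]
      induction c.support using Finset.induction with
      | empty =>
        refine LinearMap.ext fun w => ?_
        simp [dAt_apply]
      | insert a s ha ih =>
        rw [Finset.sum_insert ha, Finset.sum_insert ha, dAt_add, ih, dAt_mul]
        congr 1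
        rw [show dAt ψ ev (C (c a)) = 0 from LinearMap.ext fun w => by simp [dAt_apply], smul_zero, add_zero, eval_C]
    have hev : eval (pt ψ ev) (P - Q) = 0 := by
      rw [map_sub, h0, ← ev_psi, hQ0, map_zero, sub_zero]
    have hgrad : ∀ s, eval (pt ψ ev) (pderiv s (P - Q)) = 0 := fun s => by
      have := LinearMap.congr_fun hdQ (Pi.single s 1)
      simp only [dAt_apply, Pi.single_apply, mul_ite, mul_one, mul_zero, Finset.sum_ite_eq', Finset.mem_univ,
        if_true] at this
      rw [map_sub, map_sub, this, sub_self]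
    have ht := LefGeo.taylor (pt ψ ev) (P - Q)
    rw [hev] at ht
    simp only [hgrad, map_zero, zero_mul, Finset.sum_const_zero, sub_zero] at ht
    have := Ideal.mem_map_of_mem ψ ht
    rw [Ideal.map_pow, hm, map_sub, hQ0, sub_zero] at this
    exact this

omit [Fintype σ] in
/-- A function with differential vanishing at the point and value zero vanishes to second order. -/
theorem mem_sq_of_D {B : Type u} [CommRing B] [Algebra k B] (e : B →ₐ[k] k) {h : B} (h0 : e h = 0)
    (hD : KaehlerDifferential.D k B h ∈ RingHom.ker e • (⊤ : Submodule B Ω[B⁄k])) : h ∈ RingHom.ker e ^ 2 := by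
  set m := RingHom.ker e
  have hmem : ∀ a : B, a - algebraMap k B (e a) ∈ m := fun a => by
    simp [m, RingHom.mem_ker]
  let δ : Derivation k B m.Cotangent :=
    Derivation.mk' { toFun := fun a => m.toCotangent ⟨a - algebraMap k B (e a), hmem a⟩
                     map_add' := fun a b => by
                       rw [← map_add]; congr 1; ext; simp [map_add]; ring
                     map_smul' := fun c a => by
                       rw [RingHom.id_apply, ← algebraMap_smul B c (m.toCotangent _), ← map_smul]
                       congr 1; ext; simp [Algebra.smul_def, mul_sub] }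
      fun a b => by
        show m.toCotangent _ = a • m.toCotangent _ + b • m.toCotangent _
        rw [← map_smul, ← map_smul, ← map_add, Ideal.toCotangent_eq]
        have e2 : a * b - algebraMap k B (e (a * b)) -
            (a * (b - algebraMap k B (e b)) + b * (a - algebraMap k B (e a))) =
            -((a - algebraMap k B (e a)) * (b - algebraMap k B (e b))) := by
          rw [map_mul, map_mul]; ring
        have e3 := (neg_mem (Ideal.mul_mem_mul (hmem a) (hmem b)) : -((a - algebraMap k B (e a)) * (b - algebraMap k B (e b))) ∈ m * m)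
        rw [← e2, ← pow_two] at e3
        exact e3
  have hz : δ h = 0 := by
    rw [← Derivation.liftKaehlerDifferential_comp_D δ]
    refine Submodule.smul_induction_on hD (fun a ha ω _ => ?_) fun x y hx hy => by rw [map_add, hx, hy, add_zero]
    rw [map_smul]
    obtain ⟨⟨z, hz⟩, hzeq⟩ := m.toCotangent_surjective (δ.liftKaehlerDifferential ω)
    rw [← hzeq, ← map_smul, Ideal.toCotangent_eq_zero, pow_two]
    exact Ideal.mul_mem_mul ha hz
  have : m.toCotangent ⟨h - algebraMap k B (e h), hmem h⟩ = 0 := hz
  rw [Ideal.toCotangent_eq_zero] at this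
  simpa [h0] using this

section Chart

omit [Fintype σ] in
/-- Vanishing to second order can be tested in a localisation. -/
theorem mem_sq_of_away {B : Type u} [CommRing B] [Algebra k B] [Algebra A B] (ev : A →ₐ[k] k) (evB : B →ₐ[k] k)
    (hcomp : ∀ a, evB (algebraMap A B a) = ev a) (F : A) [IsLocalization.Away F B] {h : A} (h0 : ev h = 0)
    (hB : algebraMap A B h ∈ RingHom.ker evB ^ 2) : h ∈ RingHom.ker ev ^ 2 := by
  set m := RingHom.ker ev
  have hF : ev F ≠ 0 := fun hz => by
    have := (IsLocalization.Away.algebraMap_isUnit (S := B) F).map evB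
    rw [hcomp, hz] at this
    exact not_isUnit_zero this
  have hle : RingHom.ker evB ≤ m.map (algebraMap A B) := fun b hb => by
    obtain ⟨⟨a, ⟨_, N, rfl⟩⟩, hb'⟩ := IsLocalization.surj (Submonoid.powers F) b
    rw [IsLocalization.mem_map_algebraMap_iff (Submonoid.powers F)]
    refine ⟨⟨⟨a, ?_⟩, ⟨_, N, rfl⟩⟩, hb'⟩
    have := congrArg evB hb'
    rw [map_mul, RingHom.mem_ker.1 hb, zero_mul, hcomp] at this
    exact this.symm
  have h1 : algebraMap A B h ∈ (m ^ 2).map (algebraMap A B) := by
    rw [Ideal.map_pow]; exact Ideal.pow_right_mono hle 2 hB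
  obtain ⟨⟨⟨a, ha⟩, ⟨_, N, rfl⟩⟩, e⟩ := (IsLocalization.mem_map_algebraMap_iff (Submonoid.powers F) B).1 h1
  rw [← map_mul] at e
  obtain ⟨⟨_, N', rfl⟩, e'⟩ := (IsLocalization.eq_iff_exists (Submonoid.powers F) B).1 e
  have h2 : F ^ (N' + N) * h ∈ m ^ 2 := by
    rw [pow_add, show F ^ N' * F ^ N * h = F ^ N' * (h * F ^ N) by ring, e']
    exact Ideal.mul_mem_left _ _ ha
  have h3 : (F ^ (N' + N) - algebraMap k A (ev F ^ (N' + N))) * h ∈ m ^ 2 := by
    rw [pow_two]
    exact Ideal.mul_mem_mul (by simp [m, RingHom.mem_ker]) h0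
  have h4 : algebraMap k A (ev F ^ (N' + N)) * h ∈ m ^ 2 := by
    have := sub_mem h2 h3
    rwa [← sub_mul, sub_sub_cancel] at this
  have h5 := (m ^ 2).mul_mem_left (algebraMap k A (ev F ^ (N' + N))⁻¹) h4
  rwa [← mul_assoc, ← map_mul, inv_mul_cancel₀ (pow_ne_zero _ hF), map_one, one_mul] at h5

variable {B : Type u} [CommRing B] [Algebra k B] [Algebra A B] [IsScalarTower k A B] (evB : B →ₐ[k] k)
  (hcomp : ∀ a, evB (algebraMap A B a) = ev a) {ι : Type*} [Fintype ι] (bas : Module.Basis ι B Ω[B⁄k])

/-- chain rule -/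
theorem D_psi (P : MvPolynomial σ k) :
    KaehlerDifferential.D k B (algebraMap A B (ψ P)) =
      ∑ s, algebraMap A B (ψ (pderiv s P)) • KaehlerDifferential.D k B (algebraMap A B (ψ (X s))) := by
  classical
  induction P using MvPolynomial.induction_on with
  | C c =>
    rw [show ψ (C c) = algebraMap k A c from ψ.commutes c, ← IsScalarTower.algebraMap_apply]
    simp
  | add p q hp hq => simp [hp, hq, add_smul, Finset.sum_add_distrib]
  | mul_X p l hp =>
    rw [map_mul, map_mul, Derivation.leibniz, hp, Finset.smul_sum]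
    simp only [pderiv_mul, pderiv_X, Pi.single_apply, map_add, map_mul, apply_ite ψ, map_one, map_zero,
      apply_ite (algebraMap A B), mul_ite, mul_one, mul_zero, add_smul, Finset.sum_add_distrib, ite_smul,
      zero_smul, Finset.sum_ite_eq', Finset.sum_ite_eq, Finset.mem_univ, if_true, smul_smul, mul_comm]
    rw [add_comm]

include hcomp in
theorem dAt_phi (c : ι → k) (P : MvPolynomial σ k) :
    dAt ψ ev P (fun s => ∑ b, c b * evB (bas.repr (KaehlerDifferential.D k B (algebraMap A B (ψ (X s)))) b)) =
      ∑ b, c b * evB (bas.repr (KaehlerDifferential.D k B (algebraMap A B (ψ P))) b) := by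
  rw [dAt_apply, D_psi ψ P]
  simp only [map_sum, map_smul, Finsupp.coe_finsetSum, Finset.sum_apply, Finsupp.smul_apply, smul_eq_mul,
    map_mul, hcomp, ← ev_psi, Finset.mul_sum]
  rw [Finset.sum_comm]
  exact Finset.sum_congr rfl fun b _ => Finset.sum_congr rfl fun s _ => by ring

variable {ψ} in
include hcomp bas in
/-- The tangent space at a smooth point has the relative dimension. -/
theorem finrank_tanSpace (hψ : Function.Surjective ψ) (F : A) [IsLocalization.Away F B] :
    Module.finrank k (tanSpace ψ ev) = Fintype.card ι := by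
  classical
  let g : σ → ι → k := fun s b => evB (bas.repr (KaehlerDifferential.D k B (algebraMap A B (ψ (X s)))) b)
  let Φ : (ι → k) →ₗ[k] (σ → k) := LinearMap.pi fun s => Fintype.linearCombination k (g s)
  have hΦ : ∀ c, Φ c = fun s => ∑ b, c b * g s b := fun c => by
    funext s; simp [Φ, Fintype.linearCombination_apply]
  have hspan : Submodule.span B (Set.range fun s => KaehlerDifferential.D k B (algebraMap A B (ψ (X s)))) = ⊤ := by
    rw [eq_top_iff, ← span_range_map_derivation_of_isLocalization (R := k) (S := A) (T := B) (Submonoid.powers F),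
      Submodule.span_le]
    rintro _ ⟨a, rfl⟩
    obtain ⟨P, rfl⟩ := hψ a
    rw [Function.comp_apply, KaehlerDifferential.map_D, D_psi ψ P]
    exact Submodule.sum_mem _ fun s _ => Submodule.smul_mem _ _ (Submodule.subset_span ⟨s, rfl⟩)
  have hinj : Function.Injective Φ := by
    rw [← LinearMap.ker_eq_bot, Submodule.eq_bot_iff]
    intro c hc
    have hall : ∀ ω : Ω[B⁄k], ∑ b, c b * evB (bas.repr ω b) = 0 := fun ω => by
      induction (hspan ▸ Submodule.mem_top : ω ∈ Submodule.span B (Set.range fun s =>
        KaehlerDifferential.D k B (algebraMap A B (ψ (X s))))) using Submodule.span_induction with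
      | mem x hx =>
        obtain ⟨s, rfl⟩ := hx
        have := congrFun (LinearMap.mem_ker.1 hc) s
        rwa [hΦ] at this
      | zero => simp
      | add x y _ _ hx hy => simp [mul_add, Finset.sum_add_distrib, hx, hy]
      | smul a x _ hx =>
        simp only [map_smul, Finsupp.smul_apply, smul_eq_mul, map_mul, mul_left_comm (c _), ← Finset.mul_sum, hx,
          mul_zero]
    funext b
    have := hall (bas b)
    simpa [Finsupp.single_apply] using this
  have hle : LinearMap.range Φ ≤ tanSpace ψ ev := by
    rintro _ ⟨c, rfl⟩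
    refine (mem_tanSpace ψ ev _).2 fun P hP => ?_
    rw [hΦ, dAt_phi ψ ev evB hcomp bas c P, hP]
    simp
  have hge : tanSpace ψ ev ≤ LinearMap.range Φ := fun w hw => by
    by_contra hne
    obtain ⟨φ, hφw, hφ⟩ := Submodule.exists_dual_map_eq_bot_of_notMem hne inferInstance
    refine hφw ?_
    let P : MvPolynomial σ k := ∑ s, C (φ (Pi.single s 1)) * (X s - C (pt ψ ev s))
    have hdP : dAt ψ ev P = φ := by
      refine LinearMap.ext fun u => ?_
      conv_rhs => rw [pi_eq_sum_univ' u]
      simp [dAt_apply, P, map_sum, pderiv_X, Pi.single_apply, mul_comm]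
    have hev : eval (pt ψ ev) P = 0 := by simp [P]
    rw [← hdP]
    refine ((mem_sq_iff ev hψ P).1 ?_).2 w hw
    -- the differential of `P` vanishes at the point of the chart
    have hc0 : ∀ b, evB (bas.repr (KaehlerDifferential.D k B (algebraMap A B (ψ P))) b) = 0 := fun b => by
      have h1 := dAt_phi ψ ev evB hcomp bas (Pi.single b 1) P
      rw [hdP] at h1
      have h2 : φ (Φ (Pi.single b 1)) = 0 := by
        have := Submodule.mem_map_of_mem (f := φ) (LinearMap.mem_range_self Φ (Pi.single b 1))
        rwa [hφ, Submodule.mem_bot] at this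
      rw [hΦ] at h2
      rw [h2] at h1
      simpa [Pi.single_apply] using h1.symm
    have hB : algebraMap A B (ψ P) ∈ RingHom.ker evB ^ 2 := by
      refine mem_sq_of_D evB (by rw [hcomp, ev_psi, hev]) ?_
      rw [← bas.sum_repr (KaehlerDifferential.D k B (algebraMap A B (ψ P)))]
      exact Submodule.sum_mem _ fun b _ => Submodule.smul_mem_smul (RingHom.mem_ker.2 (hc0 b)) Submodule.mem_top
    exact mem_sq_of_away ev evB hcomp F (by rw [ev_psi, hev]) hB
  rw [← le_antisymm hle hge, LinearMap.finrank_range_of_inj hinj, Module.finrank_fintype_fun_eq_card]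

end Chart

end Groth.Agent.LefPenLib
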