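import Groth.Agent.LefPenLib.CharAlg
import Groth.Agent.LefGeo.PolyFun
import Groth.Agent.LefGeo.Elim
import Groth.Agent.SmoothDim.Basic
import Mathlib.RingTheory.Ideal.KrullsHeightTheorem
import Mathlib.RingTheory.KrullDimension.NonZeroDivisors

/-!
# The locus of singular forms is an irreducible hypersurface
-/

universe u

open MvPolynomial

namespace Groth.Agent.LefPenLib.Discr

noncomputable section

variable {k : Type u} [Field k] {σ : Type*}

/-- singular at a vector -/
def Sing [Fintype σ] (v : σ → k) (G : MvPolynomial σ k) : Prop :=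
  eval v G = 0 ∧ ∀ l, eval v (pderiv l G) = 0

theorem eval_aeval (T : σ → MvPolynomial σ k) (x : σ → k) (G : MvPolynomial σ k) :
    eval x (aeval T G) = eval (fun l => eval x (T l)) G := by
  rw [← aeval_eq_eval, ← aeval_eq_eval, ← AlgHom.comp_apply, comp_aeval]

theorem sing_aeval [Fintype σ] (T : σ → MvPolynomial σ k) {x : σ → k} {G : MvPolynomial σ k}
    (h : Sing (fun l => eval x (T l)) G) : Sing x (aeval T G) := by
  classical
  refine ⟨(eval_aeval T x G).trans h.1, fun i => ?_⟩
  rw [deriv_aeval, map_sum]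
  exact Finset.sum_eq_zero fun l _ => by rw [smul_eq_mul, map_mul, eval_aeval, h.2 l, zero_mul]

/-- a quadric smooth in every characteristic -/
def quad (n : ℕ) : MvPolynomial (Fin n) k :=
  ∑ a : Fin n, if a.1 % 2 = 0 then X a * X (if h : a.1 + 1 < n then ⟨a.1 + 1, h⟩ else a) else 0

theorem quad_isHomogeneous (n : ℕ) : (quad n : MvPolynomial (Fin n) k).IsHomogeneous 2 :=
  IsHomogeneous.sum _ _ _ fun a _ => by
    split_ifs <;> first
      | exact (isHomogeneous_X k _).mul (isHomogeneous_X k _)
      | exact isHomogeneous_zero _ _ _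

theorem eq_zero_of_sing_quad {n : ℕ} (x : Fin n → k) (h : Sing x (quad n)) : x = 0 := by
  classical
  have hd : ∀ b : Fin n, ∑ a : Fin n, (if a.1 % 2 = 0 then
      (if a = b then x (if h : a.1 + 1 < n then ⟨a.1 + 1, h⟩ else a) else 0) +
        (if (if h : a.1 + 1 < n then ⟨a.1 + 1, h⟩ else a) = b then x a else 0) else 0) = 0 := fun b => by
    refine Eq.trans ?_ (h.2 b)
    rw [quad, map_sum, map_sum]
    refine Finset.sum_congr rfl fun a _ => ?_
    split_ifs <;> simp_all [pderiv_mul, pderiv_X, Pi.single_apply]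
  have hA : ∀ c : Fin n, c.1 % 2 = 0 → c.1 + 1 < n → x c = 0 := fun c hc hc' => by
    have := hd ⟨c.1 + 1, hc'⟩
    rw [Finset.sum_eq_single c] at this
    · rw [if_pos hc, if_neg (fun e => by have := congrArg Fin.val e; simp at this), zero_add,
        if_pos (by rw [dif_pos hc'])] at this
      exact this
    · intro a _ ha
      split_ifs with h0 h1 h2 h3 <;> try simp
      all_goals (exfalso; simp_all [Fin.ext_iff] <;> omega)
    · simp
  have hB : ∀ c : Fin n, c.1 % 2 = 1 → x c = 0 := fun c hc => by
    have := hd ⟨c.1 - 1, by omega⟩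
    rw [Finset.sum_eq_single (⟨c.1 - 1, by omega⟩ : Fin n)] at this
    · have e : c.1 - 1 + 1 < n := by omega
      rw [if_pos (show (c.1 - 1) % 2 = 0 by omega), if_pos rfl, dif_pos e,
        if_neg (fun e => by have := congrArg Fin.val e; simp at this), add_zero] at this
      rwa [show (⟨c.1 - 1 + 1, e⟩ : Fin n) = c from Fin.ext (by show c.1 - 1 + 1 = c.1; omega)] at this
    · intro a _ ha
      split_ifs with h0 h1 h2 h3 <;> try simp
      all_goals (exfalso; simp_all [Fin.ext_iff] <;> omega)
    · simp
  funext c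
  rcases Nat.mod_two_eq_zero_or_one c.1 with hc | hc
  · rcases lt_or_ge (c.1 + 1) n with hc' | hc'
    · exact hA c hc hc'
    · have h0 := h.1
      rw [quad, map_sum, Finset.sum_eq_single c] at h0
      · rw [if_pos hc, dif_neg (by omega), map_mul, eval_X, mul_self_eq_zero] at h0
        exact h0
      · intro a _ ha
        have ha' : a.1 % 2 = 0 → x a = 0 := fun h0 => hA a h0 (by
          have : a.1 ≠ c.1 := fun e => ha (Fin.ext e)
          omega)
        split_ifs with h0 <;> simp_all
      · simp
  · exact hB c hc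

variable {n d : ℕ}

/-- coordinates of a polynomial extending those of forms -/
theorem exists_coord {N : ℕ} (b : Module.Basis (Fin N) k (LefPen.Form n k d)) :
    ∃ lam : Fin N → (MvPolynomial (Fin (n + 1)) k →ₗ[k] k),
      ∀ (G : LefPen.Form n k d) l, lam l G.1 = b.repr G l := by
  choose lam hlam using fun l => LinearMap.exists_extend (b.coord l)
  exact ⟨lam, fun G l => LinearMap.congr_fun (hlam l) G⟩

/-- the shear moving a vector -/
def shear (v : Fin n → k) : Fin (n + 1) → MvPolynomial (Fin (n + 1)) k :=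
  Fin.cons (X 0) fun a => X a.succ - C (v a) * X 0

theorem shear_isHomogeneous (v : Fin n → k) (l : Fin (n + 1)) : (shear v l).IsHomogeneous 1 := by
  refine Fin.cases ?_ (fun a => ?_) l
  · exact isHomogeneous_X k 0
  · exact (isHomogeneous_X k _).sub (isHomogeneous_C_mul_X _ _)

theorem eval_shear (v y : Fin n → k) (c : k) :
    (fun l => eval (Fin.cons c y) (shear v l)) = Fin.cons c fun a => y a - v a * c := by
  funext l
  refine Fin.cases ?_ (fun a => ?_) l <;> simp [shear]

theorem aeval_shear_neg (v : Fin n → k) (G : MvPolynomial (Fin (n + 1)) k) :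
    aeval (shear v) (aeval (shear (-v)) G) = G := by
  rw [← AlgHom.comp_apply, comp_aeval]
  conv_rhs => rw [← aeval_X_left_apply G]
  refine congrArg (fun u => aeval u G) (funext fun l => ?_)
  refine Fin.cases ?_ (fun a => ?_) l <;> simp [shear]

/-- a linear substitution of a form -/
def subForm (T : Fin (n + 1) → MvPolynomial (Fin (n + 1)) k) (hT : ∀ l, (T l).IsHomogeneous 1)
    (G : LefPen.Form n k d) : LefPen.Form n k d :=
  ⟨aeval T G.1, (mem_homogeneousSubmodule _ _).2 (by
    simpa using ((mem_homogeneousSubmodule _ _).1 G.2).aeval T hT)⟩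

/-- the jet at the first coordinate vector -/
def jet0 : LefPen.Form n k d →ₗ[k] (Fin (n + 1) → k) :=
  LinearMap.pi fun l => (aeval (Pi.single 0 1 : Fin (n + 1) → k)).toLinearMap ∘ₗ
    (if l = 0 then LinearMap.id else (pderiv l : Derivation k (MvPolynomial (Fin (n + 1)) k) _).toLinearMap) ∘ₗ
      (Submodule.subtype _)

theorem mem_ker_jet0 {G : LefPen.Form n k d} :
    G ∈ LinearMap.ker (jet0 (k := k) (n := n) (d := d)) ↔ Sing (Pi.single 0 1) G.1 := by
  classical
  have hj : ∀ l, jet0 G l = eval (Pi.single 0 1) (if l = 0 then G.1 else pderiv l G.1) := fun l => by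
    rw [jet0, LinearMap.pi_apply, LinearMap.comp_apply, LinearMap.comp_apply, AlgHom.toLinearMap_apply,
      MvPolynomial.aeval_eq_eval, Submodule.subtype_apply]
    split_ifs <;> rfl
  rw [LinearMap.mem_ker, funext_iff]
  constructor
  · intro h
    have h0 : eval (Pi.single 0 1) G.1 = 0 := by
      have := (hj 0).symm.trans (h 0)
      rwa [if_pos rfl] at this
    refine ⟨h0, fun l => ?_⟩
    by_cases hl : l = 0
    · subst hl
      have he := congrArg (eval (Pi.single 0 1 : Fin (n + 1) → k))
        ((mem_homogeneousSubmodule _ _).1 G.2).sum_X_mul_pderiv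
      simp only [map_sum, map_mul, eval_X, Pi.single_apply, ite_mul, one_mul, zero_mul, Finset.sum_ite_eq',
        Finset.mem_univ, if_true, map_nsmul, h0, smul_zero] at he
      exact he
    · have := (hj l).symm.trans (h l)
      rwa [if_neg hl] at this
  · rintro ⟨h0, h1⟩ l
    rw [hj]
    split_ifs <;> simp [*]

theorem jet0_surjective (hd : 2 ≤ d) : Function.Surjective (jet0 (k := k) (n := n) (d := d)) := by
  classical
  intro y
  let P : MvPolynomial (Fin (n + 1)) k := ∑ a : Fin (n + 1), C (y a) * (X a * X 0 ^ (d - 1))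
  have hP : P.IsHomogeneous d := IsHomogeneous.sum _ _ _ fun a _ => by
    simpa [show 1 + (d - 1) = d by omega] using
      (isHomogeneous_C _ (y a)).mul ((isHomogeneous_X k a).mul (isHomogeneous_X_pow (R := k) 0 (d - 1)))
  refine ⟨⟨P, (mem_homogeneousSubmodule _ _).2 hP⟩, funext fun l => ?_⟩
  rw [jet0, LinearMap.pi_apply, LinearMap.comp_apply, LinearMap.comp_apply, AlgHom.toLinearMap_apply,
    MvPolynomial.aeval_eq_eval, Submodule.subtype_apply]
  split_ifs with hl
  · simp [P, hl, Pi.single_apply]
  · simp [P, pderiv_mul, pderiv_pow, pderiv_X, Pi.single_apply, apply_ite (eval _), Ne.symm hl, hl]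

variable [IsAlgClosed k]

omit [IsAlgClosed k] in
/-- a point which is alone in its fibre bounds the dimension from below -/
theorem height_le_dim {B R : Type u} [CommRing B] [IsNoetherianRing B] [CommRing R] [IsNoetherianRing R]
    (f : B →+* R) (M : Ideal R) [M.IsMaximal]
    (hrad : ∀ Q : Ideal R, Q.IsPrime → (M.comap f).map f ≤ Q → M ≤ Q) :
    (M.height : WithBot ℕ∞) ≤ ringKrullDim B := by
  letI : Algebra B R := f.toAlgebra
  have h1 := Ideal.height_le_height_add_of_liesOver (M.under B) M
  have h2 : (M.map (Ideal.Quotient.mk ((M.under B).map (algebraMap B R)))).height = 0 := by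
    haveI : (M.map (Ideal.Quotient.mk ((M.under B).map (algebraMap B R)))).IsPrime :=
      Ideal.map_isPrime_of_surjective Ideal.Quotient.mk_surjective (by
        rw [Ideal.mk_ker]; exact Ideal.map_comap_le)
    rw [Ideal.height_eq_zero_iff]
    refine ⟨⟨inferInstance, bot_le⟩, fun Q hQ hQle => ?_⟩
    haveI := hQ.1
    exact (Ideal.map_mono (hrad (Q.comap (Ideal.Quotient.mk _)) inferInstance fun x hx =>
      show Ideal.Quotient.mk _ x ∈ Q by rw [show Ideal.Quotient.mk ((M.under B).map (algebraMap B R)) x = 0 from Ideal.Quotient.eq_zero_iff_mem.2 hx]; exact zero_mem _)).trans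
        Ideal.map_comap_le
  rw [h2, add_zero] at h1
  exact (WithBot.coe_le_coe.2 h1).trans (Ideal.height_le_ringKrullDim_of_ne_top (Ideal.IsPrime.ne_top inferInstance))

/-- an isolated point of a fibre bounds the dimension of the target -/
theorem le_dim_of_fibre {B : Type u} [CommRing B] [IsNoetherianRing B] {m : ℕ} (f : B →+* MvPolynomial (Fin m) k)
    (hC : ∀ c : k, ∃ b, f b = C c) (s0 : Fin m → k)
    (hfib : ∀ s, (∀ b, eval s (f b) = eval s0 (f b)) → s = s0) : (m : WithBot ℕ∞) ≤ ringKrullDim B := by
  have hMs : (vanishingIdeal k {s0}).IsMaximal := isMaximal_iff_eq_vanishingIdeal_singleton.2 ⟨s0, rfl⟩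
  haveI := hMs
  have h0 := height_le_dim f (vanishingIdeal k {s0}) fun Q hQ hle => by
    refine le_trans ?_ ((Ideal.IsRadical.radical_le_iff hQ.isRadical).2 hle)
    rw [← vanishingIdeal_zeroLocus_eq_radical (K := k)]
    refine vanishingIdeal_anti_mono fun s hs => ?_
    refine Set.mem_singleton_iff.2 (hfib s fun b => ?_)
    obtain ⟨b', hb'⟩ := hC (eval s0 (f b))
    have hz : b - b' ∈ Ideal.comap f (vanishingIdeal k {s0}) := Ideal.mem_comap.2 (by
      rw [map_sub, hb', mem_vanishingIdeal_singleton_iff]
      simp)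
    have := mem_zeroLocus_iff.1 hs _ (Ideal.mem_map_of_mem f hz)
    rw [map_sub, hb'] at this
    simpa [sub_eq_zero] using this
  rw [show (vanishingIdeal k {s0}).height = (m : ℕ∞) from
    (PrimeSpectrum.height_eq_orderHeight ⟨_, hMs.isPrime⟩).trans
      (SmoothDim.height_maximal_mvPolynomial k m ⟨_, hMs.isPrime⟩ hMs)] at h0
  exact h0

/-- If a map from affine `m`-space to `N`-space, `N ≤ m + 1`, has an isolated point in a fibre, then the
equations of its image are generated by any prime one. -/
theorem dvd_of_fibre {N m : ℕ} (hNm : N ≤ m + 1) (φ : MvPolynomial (Fin N) k →ₐ[k] MvPolynomial (Fin m) k)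
    (s0 : Fin m → k) (hfib : ∀ s, (∀ p, eval s (φ p) = eval s0 (φ p)) → s = s0)
    {g : MvPolynomial (Fin N) k} (hg : Prime g) (hgφ : φ g = 0) {p : MvPolynomial (Fin N) k} (hp : φ p = 0) :
    g ∣ p := by
  by_contra hnd
  have hprime : (Ideal.span {g}).IsPrime := (Ideal.span_singleton_prime hg.ne_zero).2 hg
  haveI := hprime
  let J : Ideal (MvPolynomial (Fin N) k ⧸ Ideal.span {g}) := Ideal.span {Ideal.Quotient.mk _ p}
  have hA : ringKrullDim (MvPolynomial (Fin N) k ⧸ Ideal.span {g}) + 1 ≤ (N : WithBot ℕ∞) := by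
    refine (ringKrullDim_quotient_succ_le_of_nonZeroDivisor (mem_nonZeroDivisors_of_ne_zero hg.ne_zero)).trans
      (le_of_eq ?_)
    rw [MvPolynomial.ringKrullDim_of_isNoetherianRing, ringKrullDim_eq_zero_of_field]; simp
  have hB : ringKrullDim ((MvPolynomial (Fin N) k ⧸ Ideal.span {g}) ⧸ J) + 1 ≤
      ringKrullDim (MvPolynomial (Fin N) k ⧸ Ideal.span {g}) :=
    ringKrullDim_quotient_succ_le_of_nonZeroDivisor (mem_nonZeroDivisors_of_ne_zero fun e =>
      hnd (Ideal.mem_span_singleton.1 (Ideal.Quotient.eq_zero_iff_mem.1 e)))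
  let π : MvPolynomial (Fin N) k →+* (MvPolynomial (Fin N) k ⧸ Ideal.span {g}) ⧸ J :=
    (Ideal.Quotient.mk J).comp (Ideal.Quotient.mk (Ideal.span {g}))
  have hπ : Function.Surjective π := Ideal.Quotient.mk_surjective.comp Ideal.Quotient.mk_surjective
  have hle : RingHom.ker π ≤ RingHom.ker φ.toRingHom := fun x hx => by
    obtain ⟨c, hc⟩ := Ideal.mem_span_singleton'.1 (Ideal.Quotient.eq_zero_iff_mem.1 (RingHom.mem_ker.1 hx))
    obtain ⟨c', rfl⟩ := Ideal.Quotient.mk_surjective c
    rw [← map_mul, Ideal.Quotient.eq] at hc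
    obtain ⟨e, he⟩ := Ideal.mem_span_singleton'.1 hc
    have := congrArg φ he
    rw [map_mul, map_sub, map_mul, hgφ, hp, mul_zero, mul_zero, zero_sub] at this
    exact neg_eq_zero.1 this.symm
  have hψ : ∀ q, RingHom.liftOfSurjective π hπ ⟨φ.toRingHom, hle⟩ (π q) = φ q := fun q =>
    RingHom.liftOfRightInverse_comp_apply _ _ _ _ q
  have h0 := le_dim_of_fibre (RingHom.liftOfSurjective π hπ ⟨φ.toRingHom, hle⟩)
    (fun c => ⟨π (C c), (hψ _).trans (φ.commutes c)⟩) s0 fun s hs => hfib s fun q => by
      have := hs (π q)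
      rwa [hψ] at this
  have h6 : ((m : ℕ) : WithBot ℕ∞) + 1 + 1 ≤ (N : WithBot ℕ∞) :=
    le_trans (add_le_add_left ((add_le_add_left h0 1).trans hB) 1) hA
  have h7 : m + 1 + 1 ≤ N := by exact_mod_cast h6
  omega

/-- **The singular forms are the zeros of one irreducible polynomial.** -/
theorem exists_irreducible {N : ℕ} (hn : 1 ≤ n) (hd : 2 ≤ d)
    (b : Module.Basis (Fin N) k (LefPen.Form n k d))
    (hsm : ∃ G : LefPen.Form n k d, ∀ v : Fin (n + 1) → k, v ≠ 0 → ¬ Sing v G.1) :
    ∃ g : MvPolynomial (Fin N) k, Irreducible g ∧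
      ∀ G : LefPen.Form n k d, (∃ v : Fin (n + 1) → k, v ≠ 0 ∧ Sing v G.1) ↔
        eval (fun l => b.repr G l) g = 0 := by
  classical
  let W := LinearMap.ker (jet0 (k := k) (n := n) (d := d))
  haveI : FiniteDimensional k (LefPen.Form n k d) := Module.Finite.of_basis b
  haveI : Module.Free k W := Module.Free.of_divisionRing k W
  set M := Module.finrank k W
  let bW := Module.finBasis k W
  have hNM : M + (n + 1) = N := by
    have h1 := (jet0 (k := k) (n := n) (d := d)).finrank_range_add_finrank_ker
    rw [LinearMap.range_eq_top.2 (jet0_surjective hd), finrank_top, Module.finrank_fintype_fun_eq_card,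
      Fintype.card_fin, Module.finrank_eq_card_basis b, Fintype.card_fin, add_comm] at h1
    exact h1
  let Ri := MvPolynomial (Fin (n + M)) k
  let vp : (Fin (n + M) → k) → Fin n → k := fun s a => s (Fin.castAdd M a)
  let wp : (Fin (n + M) → k) → W := fun s => bW.equivFun.symm fun a => s (Fin.natAdd n a)
  let par : (Fin (n + M) → k) → LefPen.Form n k d :=
    fun s => subForm (shear (vp s)) (shear_isHomogeneous _) (wp s).1
  -- the parametrised forms are singular and exhaust those singular off a hyperplane
  have hpar : ∀ s, Sing (Fin.cons 1 (vp s)) (par s).1 := fun s => by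
    refine sing_aeval _ ?_
    rw [eval_shear]
    have : (Fin.cons 1 fun a => vp s a - vp s a * 1 : Fin (n + 1) → k) = Pi.single 0 1 := by
      funext l; refine Fin.cases ?_ (fun a => ?_) l <;> simp
    rw [this]
    exact mem_ker_jet0.1 (wp s).2
  have hpar' : ∀ (y : Fin n → k) (G : LefPen.Form n k d), Sing (Fin.cons 1 y) G.1 → ∃ s, par s = G := fun y G hG => by
    let G0 := subForm (shear (-y)) (shear_isHomogeneous _) G
    have hG0 : G0 ∈ W := mem_ker_jet0.2 (sing_aeval _ (by
      rw [show (Pi.single 0 1 : Fin (n + 1) → k) = Fin.cons 1 0 by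
        funext l; refine Fin.cases ?_ (fun a => ?_) l <;> simp]
      rw [eval_shear]
      simpa using hG))
    refine ⟨Fin.append y (bW.equivFun ⟨G0, hG0⟩), Subtype.ext ?_⟩
    show aeval (shear (vp _)) (wp _).1.1 = _
    rw [show vp (Fin.append y (bW.equivFun ⟨G0, hG0⟩)) = y from funext fun a => Fin.append_left _ _ a,
      show wp (Fin.append y (bW.equivFun ⟨G0, hG0⟩)) = ⟨G0, hG0⟩ by
        simp only [wp, Fin.append_right]; exact bW.equivFun.symm_apply_apply _]
    exact aeval_shear_neg y G.1
  -- the generic form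
  obtain ⟨lam, hlam⟩ := exists_coord b
  let Tg : Fin (n + 1) → MvPolynomial (Fin (n + 1)) Ri :=
    Fin.cons (X 0) fun a => X a.succ - C (X (Fin.castAdd M a) : Ri) * X 0
  let H : MvPolynomial (Fin (n + 1)) Ri := ∑ a, C (X (Fin.natAdd n a) : Ri) * aeval Tg (bW a).1.1
  let h : Fin N → Ri := fun l => ∑ m ∈ H.support, C (lam l (monomial m 1)) * coeff m H
  have hmapH : ∀ s, MvPolynomial.map (eval s) H = (par s).1 := fun s => by
    have hT : ∀ G : MvPolynomial (Fin (n + 1)) k,
        MvPolynomial.map (eval s) (aeval Tg G) = aeval (shear (vp s)) G := fun G => by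
      let f : MvPolynomial (Fin (n + 1)) Ri →ₐ[k] MvPolynomial (Fin (n + 1)) k :=
        mapAlgHom (aeval s : Ri →ₐ[k] k)
      have : f.comp (aeval Tg) = aeval (shear (vp s)) := MvPolynomial.algHom_ext fun l => by
        rw [AlgHom.comp_apply, aeval_X, aeval_X]
        refine Fin.cases ?_ (fun a => ?_) l <;> simp [f, Tg, shear, vp] <;> exact aeval_X _ _
      have := AlgHom.congr_fun this G
      rwa [AlgHom.comp_apply] at this
    simp only [H, map_sum, map_mul, map_C, eval_X, hT]
    show _ = aeval (shear (vp s)) (wp s).1.1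
    rw [show (wp s).1.1 = ∑ a, C (s (Fin.natAdd n a)) * (bW a).1.1 by
      simp [wp, Module.Basis.equivFun_symm_apply, Submodule.coe_sum, MvPolynomial.smul_eq_C_mul]
      rfl]
    simp
  have hh : ∀ s l, eval s (h l) = b.repr (par s) l := fun s l => by
    rw [← hlam (par s) l, ← hmapH s]
    conv_rhs => rw [H.as_sum, map_sum, map_sum]
    simp only [h, map_sum, map_mul, eval_C, map_monomial]
    refine Finset.sum_congr rfl fun m _ => ?_
    rw [show monomial m (eval s (coeff m H)) = eval s (coeff m H) • monomial m (1 : k) by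
      rw [smul_monomial, smul_eq_mul, mul_one], map_smul, smul_eq_mul, mul_comm]
  let φ : MvPolynomial (Fin N) k →ₐ[k] Ri := aeval h
  have hφ : ∀ p s, eval s (φ p) = eval (fun l => b.repr (par s) l) p := fun p s => by
    rw [← aeval_eq_eval, ← AlgHom.comp_apply, comp_aeval, aeval_eq_eval]
    exact congrArg (fun u => eval u p) (funext fun l => by rw [aeval_eq_eval]; exact hh s l)
  -- kernel elements vanish on all singular forms
  have hker : ∀ p, φ p = 0 → ∀ (G : LefPen.Form n k d) (v : Fin (n + 1) → k), v ≠ 0 → Sing v G.1 →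
      eval (fun l => b.repr G l) p = 0 := by
    intro p hp
    have h1 : ∀ (G : LefPen.Form n k d) (y : Fin n → k), Sing (Fin.cons 1 y) G.1 →
        eval (fun l => b.repr G l) p = 0 := fun G y hG => by
      obtain ⟨s, rfl⟩ := hpar' y G hG
      rw [← hφ, hp, map_zero]
    have h2 : ∀ (G : LefPen.Form n k d) (v : Fin (n + 1) → k), v 0 ≠ 0 → Sing v G.1 →
        eval (fun l => b.repr G l) p = 0 := fun G v hv hG => by
      refine h1 G (fun a => (v 0)⁻¹ * v a.succ) ?_
      rw [show (Fin.cons 1 fun a => (v 0)⁻¹ * v a.succ : Fin (n + 1) → k) = (v 0)⁻¹ • v by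
        funext l; refine Fin.cases ?_ (fun a => ?_) l <;> simp [inv_mul_cancel₀ hv]]
      have hG' := (mem_homogeneousSubmodule _ _).1 G.2
      exact ⟨by rw [LefGeo.eval_smul_of_isHomogeneous hG', hG.1, mul_zero],
        fun l => by rw [LefGeo.eval_smul_of_isHomogeneous hG'.pderiv, hG.2 l, mul_zero]⟩
    intro G v hv hG
    by_cases hv0 : v 0 = 0
    swap
    · exact h2 G v hv0 hG
    obtain ⟨j, hj⟩ := Function.ne_iff.1 hv
    have hj0 : j ≠ 0 := fun e => hj (e ▸ hv0)
    let T : k → Fin (n + 1) → MvPolynomial (Fin (n + 1)) k := fun t =>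
      Function.update X 0 (X 0 - C (t * (v j)⁻¹) * X j)
    have hTh : ∀ t l, (T t l).IsHomogeneous 1 := fun t l => by
      rcases eq_or_ne l 0 with rfl | hl
      · simp only [T, Function.update_self]
        exact (isHomogeneous_X k _).sub (isHomogeneous_C_mul_X _ _)
      · simp only [T, Function.update_of_ne hl]
        exact isHomogeneous_X k l
    -- the substituted form in terms of the parameter
    let Tt : Fin (n + 1) → MvPolynomial (Fin (n + 1)) (Polynomial k) :=
      Function.update X 0 (X 0 - C (Polynomial.X * Polynomial.C (v j)⁻¹) * X j)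
    let Ht := aeval Tt G.1
    let q : Polynomial k := aeval (fun l => ∑ m ∈ Ht.support, Polynomial.C (lam l (monomial m 1)) * coeff m Ht) p
    have hq : ∀ t, q.eval t = eval (fun l => b.repr (subForm (T t) (hTh t) G) l) p := fun t => by
      rw [← Polynomial.coe_aeval_eq_eval, ← AlgHom.comp_apply, comp_aeval, aeval_eq_eval]
      refine congrArg (fun u => eval u p) (funext fun l => ?_)
      rw [← hlam]
      have hm : MvPolynomial.map (Polynomial.aeval t : Polynomial k →ₐ[k] k).toRingHom Ht = aeval (T t) G.1 := by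
        let f : MvPolynomial (Fin (n + 1)) (Polynomial k) →ₐ[k] MvPolynomial (Fin (n + 1)) k :=
          mapAlgHom (Polynomial.aeval t : Polynomial k →ₐ[k] k)
        have : f.comp (aeval Tt) = aeval (T t) := MvPolynomial.algHom_ext fun l => by
          rw [AlgHom.comp_apply, aeval_X, aeval_X]
          rcases eq_or_ne l 0 with rfl | hl
          · simp [f, Tt, T]
            ring
          · simp [f, Tt, T, Function.update_of_ne hl]
        have := AlgHom.congr_fun this G.1
        rwa [AlgHom.comp_apply] at this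
      show _ = lam l (aeval (T t) G.1)
      rw [← hm]
      conv_rhs => rw [Ht.as_sum, map_sum, map_sum]
      simp only [map_sum, map_mul, Polynomial.aeval_C, map_monomial]
      refine Finset.sum_congr rfl fun m _ => ?_
      simp only [AlgHom.toRingHom_eq_coe, RingHom.coe_coe, Algebra.algebraMap_self, RingHom.id_apply]
      rw [show monomial m ((Polynomial.aeval t) (coeff m Ht)) =
          (Polynomial.aeval t) (coeff m Ht) • monomial m (1 : k) by
        rw [smul_monomial, smul_eq_mul, mul_one], map_smul, smul_eq_mul, mul_comm]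
    have hq0 : q = 0 := Polynomial.eq_zero_of_infinite_isRoot q
      (Set.Infinite.mono (fun t (ht : t ≠ 0) => by
        show q.eval t = 0
        rw [hq]
        refine h2 _ (Function.update v 0 t) (by simpa using ht) ?_
        refine sing_aeval _ ?_
        have e : (fun l => eval (Function.update v 0 t) (T t l)) = v := by
          funext l
          rcases eq_or_ne l 0 with rfl | hl
          · simp [T, hv0, Function.update_of_ne hj0, mul_assoc, inv_mul_cancel₀ hj]
          · simp [T, Function.update_of_ne hl]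
        rw [e]; exact hG) (Set.finite_singleton (0 : k)).infinite_compl)
    have h0 := hq 0
    rw [hq0, Polynomial.eval_zero] at h0
    rw [h0]
    refine congrArg (fun H : LefPen.Form n k d => eval (fun l => b.repr H l) p) (Subtype.ext ?_).symm
    show aeval (T 0) G.1 = G.1
    conv_rhs => rw [← aeval_X_left_apply G.1]
    refine congrArg (fun u => aeval u G.1) (funext fun l => ?_)
    rcases eq_or_ne l 0 with rfl | hl
    · simp [T]
    · simp [T, Function.update_of_ne hl]
  -- closedness
  have hclosed : ∀ G : LefPen.Form n k d, (∀ v : Fin (n + 1) → k, v ≠ 0 → ¬ Sing v G.1) →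
      ∃ p, φ p = 0 ∧ eval (fun l => b.repr G l) p ≠ 0 := by
    intro G hG
    let P : Option (Fin (n + 1)) → MvPolynomial (Fin N ⊕ Fin (n + 1)) k := fun o =>
      ∑ l, X (Sum.inl l) * rename Sum.inr (o.elim (b l).1 fun a => pderiv a (b l).1)
    have hPe : ∀ (H : LefPen.Form n k d) (z : Fin (n + 1) → k) o,
        eval (Sum.elim (fun l => b.repr H l) z) (P o) = eval z (o.elim H.1 fun a => pderiv a H.1) := fun H z o => by
      have e : H.1 = ∑ l, b.repr H l • (b l).1 := by
        have := congrArg Subtype.val (b.sum_repr H).symm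
        simp only [Submodule.coe_sum, Submodule.coe_smul] at this
        exact this
      cases o <;> simp [P, eval_rename, Function.comp_def, e, smul_eval]
    obtain ⟨Q, hQ, hQ'⟩ := LefGeo.exists_poly_no_nontrivial_zero P (fun K _ _ o y z c h0 => by
      have hb : ∀ l, (o.elim (b l).1 fun a => pderiv a (b l).1).IsHomogeneous (o.elim d fun _ => d - 1) := fun l => by
        cases o
        · exact (mem_homogeneousSubmodule _ _).1 (b l).2
        · exact ((mem_homogeneousSubmodule _ _).1 (b l).2).pderiv
      have hsc : ∀ l, aeval (c • z) (o.elim (b l).1 fun a => pderiv a (b l).1) =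
          c ^ (o.elim d fun _ => d - 1) * aeval z (o.elim (b l).1 fun a => pderiv a (b l).1) := fun l => by
        have := LefGeo.eval_smul_of_isHomogeneous ((hb l).map (algebraMap k K)) c z
        rwa [MvPolynomial.eval_map, MvPolynomial.eval_map, ← aeval_def, ← aeval_def] at this
      simp only [P, map_sum, map_mul, aeval_X, aeval_rename, Sum.elim_inl, Sum.elim_comp_inr] at h0 ⊢
      simp only [hsc, mul_left_comm _ (c ^ _), ← Finset.mul_sum, h0, mul_zero])
      (fun l => b.repr G l) (fun z hz => by
        by_contra! hall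
        refine hG z hz ⟨?_, fun a => ?_⟩
        · simpa [hPe] using hall none
        · simpa [hPe] using hall (some a))
    refine ⟨Q, ?_, hQ⟩
    refine MvPolynomial.funext fun s => ?_
    rw [map_zero, hφ]
    by_contra hne
    obtain ⟨o, ho⟩ := hQ' _ hne (Fin.cons 1 (vp s)) fun e => one_ne_zero (congrFun e 0)
    rw [hPe] at ho
    cases o with
    | none => exact ho (hpar s).1
    | some a => exact ho ((hpar s).2 a)
  -- principality of the kernel
  obtain ⟨Gs, hGs⟩ := hsm
  obtain ⟨p0, hp0, hp0'⟩ := hclosed Gs hGs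
  have hP : (RingHom.ker φ).IsPrime := RingHom.ker_isPrime _
  obtain ⟨g, hgP, hg⟩ : ∃ g ∈ RingHom.ker φ, Prime g := by
    refine hP.exists_mem_prime_of_ne_bot fun hb => hp0' ?_
    have : p0 ∈ RingHom.ker φ := hp0
    rw [hb, Ideal.mem_bot] at this
    rw [this, map_zero]
  have hdiv : ∀ p, φ p = 0 → g ∣ p := by
    intro p hp
    by_contra hnd
    -- a form with only one singular point in the affine chart
    let Gt : LefPen.Form n k d := ⟨X 0 ^ (d - 2) * rename Fin.succ (quad n), (mem_homogeneousSubmodule _ _).2 (by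
      simpa [Nat.sub_add_cancel hd] using
        (isHomogeneous_X_pow (R := k) 0 (d - 2)).mul ((quad_isHomogeneous n).rename_isHomogeneous (f := Fin.succ)))⟩
    have hGt : ∀ y : Fin n → k, Sing (Fin.cons 1 y) Gt.1 → y = 0 := fun y hy => by
      refine eq_zero_of_sing_quad y ⟨?_, fun a => ?_⟩
      · simpa [Gt, eval_rename, Function.comp_def] using hy.1
      · have := hy.2 a.succ
        simp only [Gt, pderiv_mul, pderiv_pow, pderiv_X, pderiv_rename (Fin.succ_injective n), map_add, map_mul,
          map_pow, eval_X, eval_rename, Fin.cons_zero, one_pow, one_mul, Function.comp_def, Fin.cons_succ,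
          Pi.single_eq_of_ne (Fin.succ_ne_zero a).symm, map_zero, mul_zero, zero_mul, zero_add] at this
        exact this
    have hGt0 : Sing (Fin.cons 1 0) Gt.1 := by
      have hz : ∀ {e : ℕ} {p : MvPolynomial (Fin n) k}, p.IsHomogeneous e → e ≠ 0 → eval 0 p = 0 := fun hp he => by
        rw [eval_zero, constantCoeff_eq]
        exact hp.coeff_eq_zero (by simpa using he.symm)
      have hq0 : Sing (0 : Fin n → k) (quad n) :=
        ⟨hz (quad_isHomogeneous n) (by norm_num), fun a => hz (quad_isHomogeneous n).pderiv (by norm_num)⟩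
      have c1 : constantCoeff (quad n : MvPolynomial (Fin n) k) = 0 := by rw [← eval_zero]; exact hq0.1
      have c2 : ∀ a, constantCoeff (pderiv a (quad n : MvPolynomial (Fin n) k)) = 0 := fun a => by
        rw [← eval_zero]; exact hq0.2 a
      have c3 : pderiv (0 : Fin (n + 1)) (rename Fin.succ (quad n : MvPolynomial (Fin n) k)) = 0 :=
        pderiv_eq_zero_of_notMem_vars fun hm => by
          obtain ⟨b, -, hb⟩ := Finset.mem_image.1 (vars_rename _ _ hm)
          exact Fin.succ_ne_zero b hb
      refine ⟨by simp [Gt, eval_rename, Function.comp_def, c1], fun a => ?_⟩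
      refine Fin.cases ?_ (fun a => ?_) a
      · simp [Gt, pderiv_mul, pderiv_pow, pderiv_X, eval_rename, Function.comp_def, c1, c3]
      · simp [Gt, pderiv_mul, pderiv_pow, pderiv_X, pderiv_rename (Fin.succ_injective n), eval_rename,
          Function.comp_def, c2 a]
    obtain ⟨s0, hs0⟩ := hpar' 0 Gt hGt0
    refine dvd_of_fibre (by omega) φ s0 (fun s hs => ?_) hg (RingHom.mem_ker.1 hgP) hp |> hnd
    have he : par s = par s0 := b.ext_elem fun l => by
      have := hs (X l)
      simp only [hφ, eval_X] at this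
      exact this
    have hv : ∀ s, par s = Gt → vp s = 0 := fun s hs => hGt _ (hs ▸ hpar s)
    have hv0 := hv s0 hs0
    have hvs := hv s (he.trans hs0)
    have hw : wp s = wp s0 := by
      refine Subtype.ext (Subtype.ext ?_)
      have h3 : ∀ G : MvPolynomial (Fin (n + 1)) k, aeval (shear (0 : Fin n → k)) G = G := fun G => by
        conv_rhs => rw [← aeval_X_left_apply G]
        refine congrArg (fun u => aeval u G) (funext fun l => ?_)
        refine Fin.cases ?_ (fun a => ?_) l <;> simp [shear]
      have := congrArg Subtype.val he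
      change aeval (shear (vp s)) (wp s).1.1 = aeval (shear (vp s0)) (wp s0).1.1 at this
      rwa [hvs, hv0, h3, h3] at this
    funext a
    refine Fin.addCases (fun a => ?_) (fun a => ?_) a
    · exact (congrFun hvs a).trans (congrFun hv0 a).symm
    · exact congrFun (bW.equivFun.symm.injective hw) a
  refine ⟨g, hg.irreducible, fun G => ⟨fun ⟨v, hv, hG⟩ => hker g hgP G v hv hG, fun h0 => ?_⟩⟩
  by_contra hG
  push Not at hG
  obtain ⟨p, hp, hp'⟩ := hclosed G hG
  obtain ⟨c, rfl⟩ := hdiv p hp
  rw [map_mul, h0, zero_mul] at hp'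
  exact hp' rfl

end

end Groth.Agent.LefPenLib.Discr
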