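import Groth.Agent.LefGeo.PolyFun
import Mathlib.RingTheory.Polynomial.GaussLemma
import Mathlib.RingTheory.Polynomial.RationalRoot
import Mathlib.RingTheory.Polynomial.UniqueFactorization
import Mathlib.RingTheory.Localization.AtPrime.Basic
import Mathlib.RingTheory.Ideal.Maximal
import Mathlib.Algebra.Polynomial.Div
import Mathlib.FieldTheory.IsAlgClosed.Basic

/-!
# A closed cone which every line through a point meets contains a hypersurface
-/

universe u

open MvPolynomial
open scoped Polynomial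

namespace Groth.Agent.LefPenLib

noncomputable section

variable {k : Type u} [Field k]

theorem coeff_aeval_lin {σ : Type*} [Fintype σ] {R : Type u} [CommRing R] [Algebra k R] (a b : σ → R) {e : ℕ}
    {q : MvPolynomial σ k} (hq : q.IsHomogeneous e) :
    (aeval (fun l => Polynomial.C (a l) + Polynomial.C (b l) * Polynomial.X) q).natDegree ≤ e ∧
      (aeval (fun l => Polynomial.C (a l) + Polynomial.C (b l) * Polynomial.X) q).coeff e = aeval b q := by
  classical
  let f : σ → R[X] := fun l => Polynomial.C (a l) + Polynomial.C (b l) * Polynomial.X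
  have hf : ∀ l, (f l).natDegree ≤ 1 := fun l => Polynomial.natDegree_add_le_of_degree_le
    (by simp) (Polynomial.natDegree_C_mul_X_pow_le (b l) 1 |>.trans' (by simp))
  have hf1 : ∀ l, (f l).coeff 1 = b l := fun l => by simp [f, Polynomial.coeff_C]
  have hmon : ∀ m ∈ q.support, (∏ l, f l ^ m l).natDegree ≤ e ∧ (∏ l, f l ^ m l).coeff e = ∏ l, b l ^ m l := by
    intro m hm
    have hdeg : ∑ l, m l = e := by
      rw [← Finsupp.degree_eq_sum, Finsupp.degree_eq_weight_one]
      exact hq (mem_support_iff.1 hm)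
    subst hdeg
    induction (Finset.univ : Finset σ) using Finset.induction with
    | empty => simp
    | insert l s hl ih =>
      rw [Finset.prod_insert hl, Finset.sum_insert hl, Finset.prod_insert hl]
      have h1 : (f l ^ m l).natDegree ≤ m l :=
        Polynomial.natDegree_pow_le_of_le (m l) (hf l) |>.trans (by simp)
      refine ⟨Polynomial.natDegree_mul_le.trans (Nat.add_le_add h1 ih.1), ?_⟩
      rw [Polynomial.coeff_mul_add_eq_of_natDegree_le h1 ih.1, ih.2]
      congr 1
      have := Polynomial.coeff_pow_of_natDegree_le (m := m l) (hf l)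
      rwa [mul_one, hf1] at this
  have hexp : ∀ {S : Type u} [CommRing S] [Algebra k S] (g : σ → S),
      aeval g q = ∑ m ∈ q.support, algebraMap k S (q.coeff m) * ∏ l, g l ^ m l := fun g => by
    rw [aeval_def, eval₂_eq']
  rw [hexp, hexp]
  constructor
  · refine Polynomial.natDegree_sum_le_of_forall_le _ _ fun m hm => ?_
    refine Polynomial.natDegree_mul_le.trans ?_
    rw [Polynomial.algebraMap_apply, Polynomial.natDegree_C, zero_add]
    exact (hmon m hm).1
  · rw [Polynomial.finset_sum_coeff]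
    refine Finset.sum_congr rfl fun m hm => ?_
    rw [Polynomial.algebraMap_apply, Polynomial.coeff_C_mul, (hmon m hm).2]

theorem exists_scaling {σ : Type*} {g h : MvPolynomial σ k} {e : ℕ} (hgh : (g * h).IsHomogeneous e)
    (hne : g * h ≠ 0) : ∃ a : ℕ, ∀ (c : k) (y : σ → k), eval (c • y) g = c ^ a * eval y g := by
  let Φ : MvPolynomial σ k →ₐ[k] (MvPolynomial σ k)[X] := aeval fun l => Polynomial.C (X l) * Polynomial.X
  have hev : ∀ (p : MvPolynomial σ k) (c : k) (y : σ → k),
      ((Φ p).map (eval y)).eval c = eval (c • y) p := fun p c y => by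
    induction p using MvPolynomial.induction_on with
    | C a => simp [Φ]
    | add p q hp hq => simp [map_add, Polynomial.map_add, hp, hq]
    | mul_X p l hp =>
      simp only [map_mul, Polynomial.map_mul, Polynomial.eval_mul, hp, eval_X, Pi.smul_apply, smul_eq_mul]
      simp only [Φ, aeval_X, Polynomial.map_mul, Polynomial.map_C, Polynomial.map_X, Polynomial.eval_mul, Polynomial.eval_C, Polynomial.eval_X, eval_X]
      ring
  have hinj : ∀ p, Φ p = 0 → p = 0 := fun p hp => by
    have : (Polynomial.aeval (1 : MvPolynomial σ k)).toRingHom.comp Φ.toRingHom = RingHom.id _ :=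
      MvPolynomial.ringHom_ext (fun a => by simp [Φ]) (fun l => by simp [Φ])
    have h1 := congrFun (congrArg DFunLike.coe this) p
    simpa [hp] using h1.symm
  have hgh' : Φ g * Φ h = Polynomial.C (g * h) * Polynomial.X ^ e := by
    rw [← map_mul]
    have := (MvPolynomial.aeval_def (fun l => Polynomial.C (X l) * Polynomial.X : σ → (MvPolynomial σ k)[X]) (g * h))
    rw [show Φ (g * h) = _ from this, eval₂_eq]
    conv_rhs => rw [(g * h).as_sum, map_sum, Finset.sum_mul]
    refine Finset.sum_congr rfl fun m hm => ?_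
    have hdeg : m.sum (fun _ => id) = e := by
      have := hgh (mem_support_iff.1 hm)
      rw [show (Finsupp.weight (1 : σ → ℕ)) m = Finsupp.degree m from (DFunLike.congr_fun Finsupp.degree_eq_weight_one m).symm] at this
      rw [← this]; rfl
    rw [monomial_eq, map_mul, Polynomial.algebraMap_apply]
    simp only [mul_pow, Finset.prod_mul_distrib, Finsupp.prod, map_prod, map_pow, ← hdeg, Finsupp.sum, id,
      ← Finset.prod_pow_eq_pow_sum]
    simp [MvPolynomial.algebraMap_eq, mul_assoc]
  have hg0 : Φ g ≠ 0 := fun h0 => (mul_ne_zero_iff.1 hne).1 (hinj _ h0)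
  have hh0 : Φ h ≠ 0 := fun h0 => (mul_ne_zero_iff.1 hne).2 (hinj _ h0)
  have hd := congrArg Polynomial.natDegree hgh'
  have ht := congrArg Polynomial.natTrailingDegree hgh'
  rw [Polynomial.natDegree_mul hg0 hh0, Polynomial.natDegree_C_mul_X_pow e _ hne] at hd
  rw [Polynomial.natTrailingDegree_mul hg0 hh0, Polynomial.C_mul_X_pow_eq_monomial,
    Polynomial.natTrailingDegree_monomial hne] at ht
  have := Polynomial.natTrailingDegree_le_natDegree (Φ g)
  have := Polynomial.natTrailingDegree_le_natDegree (Φ h)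
  set a := (Φ g).natDegree
  have hcoe : Φ g = Polynomial.C ((Φ g).coeff a) * Polynomial.X ^ a := by
    refine Polynomial.ext fun m => ?_
    rw [Polynomial.coeff_C_mul_X_pow]
    split_ifs with hm
    · rw [hm]
    · rcases Nat.lt_or_gt_of_ne hm with hlt | hlt
      · exact Polynomial.coeff_eq_zero_of_lt_natTrailingDegree (by omega)
      · exact Polynomial.coeff_eq_zero_of_natDegree_lt hlt
  refine ⟨a, fun c y => ?_⟩
  have h1 := hev g c y
  have h2 := hev g 1 y
  rw [hcoe, Polynomial.map_mul, Polynomial.map_C, Polynomial.map_pow, Polynomial.map_X, Polynomial.eval_mul,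
    Polynomial.eval_C, Polynomial.eval_pow, Polynomial.eval_X] at h1 h2
  rw [one_pow, mul_one, one_smul] at h2
  rw [← h1, h2, mul_comm]

/-- **Cones meeting all lines through a point contain hypersurfaces.** -/
theorem exists_line_or_hypersurface [IsAlgClosed k] {N : ℕ} (S : Set (Fin N → k))
    (hS : ∀ y ∉ S, ∃ (p : MvPolynomial (Fin N) k) (e : ℕ), p.IsHomogeneous e ∧ eval y p ≠ 0 ∧ ∀ y' ∈ S, eval y' p = 0)
    (hcone : ∀ y ∈ S, ∀ c : k, c ≠ 0 → c • y ∈ S) (hz : (0 : Fin N → k) ∈ S) (y0 : Fin N → k) (hy0 : y0 ∉ S) :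
    (∃ w, ∀ a b : k, (a ≠ 0 ∨ b ≠ 0) → a • y0 + b • w ∉ S) ∨
      ∃ (g : MvPolynomial (Fin N) k) (a : ℕ), 1 ≤ a ∧ Prime g ∧ (∀ (c : k) (y : Fin N → k), eval (c • y) g = c ^ a * eval y g) ∧
        ∀ y, eval y g = 0 → y ∈ S := by
  classical
  refine or_iff_not_imp_left.2 fun hno => ?_
  push Not at hno
  obtain ⟨q, e, hq, hq0, hqS⟩ := hS y0 hy0
  obtain ⟨s, hs⟩ := Function.ne_iff.1 (fun h0 : y0 = 0 => hy0 (h0 ▸ hz))
  have hs : y0 s ≠ 0 := hs
  let u : Fin N → (MvPolynomial {l : Fin N // l ≠ s} k) := fun l => if h : l = s then 0 else X ⟨l, h⟩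
  let θ : MvPolynomial (Fin N) k →ₐ[k] (MvPolynomial {l : Fin N // l ≠ s} k)[X] :=
    aeval fun l => Polynomial.C (u l) + Polynomial.C (algebraMap k (MvPolynomial {l : Fin N // l ≠ s} k) (y0 l)) * Polynomial.X
  let η : (MvPolynomial {l : Fin N // l ≠ s} k)[X] →ₐ[k] MvPolynomial (Fin N) k :=
    Polynomial.aevalTower (aeval fun l => X l.1 - C (y0 l.1 * (y0 s)⁻¹) * X s) (C (y0 s)⁻¹ * X s)
  have hθη : ∀ p, θ (η p) = p := by
    have h1 : θ (η Polynomial.X) = Polynomial.X := by
      simp only [η, θ, Polynomial.aevalTower_X, map_mul, aeval_C, aeval_X, u, dif_pos]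
      rw [Polynomial.C_0, zero_add, Polynomial.algebraMap_apply, ← mul_assoc, ← Polynomial.C_mul, ← map_mul,
        inv_mul_cancel₀ hs, map_one, Polynomial.C_1, one_mul]
    intro p
    induction p using Polynomial.induction_on' with
    | add p q hp hq => rw [map_add, map_add, hp, hq]
    | monomial m c =>
      rw [← Polynomial.C_mul_X_pow_eq_monomial, map_mul, map_mul, map_pow, map_pow, h1]
      congr 1
      show (θ.comp (η.comp (Polynomial.CAlgHom (R := k) (A := (MvPolynomial {l : Fin N // l ≠ s} k))))) c = Polynomial.CAlgHom (R := k) (A := (MvPolynomial {l : Fin N // l ≠ s} k)) c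
      congr 1
      refine algHom_ext fun l => ?_
      show θ (η (Polynomial.C (X l))) = Polynomial.C (X l)
      simp only [η, θ, Polynomial.aevalTower_C]
      rw [aeval_X]
      simp only [map_sub, map_mul, aeval_C, aeval_X, u, dif_neg l.2, dif_pos]
      rw [Polynomial.C_0, zero_add, ← mul_assoc, Polynomial.algebraMap_apply, Polynomial.algebraMap_apply,
        ← Polynomial.C_mul, ← Polynomial.C_mul, mul_assoc, ← map_mul, inv_mul_cancel₀ hs, map_one, mul_one,
        add_sub_cancel_right]
  have hηθ : ∀ p, η (θ p) = p := fun p => by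
    rw [← AlgHom.comp_apply]
    suffices h : η.comp θ = AlgHom.id k _ by rw [h]; rfl
    refine algHom_ext fun l => ?_
    by_cases h : l = s
    · subst h
      simp only [AlgHom.comp_apply, AlgHom.id_apply, θ, η, aeval_X, u, dif_pos, map_add, map_mul, Polynomial.aevalTower_C,
        Polynomial.aevalTower_X, map_zero, AlgHom.commutes, zero_add]
      rw [MvPolynomial.algebraMap_eq, ← mul_assoc, ← MvPolynomial.C_mul, mul_inv_cancel₀ hs, MvPolynomial.C_1, one_mul]
    · simp only [AlgHom.comp_apply, AlgHom.id_apply, θ, η, aeval_X, u, dif_neg h, map_add, map_mul, Polynomial.aevalTower_C,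
        Polynomial.aevalTower_X, AlgHom.commutes, aeval_C, MvPolynomial.algebraMap_eq]
      ring
  let J : Ideal (MvPolynomial (Fin N) k) := ⨅ y : S, RingHom.ker (eval (y : Fin N → k))
  have hJ : ∀ p, p ∈ J ↔ ∀ y ∈ S, eval y p = 0 := fun p => by simp [J, Ideal.mem_iInf]
  let J' : Ideal (MvPolynomial {l : Fin N // l ≠ s} k)[X] := J.comap η.toRingHom
  have hpoint : ∀ (w : Fin N → k) (t : k) (c : (MvPolynomial {l : Fin N // l ≠ s} k)), w s = 0 →
      eval (w + t • y0) (η (Polynomial.C c)) = eval (fun l => w l.1) c := fun w t c hw => by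
    simp only [η, Polynomial.aevalTower_C, ← aeval_eq_eval, ← AlgHom.comp_apply]
    congr 1
    refine algHom_ext fun l => ?_
    simp [aeval_eq_eval, hw]
    field_simp
    ring
  have hJC : ∀ c : (MvPolynomial {l : Fin N // l ≠ s} k), Polynomial.C c ∈ J' → c = 0 := by
    intro c hc
    refine MvPolynomial.funext fun v => ?_
    rw [map_zero]
    let w : Fin N → k := fun l => if h : l = s then 0 else v ⟨l, h⟩
    obtain ⟨a, b, hab, hS'⟩ := hno w
    have hb : b ≠ 0 := by
      rintro rfl
      have ha : a ≠ 0 := hab.resolve_right (fun h => h rfl)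
      rw [zero_smul, add_zero] at hS'
      have := hcone _ hS' a⁻¹ (inv_ne_zero ha)
      rw [smul_smul, inv_mul_cancel₀ ha, one_smul] at this
      exact hy0 this
    have hmem := hcone _ hS' b⁻¹ (inv_ne_zero hb)
    rw [smul_add, smul_smul, smul_smul, inv_mul_cancel₀ hb, one_smul, add_comm] at hmem
    have h0 := (hJ _).1 (show η (Polynomial.C c) ∈ J from hc) _ hmem
    rw [hpoint w _ c (by simp [w])] at h0
    refine Eq.trans ?_ h0
    congr 2
    funext l; simp [w, l.2]
  -- a prime over the ideal of the cone not meeting the base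
  let M : Submonoid (MvPolynomial {l : Fin N // l ≠ s} k)[X] := (nonZeroDivisors (MvPolynomial {l : Fin N // l ≠ s} k)).map Polynomial.C
  obtain ⟨P, hP, hJP, hPM⟩ := Ideal.exists_le_prime_disjoint J' M (by
    rw [Set.disjoint_left]
    rintro _ hx ⟨c, hc, rfl⟩
    exact nonZeroDivisors.ne_zero hc (hJC c hx))
  -- the monic element
  let c0 : k := eval y0 q
  let qT : (MvPolynomial {l : Fin N // l ≠ s} k)[X] := Polynomial.C (algebraMap k (MvPolynomial {l : Fin N // l ≠ s} k) c0⁻¹) * θ q
  have hlc := coeff_aeval_lin u (fun l => algebraMap k (MvPolynomial {l : Fin N // l ≠ s} k) (y0 l)) hq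
  have hqe : (θ q).coeff e = algebraMap k (MvPolynomial {l : Fin N // l ≠ s} k) c0 := by
    rw [hlc.2]
    exact (aeval_algebraMap_apply (MvPolynomial {l : Fin N // l ≠ s} k) y0 q).trans (congrArg _ (by rw [aeval_eq_eval]))
  have hqT : qT.Monic := by
    refine Polynomial.monic_of_natDegree_le_of_coeff_eq_one e ?_ ?_
    · exact (Polynomial.natDegree_C_mul_le _ _).trans hlc.1
    · rw [Polynomial.coeff_C_mul, hqe, ← map_mul, inv_mul_cancel₀ hq0, map_one]
  have hqP : qT ∈ P := hJP (by
    show η qT ∈ J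
    rw [map_mul, hηθ]
    exact Ideal.mul_mem_left _ _ ((hJ q).2 hqS))
  obtain ⟨g0, hg0prime, hg0P, hg0q⟩ : ∃ g0, Prime g0 ∧ g0 ∈ P ∧ g0 ∣ qT := by
    obtain ⟨u', hu'⟩ := UniqueFactorizationMonoid.factors_prod hqT.ne_zero
    have hmem : (UniqueFactorizationMonoid.factors qT).prod ∈ P := by
      have h1 : qT * ↑u'⁻¹ ∈ P := P.mul_mem_right _ hqP
      rwa [← hu', mul_assoc, Units.mul_inv, mul_one] at h1
    obtain ⟨g0, hg0, hg0'⟩ := (hP.multiset_prod_mem_iff_exists_mem _).1 hmem
    exact ⟨g0, UniqueFactorizationMonoid.prime_of_factor g0 hg0, hg0', UniqueFactorizationMonoid.dvd_of_mem_factors hg0⟩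
  -- make it monic
  have hlu : IsUnit g0.leadingCoeff := by
    obtain ⟨h, hh⟩ := hg0q
    refine isUnit_of_dvd_one ⟨h.leadingCoeff, ?_⟩
    rw [← hqT, hh, Polynomial.leadingCoeff_mul]
  obtain ⟨l, hl⟩ := hlu
  let g : (MvPolynomial {l : Fin N // l ≠ s} k)[X] := Polynomial.C (↑l⁻¹ : (MvPolynomial {l : Fin N // l ≠ s} k)) * g0
  have hgmonic : g.Monic := by
    show (Polynomial.C (↑l⁻¹ : (MvPolynomial {l : Fin N // l ≠ s} k)) * g0).leadingCoeff = 1
    rw [Polynomial.leadingCoeff_mul, Polynomial.leadingCoeff_C, ← hl, Units.inv_mul]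
  have hgP : g ∈ P := P.mul_mem_left _ hg0P
  have hgprime : Prime g := by
    have : Associated g0 g := ⟨Units.map (Polynomial.C : (MvPolynomial {l : Fin N // l ≠ s} k) →+* (MvPolynomial {l : Fin N // l ≠ s} k)[X]).toMonoidHom l⁻¹, mul_comm _ _⟩
    exact this.prime hg0prime
  have hdiv : ∀ z ∈ P, g ∣ z := by
    intro z hz
    let K := FractionRing (MvPolynomial {l : Fin N // l ≠ s} k)
    let ι : (MvPolynomial {l : Fin N // l ≠ s} k) →+* K := algebraMap (MvPolynomial {l : Fin N // l ≠ s} k) K
    have hirr : Irreducible (g.map ι) := hgmonic.irreducible_iff_irreducible_map_fraction_map.1 hgprime.irreducible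
    rw [← Polynomial.map_dvd_map ι (IsFractionRing.injective (MvPolynomial {l : Fin N // l ≠ s} k) K) hgmonic]
    by_contra hnd
    obtain ⟨a, b, hab⟩ := (hirr.coprime_iff_not_dvd.2 hnd)
    obtain ⟨m, hm⟩ := IsLocalization.integerNormalization_map_to_map (nonZeroDivisors (MvPolynomial {l : Fin N // l ≠ s} k)) a
    obtain ⟨m', hm'⟩ := IsLocalization.integerNormalization_map_to_map (nonZeroDivisors (MvPolynomial {l : Fin N // l ≠ s} k)) b
    let a' := IsLocalization.integerNormalization (nonZeroDivisors (MvPolynomial {l : Fin N // l ≠ s} k)) a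
    let b' := IsLocalization.integerNormalization (nonZeroDivisors (MvPolynomial {l : Fin N // l ≠ s} k)) b
    have hmem : Polynomial.C (m : (MvPolynomial {l : Fin N // l ≠ s} k)) * (Polynomial.C (m' : (MvPolynomial {l : Fin N // l ≠ s} k))) ∈ P := by
      have key : Polynomial.C (m' : (MvPolynomial {l : Fin N // l ≠ s} k)) * a' * g + Polynomial.C (m : (MvPolynomial {l : Fin N // l ≠ s} k)) * b' * z = Polynomial.C (m : (MvPolynomial {l : Fin N // l ≠ s} k)) * Polynomial.C (m' : (MvPolynomial {l : Fin N // l ≠ s} k)) := by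
        refine Polynomial.map_injective ι (IsFractionRing.injective (MvPolynomial {l : Fin N // l ≠ s} k) K) ?_
        simp only [Polynomial.map_add, Polynomial.map_mul, Polynomial.map_C]
        rw [show a'.map ι = (m : (MvPolynomial {l : Fin N // l ≠ s} k)) • a from hm, show b'.map ι = (m' : (MvPolynomial {l : Fin N // l ≠ s} k)) • b from hm']
        simp only [Algebra.smul_def, Polynomial.algebraMap_apply]
        linear_combination (Polynomial.C (ι (m : (MvPolynomial {l : Fin N // l ≠ s} k))) * Polynomial.C (ι (m' : (MvPolynomial {l : Fin N // l ≠ s} k)))) * hab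
      rw [← key]
      exact add_mem (P.mul_mem_left _ hgP) (P.mul_mem_left _ hz)
    rcases hP.mem_or_mem hmem with h | h
    · exact Set.disjoint_left.1 hPM h ⟨m, m.2, rfl⟩
    · exact Set.disjoint_left.1 hPM h ⟨m', m'.2, rfl⟩
  let e' : (MvPolynomial {l : Fin N // l ≠ s} k)[X] ≃ₐ[k] MvPolynomial (Fin N) k :=
    AlgEquiv.ofAlgHom η θ (AlgHom.ext hηθ) (AlgHom.ext hθη)
  have hgfin : Prime (η g) := (MulEquiv.prime_iff e'.toMulEquiv).2 hgprime
  have hgJ : ∀ p, (∀ y ∈ S, eval y p = 0) → η g ∣ p := fun p hp => by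
    have := map_dvd η (hdiv (θ p) (hJP (show η (θ p) ∈ J by rw [hηθ]; exact (hJ p).2 hp)))
    rwa [hηθ] at this
  obtain ⟨h, hh⟩ := hgJ q hqS
  obtain ⟨a, ha⟩ := exists_scaling (g := η g) (h := h) (by rw [← hh]; exact hq)
    (by rw [← hh]; exact fun h0 => hq0 (by rw [h0, map_zero]))
  refine ⟨η g, a, ?_, hgfin, ha, fun y hy => ?_⟩
  · by_contra h0
    rw [Nat.lt_one_iff.1 (not_le.1 h0)] at ha
    have hconst : η g = C (eval 0 (η g)) := MvPolynomial.funext fun y => by
      have := ha 0 y
      rw [zero_smul, pow_zero, one_mul] at this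
      rw [eval_C, this]
    refine hgfin.not_unit ?_
    rw [hconst]
    exact (isUnit_iff_ne_zero.2 fun h1 => hgfin.ne_zero (by rw [hconst, h1, map_zero])).map C
  · by_contra hyS
    obtain ⟨p, _, _, hpy, hpS⟩ := hS y hyS
    obtain ⟨h', hh'⟩ := hgJ p hpS
    exact hpy (by rw [hh', map_mul, hy, zero_mul])

end

end Groth.Agent.LefPenLib
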