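import Groth.Agent.LefPenLib.PencilOpen
import Groth.Agent.LefPenLib.BertiniSq
import Groth.Agent.LefPenLib.Hypersurface

/-!
# Existence of Lefschetz pencils
-/

universe u

open CategoryTheory AlgebraicGeometry Opposite TopologicalSpace
open MvPolynomial

namespace Groth.Agent.LefPenLib

noncomputable section

variable {k : Type u} [Field k]

theorem isGeneric_inter' [Infinite k] {V : Type u} [AddCommGroup V] [Module k V] {ι : Type*} [Fintype ι]
    (b : Module.Basis ι k V) {S T U : Set V} (hS : LefPen.IsGeneric k S) (hT : LefPen.IsGeneric k T)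
    (h : ∀ v, v ∈ S → v ∈ T → v ∈ U) : LefPen.IsGeneric k U := by
  obtain ⟨f, hf, ⟨v, hv⟩, hfS⟩ := hS
  obtain ⟨g, hg, ⟨w, hw⟩, hgT⟩ := hT
  refine ⟨fun v => f v * g v, mul_mem hf hg, ?_, fun u hu => h u (hfS u (left_ne_zero_of_mul hu)) (hgT u (right_ne_zero_of_mul hu))⟩
  by_contra hc
  push Not at hc
  rcases polyFun_mul_eq_zero b hf hg hc with h0 | h0
  · exact hv (h0 v)
  · exact hw (h0 w)

variable {r n d : ℕ} {X : Scheme.{u}} (i : X ⟶ CohB1.ProjSpace r k) [IsClosedImmersion i]
  [IrreducibleSpace X] [SmoothOfRelativeDimension n (i ≫ CohB1.ProjSpace.toSpec r k)] [IsAlgClosed k]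

include n in
/-- a generic form cuts a transversal member transversally -/
theorem generic_no_badPair (hn : 1 ≤ n) (hd : 1 ≤ d) (F : LefPen.Form r k d)
    (hF : LefPen.Transversal k n 1 (LefPen.secToSpec i ({F} : Set (LefPen.Form r k d)))) :
    LefPen.IsGeneric k {G : LefPen.Form r k d | ∀ v : Fin (r + 1) → k, v ≠ 0 → ¬ BadPair i v F G} := by
  classical
  let b := LefGeo.formBasis k r d
  have hsec : ∀ j, ∃ p : MvPolynomial (FormIdx k r d) k, p ≠ 0 ∧ ∀ G : LefPen.Form r k d, eval (crd G) p ≠ 0 →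
      ∀ e : (Γ(X, chartX i j) ⧸ Ideal.span {psi i j F.1}) →ₐ[k] k, psiCut i F j G.1 ∉ RingHom.ker e ^ 2 := by
    intro j
    let L : LefPen.Form r k d →ₗ[k] Γ(X, chartX i j) ⧸ Ideal.span {psi i j F.1} :=
      (Ideal.Quotient.mkₐ k _).toLinearMap.comp (secLin i j)
    obtain ⟨⟨G1, hG1⟩, hadj⟩ := secLin_one_adjoin (d := d) i hd j
    have hL1 : ∃ v, L v = 1 := ⟨G1, by
      show Ideal.Quotient.mk _ (secLin i j G1) = 1
      rw [hG1, map_one]⟩
    have hLadj : Algebra.adjoin k (Set.range L) = ⊤ := by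
      rw [show Set.range L = (Ideal.Quotient.mkₐ k (Ideal.span {psi i j F.1})) '' Set.range (secLin (d := d) i j) from
        Set.range_comp (Ideal.Quotient.mkₐ k (Ideal.span {psi i j F.1})) (secLin (d := d) i j), ← AlgHom.map_adjoin, hadj, Algebra.map_top, AlgHom.range_eq_top]
      exact Ideal.Quotient.mk_surjective
    have hchart := exists_cut_chart (n := n) i F hn hF j
    choose t ht hts using fun q : PrimeSpectrum (Γ(X, chartX i j) ⧸ Ideal.span {psi i j F.1}) =>
      hchart q.asIdeal q.isPrime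
    have hspan : Ideal.span (Set.range t) = ⊤ := by
      by_contra hne
      obtain ⟨M, hM, hle⟩ := Ideal.exists_le_maximal _ hne
      exact ht ⟨M, hM.isPrime⟩ (hle (Ideal.subset_span ⟨_, rfl⟩))
    obtain ⟨s', hs', hs1⟩ := (Ideal.span_eq_top_iff_finite _).1 hspan
    obtain ⟨s, rfl⟩ : ∃ s : Finset _, s.image t = s' :=
      Finset.subset_set_image_iff.1 (by simpa [Set.image_univ] using hs' : (s' : Set _) ⊆ t '' Set.univ) |>.imp fun s h => h.2
    have hs : Ideal.span (t '' (s : Set _)) = ⊤ := by rw [← Finset.coe_image]; exact hs1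
    have hp : ∀ q, ∃ p : MvPolynomial (FormIdx k r d) k, p ≠ 0 ∧ ∀ G, eval (crd G) p ≠ 0 →
        ∀ e : (Γ(X, chartX i j) ⧸ Ideal.span {psi i j F.1}) →ₐ[k] k, e (t q) ≠ 0 → L G ∉ RingHom.ker e ^ 2 :=
      fun q => by
        haveI := hts q
        exact exists_poly_not_sq b L hL1 hLadj (t q) (n - 1)
    choose p hp0 hp using hp
    refine ⟨∏ q ∈ s, p q, Finset.prod_ne_zero_iff.2 fun q _ => hp0 q, fun G hG e => ?_⟩
    rw [map_prod, Finset.prod_ne_zero_iff] at hG
    obtain ⟨q, hq, he⟩ : ∃ q ∈ s, e (t q) ≠ 0 := by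
      by_contra! hc
      refine (RingHom.ker_isPrime e).ne_top (top_le_iff.1 ?_)
      rw [← hs, Ideal.span_le]
      rintro _ ⟨q, hq, rfl⟩
      exact hc q hq
    exact hp q G (hG q hq) e he
  choose p hp0 hp using hsec
  refine LefGeo.isGeneric_of_poly b (∏ j, p j) (Finset.prod_ne_zero_iff.2 fun j _ => hp0 j) fun G hG => ?_
  rw [map_prod, Finset.prod_ne_zero_iff] at hG
  exact (no_badPair_iff (n := n) i F G hn hF).2 fun j e => hp j G (hG j (Finset.mem_univ j)) e

variable (n) in
/-- a hypersurface contained in the forms worse than good -/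
def WorseHypersurface (d : ℕ) : Prop :=
  ∃ (g : MvPolynomial (FormIdx k r d) k) (a : ℕ), 1 ≤ a ∧ Prime g ∧
    (∀ (c : k) (y : FormIdx k r d → k), eval (c • y) g = c ^ a * eval y g) ∧
    ∀ H : LefPen.Form r k d, eval (crd H) g = 0 → WorseThanGood i H

include n in
/-- unless a hypersurface consists of bad forms, a generic line through a form avoids them -/
theorem generic_no_worse (hn : 1 ≤ n) (H0 : LefPen.Form r k d) (h0 : ¬ WorseThanGood i H0)
    (hno : ¬ WorseHypersurface i d) :
    LefPen.IsGeneric k {G : LefPen.Form r k d | ∀ a b : k, (a ≠ 0 ∨ b ≠ 0) → ¬ WorseThanGood i (a • H0 + b • G)} := by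
  let b := LefGeo.formBasis k r d
  let S : Set (FormIdx k r d → k) := {y | WorseThanGood i (b.equivFun.symm y)}
  have hcrd : ∀ H : LefPen.Form r k d, b.equivFun.symm (crd H) = H := fun H => b.equivFun.symm_apply_apply H
  have hcrd' : ∀ y, crd (b.equivFun.symm y) = y := fun y => b.equivFun.apply_symm_apply y
  rcases exists_line_or_hypersurface S (fun y hy => by
      obtain ⟨p, e, he, hp, hpS⟩ := exists_homog_worse i hn _ hy
      exact ⟨p, e, he, by rwa [hcrd'] at hp, fun y' hy' => by simpa only [hcrd'] using hpS _ hy'⟩)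
    (fun y hy c hc => by
      show WorseThanGood i (b.equivFun.symm (c • y))
      rw [map_smul]
      exact hy.smul i hc)
    (by show WorseThanGood i (b.equivFun.symm 0); rw [map_zero]; exact worse_zero (n := n) i hn)
    (crd H0) (by show ¬ WorseThanGood i (b.equivFun.symm _); rw [hcrd]; exact h0) with
    ⟨w, hw⟩ | ⟨g, a, ha, hg, hgs, hgS⟩
  · have hw' : ∀ a c : k, (a ≠ 0 ∨ c ≠ 0) → ¬ WorseThanGood i (a • H0 + c • b.equivFun.symm w) := fun a c hac h => by
      refine hw a c hac ?_
      show WorseThanGood i (b.equivFun.symm _)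
      rwa [map_add, map_smul, map_smul, hcrd]
    obtain ⟨p, hp, hp'⟩ := exists_poly_no_worse i hn H0 _ hw'
    refine ⟨fun G => eval (Sum.elim (crd H0) (crd G)) p, ?_, ⟨_, hp⟩, fun G hG => hp' H0 G hG⟩
    let sub : FormIdx k r d ⊕ FormIdx k r d → MvPolynomial (FormIdx k r d) k :=
      Sum.elim (fun l => MvPolynomial.C (crd H0 l)) MvPolynomial.X
    convert LefGeo.isPolyFun_eval (k := k) (fun l => b.coord l) (aeval sub p) using 1
    funext G
    rw [← aeval_eq_eval, ← aeval_eq_eval, ← AlgHom.comp_apply, comp_aeval]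
    refine congrArg (fun u => aeval u p) (funext fun l => ?_)
    cases l <;> simp [sub, b, crd]
  · exact absurd ⟨g, a, ha, hg, hgs, fun H hH => by
      have : WorseThanGood i (b.equivFun.symm (crd H)) := hgS _ hH
      rwa [hcrd] at this⟩ hno

include n in
/-- every pencil meets a hypersurface -/
theorem not_worseHypersurface_of_pencil (hn : 1 ≤ n) (F G : LefPen.Form r k d)
    (hFG : LefPen.IsLefschetzPencil k n i d F G) : ¬ WorseHypersurface i d := by
  rintro ⟨g, a, ha, -, hgs, hgB⟩
  obtain ⟨-, -, hnw⟩ := (isLefschetzPencil_iff i hn F G).1 hFG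
  let q : Polynomial k := lineP (crd F) (crd G) g
  have hq : ∀ t : k, q.eval t = eval (crd (F + t • G)) g := fun t => by
    rw [show q = lineP (crd F) (crd G) g from rfl, eval_lineP]
    refine congrArg (fun u => eval u g) (funext fun l => ?_)
    rw [crd_add, crd_smul, Pi.add_apply, Pi.smul_apply, smul_eq_mul, mul_comm]
  by_cases hdeg : q.degree = 0
  · -- the second form is a zero
    have hc : q = Polynomial.C (q.coeff 0) := Polynomial.eq_C_of_degree_eq_zero hdeg
    generalize q.coeff 0 = c at hc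
    let h : Polynomial k := lineP (crd G) (crd F) g
    have hh : ∀ t : k, h.eval t = eval (crd (t • F + G)) g := fun t => by
      rw [show h = lineP (crd G) (crd F) g from rfl, eval_lineP]
      refine congrArg (fun u => eval u g) (funext fun l => ?_)
      rw [crd_add, crd_smul, Pi.add_apply, Pi.smul_apply, smul_eq_mul, mul_comm, add_comm]
    have hha : h = Polynomial.C c * Polynomial.X ^ a := Polynomial.eq_of_infinite_eval_eq _ _
      (Set.Infinite.mono (fun s hs => by
        have hs0 : s ≠ 0 := hs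
        show h.eval s = _
        have e : s • F + G = s • (F + s⁻¹ • G) := by rw [smul_add, smul_smul, mul_inv_cancel₀ hs0, one_smul]
        rw [hh, e, crd_smul, hgs, ← hq, hc, Polynomial.eval_C, Polynomial.eval_mul, Polynomial.eval_C,
          Polynomial.eval_pow, Polynomial.eval_X, mul_comm])
        (Set.finite_singleton (0 : k)).infinite_compl)
    have := hh 0
    rw [hha, Polynomial.eval_mul, Polynomial.eval_pow, Polynomial.eval_X, zero_pow (by omega), mul_zero,
      zero_smul, zero_add] at this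
    exact hnw 0 1 (Or.inr one_ne_zero) (by simpa using hgB G this.symm)
  · obtain ⟨t, ht⟩ := IsAlgClosed.exists_root q hdeg
    have := hgB (F + t • G) (by rw [← hq]; exact ht)
    exact hnw 1 t (Or.inl one_ne_zero) (by rwa [one_smul])

include n in
/-- generic Lefschetz pencils through a transversal form -/
theorem generic_pencil_through (hn : 1 ≤ n) (hd : 1 ≤ d) (hno : ¬ WorseHypersurface i d) (H0 : LefPen.Form r k d)
    (hH0 : LefPen.Transversal k n 1 (LefPen.secToSpec i ({H0} : Set (LefPen.Form r k d)))) :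
    LefPen.IsGeneric k {G : LefPen.Form r k d | LefPen.IsLefschetzPencil k n i d H0 G} := by
  have h0 : ¬ WorseThanGood i H0 := fun h => ((worse_iff i hn H0).1 h).1 hH0
  refine isGeneric_inter' (LefGeo.formBasis k r d) (generic_no_badPair i hn hd H0 hH0)
    (generic_no_worse i hn H0 h0 hno) fun G h1 h2 => ?_
  exact (isLefschetzPencil_iff i hn H0 G).2 ⟨⟨0, by rwa [zero_smul, add_zero]⟩, h1, h2⟩

end

end Groth.Agent.LefPenLib
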