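import Groth.Agent.LefPenLib.GoodExists
import Groth.Agent.LefPenLib.PencilExists
import Groth.Agent.LefPenLib.Bertini

/-!
# Embeddings of degree at least two are Lefschetz embeddings
-/

universe u

open CategoryTheory AlgebraicGeometry Opposite TopologicalSpace
open MvPolynomial

namespace Groth.Agent.LefPenLib

noncomputable section

variable {r n d : ℕ} {k : Type u} [Field k] {X : Scheme.{u}} (i : X ⟶ CohB1.ProjSpace r k) [IsClosedImmersion i]
  [IrreducibleSpace X] [SmoothOfRelativeDimension n (i ≫ CohB1.ProjSpace.toSpec r k)] [IsAlgClosed k]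

include n in
/-- the zeros of a witness `g` of `WorseHypersurface` are exactly the singular forms -/
theorem discr_of_worse (hn : 1 ≤ n) (hd : 1 ≤ d) {g : MvPolynomial (FormIdx k r d) k} (hg : Prime g)
    (hgB : ∀ H : LefPen.Form r k d, eval (crd H) g = 0 → WorseThanGood i H) :
    (∀ H : LefPen.Form r k d, ¬ LefPen.Transversal k n 1 (LefPen.secToSpec i ({H} : Set (LefPen.Form r k d))) →
      eval (crd H) g = 0) ∧
    ∀ p : MvPolynomial (FormIdx k r d) k,
      (∀ H : LefPen.Form r k d, ¬ LefPen.Transversal k n 1 (LefPen.secToSpec i ({H} : Set (LefPen.Form r k d))) →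
        eval (crd H) p = 0) → g ∣ p := by
  let b := LefGeo.formBasis k r d
  let D : Set (LefPen.Form r k d) := {H | ¬ LefPen.Transversal k n 1 (LefPen.secToSpec i ({H} : Set (LefPen.Form r k d)))}
  have hcrd' : ∀ y, crd (b.equivFun.symm y) = y := fun y => b.equivFun.apply_symm_apply y
  have hdvd : ∀ p : MvPolynomial (FormIdx k r d) k, (∀ H ∈ D, eval (crd H) p = 0) → g ∣ p := fun p hp => by
    have hprime : (Ideal.span {g}).IsPrime := (Ideal.span_singleton_prime hg.ne_zero).2 hg
    have hmem : p ∈ (Ideal.span {g}).radical := by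
      rw [← vanishingIdeal_zeroLocus_eq_radical (K := k), mem_vanishingIdeal_iff]
      intro y hy
      have hy0 : eval y g = 0 := by
        have := mem_zeroLocus_iff.1 hy g (Ideal.mem_span_singleton_self g)
        rwa [aeval_eq_eval] at this
      have hw := hgB (b.equivFun.symm y) (by rw [hcrd']; exact hy0)
      have := hp _ ((worse_iff i hn _).1 hw).1
      rw [hcrd'] at this
      rwa [aeval_eq_eval]
    rw [hprime.radical, Ideal.mem_span_singleton] at hmem
    exact hmem
  obtain ⟨f, hf, ⟨H1, hH1⟩, hf'⟩ := isGeneric_transversal (n := n) i hn hd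
  obtain ⟨q, hq⟩ := exists_poly_of_isPolyFun b hf
  have hq0 : q ≠ 0 := fun h0 => hH1 (by rw [hq, h0, map_zero])
  have hqD : ∀ H ∈ D, eval (crd H) q = 0 := fun H hH => by
    by_contra hne
    exact hH (hf' H (by rw [hq]; exact hne))
  obtain ⟨h, hh, hhD⟩ : ∃ h, Prime h ∧ ∀ H ∈ D, eval (crd H) h = 0 := by
    clear hq
    induction q using UniqueFactorizationMonoid.induction_on_prime with
    | h₁ => exact absurd rfl hq0
    | h₂ u hu =>
      exfalso
      obtain ⟨v, hv, hbad⟩ := exists_zero_bad (n := n) i hn (d := d)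
      exact (hu.map (eval (crd (0 : LefPen.Form r k d)))).ne_zero
        (hqD 0 ((not_transversal_iff_badAt i hn _).2 ⟨v, hv, hbad⟩))
    | h₃ s p hs hp ih =>
      rcases irreducible_not_transversal (n := n) i hn hd (fun H => eval (crd H) p) (fun H => eval (crd H) s)
        (LefGeo.isPolyFun_eval (fun l => b.coord l) p) (LefGeo.isPolyFun_eval (fun l => b.coord l) s)
        (fun H hH => by have := hqD H hH; rwa [map_mul] at this) with h1 | h1
      · exact ⟨p, hp, h1⟩
      · exact ih hs h1
  refine ⟨fun H hH => ?_, hdvd⟩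
  obtain ⟨u, hu⟩ := (hg.associated_of_dvd hh (hdvd h hhD)).symm
  rw [← hu, map_mul, hhD H hH, zero_mul]

include n in
/-- one good form rules out hypersurfaces of worse forms -/
theorem not_worseHypersurface_of_good (hn : 1 ≤ n) (hd : 1 ≤ d) (H0 : LefPen.Form r k d) (hH0 : GoodOne i H0) :
    ¬ WorseHypersurface i d := by
  rintro ⟨g, a, -, hg, -, hgB⟩
  obtain ⟨j, ev, hmem, -⟩ := id hH0
  exact (hgB H0 ((discr_of_worse (n := n) i hn hd hg hgB).1 H0 ((not_transversal_iff i hn H0).2 ⟨j, ev, hmem⟩))).2 hH0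

include n in
/-- Lefschetz embeddings from the absence of hypersurfaces of worse forms -/
theorem isLefschetzEmb_of_no_worse (hn : 1 ≤ n) (hd : 1 ≤ d) (hno : ¬ WorseHypersurface i d) :
    LefPen.IsLefschetzEmb k n i d := by
  obtain ⟨f, -, ⟨F, hF⟩, hf⟩ := isGeneric_transversal (n := n) i hn hd
  obtain ⟨f', -, ⟨G, hG⟩, hf'⟩ := generic_pencil_through (n := n) i hn hd hno F (hf F hF)
  obtain ⟨φ, hφ, hφ0, hφ'⟩ := isZOpen_pencil (n := n) (d := d) i hn (F, G) (hf' G hG)
  exact ⟨φ, hφ, ⟨_, hφ0⟩, hφ'⟩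

include n in
/-- degree `≥ 2` gives Lefschetz embeddings -/
theorem isLefschetzEmb (hn : 1 ≤ n) (hd : 2 ≤ d) : LefPen.IsLefschetzEmb k n i d := by
  have hd1 : 1 ≤ d := by omega
  obtain ⟨H0, hH0⟩ := exists_goodOne (n := n) i hn hd
  exact isLefschetzEmb_of_no_worse (n := n) i hn hd1 (not_worseHypersurface_of_good (n := n) i hn hd1 H0 hH0)

end

end Groth.Agent.LefPenLib
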