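import Groth.Agent.LefPenLib.CutSmooth
import Groth.Agent.SmoothCompl.Basic
import Groth.Agent.HensMorse.Points
import Mathlib.RingTheory.Smooth.Locus

/-!
# Formal coordinates at a smooth rational point
-/

universe u

open IsLocalRing

namespace Groth.Agent.LefPenLib

noncomputable section

variable {k : Type u} [Field k]

/-- The completion of a formally smooth local algebra with residue field `k` is a power series ring. -/
theorem exists_completion_powerSeries (R : Type u) [CommRing R] [IsLocalRing R] [IsNoetherianRing R]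
    [Algebra k R] [Algebra.FormallySmooth k R]
    (hres : ∀ s : R, ∃ a : k, s - algebraMap k R a ∈ maximalIdeal R) :
    ∃ n : ℕ, Nonempty (AdicCompletion (maximalIdeal R) R ≃ₐ[k]
      MvPowerSeries (Fin n) k ⧸ Ideal.span {(0 : MvPowerSeries (Fin n) k)}) := by
  haveI : IsLocalHom (algebraMap k R) := ⟨fun a ha => by
    rcases eq_or_ne a 0 with rfl | h
    · rw [map_zero] at ha; exact absurd ha not_isUnit_zero
    · exact isUnit_iff_ne_zero.2 h⟩
  have hsurj : Function.Surjective (ResidueField.map (algebraMap k R)) := fun z => by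
    obtain ⟨s, rfl⟩ := residue_surjective z
    obtain ⟨a, ha⟩ := hres s
    refine ⟨residue k a, ?_⟩
    rw [ResidueField.map_residue, eq_comm, ← sub_eq_zero, ← map_sub, residue_eq_zero_iff]
    exact ha
  obtain ⟨n, e, he⟩ := SmoothCompl.exists_equiv (A := k) (B := R) hsurj
  have hbot : maximalIdeal k = ⊥ := maximalIdeal_eq_bot
  haveI : IsAdicComplete (maximalIdeal k) k := SmoothCompl.isAdicComplete_of_artinian k
  let c : k ≃+* AdicCompletion (maximalIdeal k) k :=
    (AdicCompletion.ofAlgEquiv (maximalIdeal k)).toRingEquiv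
  let e1 : AdicCompletion (maximalIdeal R) R ≃+* MvPowerSeries (Fin n) k :=
    e.trans (RingEquiv.ofRingHom (MvPowerSeries.map c.symm.toRingHom) (MvPowerSeries.map c.toRingHom)
      (RingHom.ext fun f => MvPowerSeries.ext fun d => by simp)
      (RingHom.ext fun f => MvPowerSeries.ext fun d => by simp))
  let e2 : MvPowerSeries (Fin n) k ≃+* MvPowerSeries (Fin n) k ⧸ Ideal.span {(0 : MvPowerSeries (Fin n) k)} :=
    (RingEquiv.quotientBot _).symm.trans (Ideal.quotEquivOfEq (by simp))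
  refine ⟨n, ⟨AlgEquiv.ofRingEquiv (f := e1.trans e2) fun a => ?_⟩⟩
  have h1 : algebraMap k (AdicCompletion (maximalIdeal R) R) a =
      algebraMap R _ (algebraMap k R a) := IsScalarTower.algebraMap_apply k R _ a
  have h2 : e1 (algebraMap k _ a) = MvPowerSeries.C a := by
    rw [h1]
    show MvPowerSeries.map c.symm.toRingHom (e _) = _
    rw [he a]
    have h3 : c.symm (algebraMap k _ a) = a := c.symm_apply_eq.2 rfl
    simp [h3]
  show e2 (e1 _) = _
  rw [h2]
  rfl

variable {A : Type u} [CommRing A] [Algebra k A]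

/-- Formal coordinates of `A` at the rational point `ev`. -/
structure FPt (ev : A →ₐ[k] k) (n : ℕ) where
  φ : A →ₐ[k] MvPowerSeries (Fin n) k
  a : Fin n → A
  φ_a : ∀ s, φ (a s) = MvPowerSeries.X s
  mem_iff : ∀ (i : ℕ) (t : A), φ t ∈ PSLib.vars n k ^ i ↔ t ∈ RingHom.ker ev ^ i

namespace FPt

variable {ev : A →ₐ[k] k} {n : ℕ} (P : FPt ev n)

theorem constantCoeff_φ (t : A) : MvPowerSeries.constantCoeff (P.φ t) = ev t := by
  have h : t - algebraMap k A (ev t) ∈ RingHom.ker ev ^ 1 := by simp [RingHom.mem_ker]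
  rw [← P.mem_iff, pow_one, PSLib.mem_vars_iff, map_sub, map_sub, AlgHom.commutes, sub_eq_zero] at h
  rw [h]
  exact MvPowerSeries.constantCoeff_C _

theorem a_mem (s : Fin n) : P.a s ∈ RingHom.ker ev := by
  rw [RingHom.mem_ker, ← P.constantCoeff_φ, P.φ_a, MvPowerSeries.constantCoeff_X]

theorem φ_aeval (p : MvPolynomial (Fin n) k) : P.φ (MvPolynomial.aeval P.a p) = (p : MvPowerSeries (Fin n) k) := by
  rw [← AlgHom.comp_apply, MvPolynomial.comp_aeval, ← HensMorse.aeval_X_coe p]
  congr 2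
  exact funext P.φ_a

/-- every element is a polynomial in the coordinates up to a power of the maximal ideal -/
theorem exists_poly (i : ℕ) (t : A) :
    ∃ p : MvPolynomial (Fin n) k, t - MvPolynomial.aeval P.a p ∈ RingHom.ker ev ^ i := by
  obtain ⟨p, hp⟩ := PSLib.exists_polynomial_sub_mem (P.φ t) i
  exact ⟨p, (P.mem_iff i _).1 (by rwa [map_sub, P.φ_aeval])⟩

theorem ker_le_span_sup_sq : RingHom.ker ev ≤ Ideal.span (Set.range P.a) ⊔ RingHom.ker ev ^ 2 := by
  intro t ht
  obtain ⟨p, hp⟩ := P.exists_poly 2 t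
  rw [← sub_add_cancel t (MvPolynomial.aeval P.a p)]
  refine add_mem (Submodule.mem_sup_right hp) (Submodule.mem_sup_left ?_)
  have h0 : MvPolynomial.constantCoeff p = 0 := by
    have h1 : ev (MvPolynomial.aeval P.a p) = 0 := by
      have h2 := Ideal.pow_le_self two_ne_zero hp
      rw [RingHom.mem_ker, map_sub, RingHom.mem_ker.1 ht, zero_sub, neg_eq_zero] at h2
      exact h2
    rw [← P.constantCoeff_φ, P.φ_aeval] at h1
    rwa [← MvPowerSeries.coeff_zero_eq_constantCoeff_apply, MvPolynomial.coeff_coe] at h1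
  obtain ⟨c, hc⟩ := Ideal.mem_span_range_iff_exists_fun.1
    (show p ∈ Ideal.span (Set.range MvPolynomial.X) by
      rw [← MvPolynomial.idealOfVars, ← pow_one (MvPolynomial.idealOfVars _ _),
        MvPolynomial.mem_pow_idealOfVars_iff']
      intro x hx
      rw [(Finsupp.degree_eq_zero_iff x).1 (by omega)]
      exact h0)
  rw [← hc]
  simp only [map_sum, map_mul, MvPolynomial.aeval_X]
  exact Ideal.sum_mem _ fun s _ => Ideal.mul_mem_left _ _ (Ideal.subset_span ⟨s, rfl⟩)

/-- formal coordinates are injective on a Noetherian domain -/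
theorem φ_injective [IsNoetherianRing A] [IsDomain A] : Function.Injective P.φ := by
  rw [injective_iff_map_eq_zero]
  intro t ht
  have h : t ∈ ⨅ i, RingHom.ker ev ^ i := Submodule.mem_iInf _ |>.2 fun i => (P.mem_iff i t).1 (by rw [ht]; exact zero_mem _)
  rwa [Ideal.iInf_pow_eq_bot_of_isDomain _ (RingHom.ker_ne_top _)] at h

end FPt

/-- Formal coordinates exist at a point with a standard smooth neighbourhood. -/
theorem exists_fpt [Algebra.FiniteType k A] (ev : A →ₐ[k] k) (F : A) (hF : ev F ≠ 0)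
    [Algebra.FormallySmooth k (Localization.Away F)] :
    ∃ n, Nonempty (FPt ev n) := by
  classical
  haveI : IsNoetherianRing A := Algebra.FiniteType.isNoetherianRing k A
  haveI : Algebra.FinitePresentation k A := Algebra.FinitePresentation.of_finiteType.1 inferInstance
  have hsurj : Function.Surjective ev := fun c => ⟨algebraMap k A c, ev.commutes c⟩
  haveI hM : (RingHom.ker ev).IsMaximal := RingHom.ker_isMaximal_of_surjective ev hsurj
  let m := RingHom.ker ev
  let R := Localization.AtPrime m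
  haveI : IsNoetherianRing R := IsLocalization.isNoetherianRing m.primeCompl R inferInstance
  haveI : Algebra.FormallySmooth k R :=
    (Algebra.basicOpen_subset_smoothLocus_iff (R := k) (f := F)).2 inferInstance
      (show (⟨m, hM.isPrime⟩ : PrimeSpectrum A) ∈ PrimeSpectrum.basicOpen F from hF)
  have hres : ∀ s : R, ∃ a : k, s - algebraMap k R a ∈ maximalIdeal R := fun s => by
    obtain ⟨⟨x, y⟩, hxy⟩ := IsLocalization.surj m.primeCompl s
    have hy : ev y ≠ 0 := fun h => y.2 h
    refine ⟨ev x / ev y, ?_⟩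
    have hu : IsUnit (algebraMap A R y) := IsLocalization.map_units R y
    have h1 : (s - algebraMap k R (ev x / ev y)) * algebraMap A R y ∈ maximalIdeal R := by
      rw [sub_mul, hxy, IsScalarTower.algebraMap_apply k A R, ← map_mul, ← map_sub,
        ← Localization.AtPrime.map_eq_maximalIdeal]
      refine Ideal.mem_map_of_mem _ ?_
      show ev _ = 0
      simp [div_mul_cancel₀ _ hy]
    exact ((maximalIdeal.isMaximal R).isPrime.mem_or_mem h1).resolve_right fun h => h hu
  obtain ⟨n, ⟨e⟩⟩ := exists_completion_powerSeries (k := k) R hres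
  obtain ⟨ρ, h1, h2, h3⟩ := HensMorse.exists_rho m (zero_mem _) e
  -- identify the quotient by zero
  let q : MvPowerSeries (Fin n) k →ₐ[k] MvPowerSeries (Fin n) k ⧸ Ideal.span {(0 : MvPowerSeries (Fin n) k)} :=
    Ideal.Quotient.mkₐ k _
  have hq : Function.Bijective q := ⟨fun x y h => by
    have h' := (Ideal.Quotient.eq).1 h
    rwa [Ideal.span_singleton_zero, Submodule.mem_bot, sub_eq_zero] at h', Ideal.Quotient.mk_surjective⟩
  let qe := AlgEquiv.ofBijective q hq
  let φ0 : A →ₐ[k] MvPowerSeries (Fin n) k := qe.symm.toAlgHom.comp ρ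
  have hρ : ∀ t, ρ t = q (φ0 t) := fun t => (qe.apply_symm_apply _).symm
  have hpow : ∀ i (x : MvPowerSeries (Fin n) k),
      q x ∈ (PSLib.vars n k).map (Ideal.Quotient.mk _) ^ i ↔ x ∈ PSLib.vars n k ^ i := fun i x => by
    rw [← Ideal.map_pow]
    refine ⟨fun h => ?_, fun h => Ideal.mem_map_of_mem _ h⟩
    obtain ⟨y, hy, hyx⟩ := (Ideal.mem_map_iff_of_surjective _ Ideal.Quotient.mk_surjective).1 h
    rwa [← hq.1 hyx]
  have h0 : ∀ i t, φ0 t ∈ PSLib.vars n k ^ i ↔ t ∈ m ^ i := fun i t => by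
    refine ⟨fun h => h2 i t (by rw [hρ, hpow]; exact h), fun h => ?_⟩
    rw [← hpow, ← hρ, ← h1, ← Ideal.map_pow]
    exact Ideal.mem_map_of_mem _ h
  -- choose the coordinates
  have hlift : ∀ s : Fin n, ∃ t, MvPowerSeries.X s - φ0 t ∈ PSLib.vars n k ^ 2 := fun s => by
    obtain ⟨t, ht⟩ := h3 2 (q (MvPowerSeries.X s))
    rw [hρ, ← map_sub, hpow] at ht
    exact ⟨t, ht⟩
  choose a ha using hlift
  have ham : ∀ s, φ0 (a s) ∈ PSLib.vars n k := fun s => by
    have h := sub_mem (show (MvPowerSeries.X s : MvPowerSeries (Fin n) k) ∈ PSLib.vars n k from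
      Ideal.subset_span ⟨s, rfl⟩) (Ideal.pow_le_self two_ne_zero (ha s))
    rwa [sub_sub_cancel] at h
  obtain ⟨θ, hθ⟩ := PSLib.exists_algHom (R := k) (PSLib.vars n k) (fun s => φ0 (a s)) ham
  have hθm : ∀ s, θ (MvPowerSeries.X s) ∈ PSLib.vars n k := fun s => (hθ s).symm ▸ ham s
  have hbij : Function.Bijective θ := PSLib.bijective_of_first_order θ hθm fun j => by
    rw [← sub_add_cancel (MvPowerSeries.X j : MvPowerSeries (Fin n) k) (θ (MvPowerSeries.X j))]
    refine add_mem (Submodule.mem_sup_right ?_) (Submodule.mem_sup_left (Ideal.subset_span ⟨j, rfl⟩))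
    rw [hθ]
    exact ha j
  let θe := AlgEquiv.ofBijective θ hbij
  have hθpow : ∀ i x, θe x ∈ PSLib.vars n k ^ i ↔ x ∈ PSLib.vars n k ^ i := fun i x => by
    have e1 : (PSLib.vars n k).map (θe : MvPowerSeries (Fin n) k →+* _) = PSLib.vars n k := by
      rw [← PSLib.maximalIdeal_eq_vars]
      exact map_maximalIdeal_of_surjective _ θe.surjective
    conv_lhs => rw [← e1, ← Ideal.map_pow]
    refine ⟨fun h => ?_, fun h => Ideal.mem_map_of_mem _ h⟩
    obtain ⟨y, hy, hyx⟩ := (Ideal.mem_map_iff_of_surjective _ θe.surjective).1 h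
    rwa [← θe.injective hyx]
  refine ⟨n, ⟨θe.symm.toAlgHom.comp φ0, a, fun s => ?_, fun i t => ?_⟩⟩
  · show θe.symm (φ0 (a s)) = _
    rw [AlgEquiv.symm_apply_eq]
    exact (hθ s).symm
  · rw [← h0 i t, ← hθpow i]
    show θe (θe.symm (φ0 t)) ∈ _ ↔ _
    rw [AlgEquiv.apply_symm_apply]

namespace FPt

variable {ev : A →ₐ[k] k} {n : ℕ} (P : FPt ev n)

/-- The completed local ring of a cut. -/
theorem exists_completion_cut [IsNoetherianRing A] (h : A) (hh : ev h = 0)
    (S : Type u) [CommRing S] [IsLocalRing S] [IsNoetherianRing S] [Algebra k S]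
    (ι : A →ₐ[k] S) (hιh : ι h = 0) (hm : (RingHom.ker ev).map ι = maximalIdeal S)
    (hgen : ∀ s : S, ∃ x y, y ∉ RingHom.ker ev ∧ s * ι y = ι x)
    (huniv : ∀ (T : Type u) [CommRing T] [Algebra k T] (g : A →ₐ[k] T), g h = 0 →
      (∀ y, y ∉ RingHom.ker ev → IsUnit (g y)) → ∃ g' : S →ₐ[k] T, ∀ x, g' (ι x) = g x) :
    Nonempty ((MvPowerSeries (Fin n) k ⧸ Ideal.span {P.φ h}) ≃ₐ[k] AdicCompletion (maximalIdeal S) S) := by
  classical
  let Q := MvPowerSeries (Fin n) k ⧸ Ideal.span {P.φ h}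
  have hφh : P.φ h ∈ PSLib.vars n k := by
    rw [← pow_one (PSLib.vars n k), P.mem_iff, pow_one]; exact hh
  haveI : IsLocalRing Q := PSQuad.isLocalRing_quot hφh
  haveI : IsAdicComplete (maximalIdeal Q) Q := PSQuad.isAdicComplete_quot
  let Cp := AdicCompletion (maximalIdeal S) S
  haveI : IsAdicComplete (maximalIdeal Cp) Cp := NodeLib.isAdicComplete_maximalIdeal S
  haveI : IsNoetherianRing Cp := LC.Canon.isNoetherianRing_completion (R := S)
  have hmC : maximalIdeal Cp = (maximalIdeal S).map (algebraMap S Cp) := AdicCompletion.maximalIdeal_eq_map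
  let ιC : A →ₐ[k] Cp := (IsScalarTower.toAlgHom k S Cp).comp ι
  have hιC : (RingHom.ker ev).map ιC = maximalIdeal Cp :=
    Eq.trans (Eq.trans (Ideal.map_map ι.toRingHom (algebraMap S Cp)).symm
      (congrArg (Ideal.map (algebraMap S Cp)) hm)) hmC.symm
  have hb : ∀ s, ιC (P.a s) ∈ maximalIdeal Cp := fun s => hιC ▸ Ideal.mem_map_of_mem _ (P.a_mem s)
  obtain ⟨Ψ, hΨ⟩ := PSLib.exists_algHom (R := k) (maximalIdeal Cp) _ hb
  have hΨm : ∀ s, Ψ (MvPowerSeries.X s) ∈ maximalIdeal Cp := fun s => (hΨ s).symm ▸ hb s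
  have hΨp : ∀ p : MvPolynomial (Fin n) k, Ψ (p : MvPowerSeries (Fin n) k) = ιC (MvPolynomial.aeval P.a p) := by
    intro p
    rw [← HensMorse.aeval_X_coe p, ← AlgHom.comp_apply, MvPolynomial.comp_aeval, ← AlgHom.comp_apply,
      MvPolynomial.comp_aeval]
    congr 2
    exact funext hΨ
  -- `Ψ` extends the map to the completion
  have hcomm : ∀ t, Ψ (P.φ t) = ιC t := fun t => by
    refine sub_eq_zero.1 (IsHausdorff.haus (I := maximalIdeal Cp) (M := Cp) inferInstance _ fun i => ?_)
    rw [SModEq.zero, smul_eq_mul, Ideal.mul_top]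
    obtain ⟨p, hp⟩ := P.exists_poly i t
    rw [show Ψ (P.φ t) - ιC t = Ψ (P.φ (t - MvPolynomial.aeval P.a p)) - ιC (t - MvPolynomial.aeval P.a p) by
      rw [map_sub, map_sub, map_sub, P.φ_aeval, hΨp]; ring]
    refine sub_mem (PSLib.map_pow_le Ψ hΨm i (Ideal.mem_map_of_mem _ ((P.mem_iff i _).2 hp))) ?_
    rw [← hιC, ← Ideal.map_pow]
    exact Ideal.mem_map_of_mem _ hp
  have hker : Ideal.span {P.φ h} ≤ RingHom.ker Ψ := by
    rw [Ideal.span_le, Set.singleton_subset_iff]
    show Ψ (P.φ h) = 0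
    rw [hcomm]
    show algebraMap S Cp (ι h) = 0
    rw [hιh, map_zero]
  -- the inverse
  let g : A →ₐ[k] Q := (Ideal.Quotient.mkₐ k _).comp P.φ
  obtain ⟨Φ0, hΦ0⟩ := huniv Q g (Ideal.Quotient.eq_zero_iff_mem.2 (Ideal.subset_span rfl)) fun y hy => by
    refine IsUnit.map (Ideal.Quotient.mk (Ideal.span {P.φ h})) ?_
    show IsUnit (P.φ y)
    rw [MvPowerSeries.isUnit_iff_constantCoeff, P.constantCoeff_φ, isUnit_iff_ne_zero]
    exact hy
  have hgm : ∀ t ∈ RingHom.ker ev, g t ∈ maximalIdeal Q := fun t ht =>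
    PSQuad.mk_mem_maximalIdeal (by simpa using (P.mem_iff 1 t).2 (by simpa using ht))
  have hΦm : (maximalIdeal S).map Φ0 ≤ maximalIdeal Q := by
    rw [← hm, Ideal.map_le_iff_le_comap, Ideal.map_le_iff_le_comap]
    intro t ht
    rw [Ideal.mem_comap, Ideal.mem_comap, hΦ0]
    exact hgm t ht
  obtain ⟨Φ, hΦ⟩ := Adic7.exists_lift_completion (R := k) (maximalIdeal S) (maximalIdeal Q) Φ0 hΦm
  have hX : ∀ s, Φ (Ψ (MvPowerSeries.X s)) = Ideal.Quotient.mk _ (MvPowerSeries.X s) := fun s => by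
    rw [hΨ]
    show Φ (algebraMap S Cp (ι (P.a s))) = _
    rw [hΦ, hΦ0]
    show Ideal.Quotient.mk _ (P.φ (P.a s)) = _
    rw [P.φ_a]
  have hcomp : Φ.comp Ψ = Ideal.Quotient.mkₐ k (Ideal.span {P.φ h}) := by
    refine PSLib.algHom_ext (I := maximalIdeal Q) _ _ (fun s => ?_) hX
    rw [AlgHom.comp_apply, hX]
    exact PSQuad.mk_mem_maximalIdeal (Ideal.subset_span ⟨s, rfl⟩)
  have hkereq : RingHom.ker Ψ = Ideal.span {P.φ h} := by
    refine le_antisymm (fun x hx => ?_) hker
    rw [← Ideal.Quotient.eq_zero_iff_mem]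
    have := AlgHom.congr_fun hcomp x
    rw [AlgHom.comp_apply, RingHom.mem_ker.1 hx, map_zero] at this
    exact this.symm
  have hsurj : Function.Surjective Ψ := by
    refine PSLib.surjective_of_span (K := k) (n := n) (R := Cp) ?_ Ψ hΨm ?_
    · intro r
      obtain ⟨z, rfl⟩ := IsLocalRing.residue_surjective r
      obtain ⟨s, hs⟩ := Adic7.exists_sub_algebraMap_mem (maximalIdeal S) (IsNoetherian.noetherian _) z 1
      rw [pow_one, ← hmC] at hs
      obtain ⟨x, y, hy, hxy⟩ := hgen s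
      refine ⟨ev x / ev y, ?_⟩
      rw [RingHom.comp_apply, eq_comm, ← sub_eq_zero, ← map_sub, residue_eq_zero_iff]
      rw [show z - algebraMap k Cp (ev x / ev y) =
        (z - algebraMap S Cp s) + algebraMap S Cp (s - algebraMap k S (ev x / ev y)) by
          rw [map_sub, ← IsScalarTower.algebraMap_apply]; ring]
      refine add_mem hs (hmC ▸ Ideal.mem_map_of_mem _ ?_)
      have h1 : (s - algebraMap k S (ev x / ev y)) * ι y ∈ maximalIdeal S := by
        rw [sub_mul, hxy, ← ι.commutes, ← map_mul, ← map_sub, ← hm]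
        refine Ideal.mem_map_of_mem _ ?_
        simp [RingHom.mem_ker, div_mul_cancel₀ _ (show ev y ≠ 0 from hy)]
      refine ((maximalIdeal.isMaximal S).isPrime.mem_or_mem h1).resolve_right fun h2 => ?_
      have h3 : ι (y - algebraMap k A (ev y)) ∈ maximalIdeal S :=
        hm ▸ Ideal.mem_map_of_mem _ (by simp [RingHom.mem_ker])
      have h4 := sub_mem h2 h3
      rw [map_sub, sub_sub_cancel, ι.commutes] at h4
      exact h4 ((isUnit_iff_ne_zero.2 (show ev y ≠ 0 from hy)).map _)
    · rw [← hιC]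
      refine (Ideal.map_mono P.ker_le_span_sup_sq).trans ?_
      rw [Ideal.map_sup, Ideal.map_pow, Ideal.map_span, ← Set.range_comp]
      refine sup_le_sup (Ideal.span_mono (Set.range_subset_iff.2 fun s => ⟨s, hΨ s⟩)) le_rfl
  exact ⟨(Ideal.quotientEquivAlgOfEq k hkereq.symm).trans (Ideal.quotientKerAlgEquivOfSurjective hsurj)⟩

end FPt

end

end Groth.Agent.LefPenLib
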