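import Groth.Agent.LefPenLib.NondegQuad
import Groth.Agent.LefPenLib.ComplCongr

/-!
# Sections with exactly one ordinary quadratic singularity
-/

universe u

open CategoryTheory AlgebraicGeometry Opposite TopologicalSpace

namespace Groth.Agent.LefPenLib

noncomputable section

variable {r n d : ℕ} {k : Type u} [Field k] {X : Scheme.{u}} (i : X ⟶ CohB1.ProjSpace r k) [IsClosedImmersion i]

instance (G : LefPen.Form r k d) : LocallyOfFiniteType (LefPen.secToSpec i {G}) := by
  refine (IsZariskiLocalAtSource.iff_of_openCover (P := @LocallyOfFiniteType) (subCover i (LefPen.secIdeal i {G}))).2 ?_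
  intro j
  haveI : LocallyOfFiniteType (i ≫ CohB1.ProjSpace.toSpec r k) := by
    haveI : LocallyOfFiniteType (CohB1.ProjSpace.toSpec r k) := by
      haveI := CurvOpenLib.ProjSp.smooth_toSpec r k
      infer_instance
    infer_instance
  infer_instance

theorem isQuadPart_quadPoly {m : ℕ} (Q : MvPowerSeries (Fin (m + 1)) k)
    (h : VanCyc.quadPoly (VanCyc.quadPart Q) ∈ CohB1.polyGrading m k 2) :
    LefPen.IsQuadPart k Q ⟨VanCyc.quadPoly (VanCyc.quadPart Q), h⟩ := by
  classical
  intro e he
  have hcoe : ∀ a b : Fin (m + 1), (MvPolynomial.X a * MvPolynomial.X b : MvPolynomial (Fin (m + 1)) k) =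
      MvPolynomial.monomial (Finsupp.single a 1 + Finsupp.single b 1) 1 := fun a b => by
    simp [MvPolynomial.X, MvPolynomial.monomial_mul]
  obtain ⟨a, b, hab, rfl⟩ : ∃ a b, a ≤ b ∧ e = Finsupp.single a 1 + Finsupp.single b 1 := by
    rcases PSQuad.degree_le_two_cases he.le with rfl | ⟨a, rfl⟩ | ⟨a, b, -, rfl⟩
    · simp at he
    · simp [Finsupp.degree_single] at he
    · rcases le_total a b with hle | hle
      · exact ⟨a, b, hle, rfl⟩
      · exact ⟨b, a, hle, add_comm _ _⟩
  simp only [VanCyc.quadPoly, MvPolynomial.coeff_sum, apply_ite (MvPolynomial.coeff (Finsupp.single a 1 + Finsupp.single b 1)), MvPolynomial.coeff_zero,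
    mul_assoc, hcoe, MvPolynomial.coeff_C_mul, MvPolynomial.coeff_monomial, mul_ite, mul_one, mul_zero]
  rw [Finset.sum_eq_single a, Finset.sum_eq_single b, if_pos hab, if_pos rfl]
  · simp only [VanCyc.quadPart]
    rcases eq_or_lt_of_le hab with rfl | hlt
    · rw [if_pos rfl, ← Finsupp.single_add]
    · rw [if_neg hlt.ne, if_pos hlt]
  · intro b' _ hb'
    split_ifs with h1 h2
    · exact absurd (Finsupp.single_left_injective one_ne_zero (add_left_cancel h2)) hb'
    · rfl
    · rfl
  · simp
  · intro a' _ ha'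
    refine Finset.sum_eq_zero fun b' _ => ?_
    split_ifs with h1 h2
    · exfalso
      have e1 := DFunLike.congr_fun h2 a
      have e2 := DFunLike.congr_fun h2 b
      simp only [Finsupp.add_apply, Finsupp.single_apply] at e1 e2
      split_ifs at e1 e2 <;> subst_vars <;> first | omega | exact ha' rfl | exact absurd (le_antisymm h1 hab) ha' | exact absurd (le_antisymm hab h1) (fun h4 => ha' h4.symm) | exact absurd (le_antisymm h1 hab) (fun h4 => ha' h4.symm)
    · rfl
    · rfl
  · simp

variable [IrreducibleSpace X] [SmoothOfRelativeDimension n (i ≫ CohB1.ProjSpace.toSpec r k)] [IsAlgClosed k]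

/-- every closed point of a section is a rational point of a chart -/
theorem exists_secPoint (G : LefPen.Form r k d) (y : LefPen.Sec i {G}) (hy : IsClosed ({y} : Set (LefPen.Sec i {G}))) :
    ∃ (j : Fin (r + 1)) (ev : Γ(X, chartX i j) →ₐ[k] k) (hev : ev (psi i j G.1) = 0), secPoint i G j ev hev = y := by
  obtain ⟨j, z, rfl⟩ := exists_secPiece i G y
  have hz : IsClosed ({z} : Set (Spec (CommRingCat.of (Γ(X, chartX i j) ⧸ Ideal.span {psi i j G.1})))) := by
    rw [show ({z} : Set _) = (secPiece i G j) ⁻¹' {secPiece i G j z} from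
      Set.ext fun w => ⟨fun h => congrArg _ h, fun h => (secPiece i G j).isOpenEmbedding.injective h⟩]
    exact hy.preimage (secPiece i G j).continuous
  haveI : z.asIdeal.IsMaximal := (PrimeSpectrum.isClosed_singleton_iff_isMaximal z).1 hz
  haveI : Algebra.FiniteType k (Γ(X, chartX i j) ⧸ Ideal.span {psi i j G.1}) :=
    Algebra.FiniteType.of_surjective (Ideal.Quotient.mkₐ k _) Ideal.Quotient.mk_surjective
  obtain ⟨e, he⟩ := exists_ev (k := k) z.asIdeal
  let ev := e.comp (Ideal.Quotient.mkₐ k _)
  have hev : ev (psi i j G.1) = 0 := by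
    show e (Ideal.Quotient.mk _ _) = 0
    rw [Ideal.Quotient.eq_zero_iff_mem.2 (Ideal.mem_span_singleton_self _), map_zero]
  have he' : evCut _ ev hev = e := Ideal.Quotient.algHom_ext _ rfl
  refine ⟨j, ev, hev, congrArg (secPiece i G j) (PrimeSpectrum.ext ?_)⟩
  show RingHom.ker (evCut _ ev hev) = _
  rw [he', he]

theorem isClosed_secPoint (G : LefPen.Form r k d) (j : Fin (r + 1)) (ev : Γ(X, chartX i j) →ₐ[k] k)
    (hev : ev (psi i j G.1) = 0) : IsClosed ({secPoint i G j ev hev} : Set (LefPen.Sec i {G})) := by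
  haveI : JacobsonSpace (LefPen.Sec i {G}) := LocallyOfFiniteType.jacobsonSpace (LefPen.secToSpec i {G})
  refine isClosed_singleton_of_isLocallyClosed_singleton ?_
  have hz : IsClosed ({⟨RingHom.ker (evCut _ ev hev), (isMaximal_ker_evCut _ ev hev).isPrime⟩} :
      Set (Spec (CommRingCat.of (Γ(X, chartX i j) ⧸ Ideal.span {psi i j G.1})))) :=
    (PrimeSpectrum.isClosed_singleton_iff_isMaximal _).2 (isMaximal_ker_evCut _ ev hev)
  have := hz.isLocallyClosed.image (secPiece i G j).isOpenEmbedding.isInducing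
    (secPiece i G j).isOpenEmbedding.isOpen_range.isLocallyClosed
  rwa [Set.image_singleton] at this

theorem ev_eq_of_pt_eq (j : Fin (r + 1)) {ev ev' : Γ(X, chartX i j) →ₐ[k] k}
    (h : pt (psi i j) ev = pt (psi i j) ev') : ev = ev' := by
  refine AlgHom.ext fun a => ?_
  obtain ⟨P, rfl⟩ := psi_surjective i j a
  rw [ev_psi, ev_psi, h]

theorem secPoint_injective (G : LefPen.Form r k d) (j : Fin (r + 1)) {ev ev' : Γ(X, chartX i j) →ₐ[k] k}
    {hev : ev (psi i j G.1) = 0} {hev' : ev' (psi i j G.1) = 0}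
    (h : secPoint i G j ev hev = secPoint i G j ev' hev') : ev = ev' := by
  have h1 := congrArg PrimeSpectrum.asIdeal ((secPiece i G j).isOpenEmbedding.injective h)
  refine AlgHom.ext fun a => ?_
  have h2 : Ideal.Quotient.mk _ (a - algebraMap k _ (ev' a)) ∈ RingHom.ker (evCut _ ev' hev') := by
    show ev' _ = 0
    simp
  rw [← show RingHom.ker (evCut _ ev hev) = RingHom.ker (evCut _ ev' hev') from h1] at h2
  have h3 : ev (a - algebraMap k _ (ev' a)) = 0 := h2
  simpa [sub_eq_zero] using h3

include n in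
theorem psi_ne_zero_transfer (G : LefPen.Form r k d) (j l : Fin (r + 1)) [Nontrivial Γ(X, chartX i l)]
    (h : psi i j G.1 ≠ 0) : psi i l G.1 ≠ 0 := fun h0 =>
  h (psi_zero_transfer (n := n) i ((MvPolynomial.mem_homogeneousSubmodule d _).1 G.2) l h0 j)

include n in
theorem not_ordQuadSeries_zero (hn : 1 ≤ n) :
    ¬ VanCyc.OrdQuadSeries (0 : MvPowerSeries (Fin n) k) := fun h => by
  have := congrFun (h.2 (fun _ => 1) (by simp [VanCyc.quadEval, VanCyc.quadPart])
    (by funext a; simp [Matrix.mulVec, dotProduct, VanCyc.polarMatrix, VanCyc.quadPart])) ⟨0, hn⟩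
  exact one_ne_zero this

include n in
/-- The local meaning of an ordinary quadratic singularity of a section. -/
theorem isOrdQuadSing_iff (hn : 1 ≤ n) (G : LefPen.Form r k d) (j : Fin (r + 1))
    (ev : Γ(X, chartX i j) →ₐ[k] k) (hev : ev (psi i j G.1) = 0) :
    LefPen.IsOrdQuadSing k (n - 1) (LefPen.secToSpec i {G}) (secPoint i G j ev hev) ↔
      psi i j G.1 ∈ RingHom.ker ev ^ 2 ∧ OrdAt i j ev G := by
  obtain ⟨m, rfl⟩ : ∃ m, n = m + 1 := ⟨n - 1, by omega⟩
  rw [Nat.add_sub_cancel]
  obtain ⟨⟨P⟩, -⟩ := exists_fpt_chart (n := m + 1) i j ev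
  haveI : IsNoetherianRing Γ(X, chartX i j) := Algebra.FiniteType.isNoetherianRing k _
  set C := Γ(X, chartX i j) ⧸ Ideal.span {psi i j G.1}
  set M := RingHom.ker (evCut _ ev hev) with hM
  let z : Spec (CommRingCat.of C) := ⟨M, (isMaximal_ker_evCut _ ev hev).isPrime⟩
  obtain ⟨E, hE⟩ := exists_completionCongr (pieceStalk (secPiece i G j) z)
  have hEk : ∀ c : k, E (algebraMap _ _ (LefPen.toStalk k (LefPen.secToSpec i {G}) (secPiece i G j z) c)) =
      algebraMap k (AdicCompletion (IsLocalRing.maximalIdeal (Localization.AtPrime M)) (Localization.AtPrime M)) c := by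
    intro c
    rw [hE, pieceStalk_toStalk (LefPen.secToSpec i {G}) (secPiece i G j) (secPiece_toSpec i G j)]
    exact (IsScalarTower.algebraMap_apply k (Localization.AtPrime M) _ c).symm
  obtain ⟨e0⟩ := nonempty_completion_cut (psi i j G.1) ev hev P
  have hbridge : LefPen.IsOrdQuadSing k m (LefPen.secToSpec i {G}) (secPoint i G j ev hev) ↔
      VanCyc.OrdQuadSeries (P.φ (psi i j G.1)) := by
    constructor
    · rintro ⟨-, Q, Q₂, e, hek, hlow, hQ, hnd⟩
      have hord : VanCyc.OrdQuadSeries Q := by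
        refine ⟨⟨?_, fun s => hlow _ (by simp [Finsupp.degree_single])⟩, (nondegQuad_iff Q Q₂ hQ).1 hnd⟩
        rw [← MvPowerSeries.coeff_zero_eq_constantCoeff_apply]
        exact hlow _ (by simp)
      refine ordQuadSeries_of_algEquiv hord (by rw [← pow_one (PSLib.vars _ k), P.mem_iff, pow_one]; exact hev) ?_
      refine (AlgEquiv.ofRingEquiv (f := e.symm.trans E) fun c => ?_).trans e0.symm
      show E (e.symm (Ideal.Quotient.mk _ (MvPowerSeries.C c))) = _
      rw [← hek, RingEquiv.symm_apply_apply]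
      exact hEk c
    · intro hord
      refine ⟨isClosed_secPoint i G j ev hev, P.φ (psi i j G.1), ⟨VanCyc.quadPoly (VanCyc.quadPart (P.φ (psi i j G.1))), ?_⟩,
        E.trans e0.symm.toRingEquiv, fun c => ?_, fun e' he' => ?_, ?_, ?_⟩
      · refine (MvPolynomial.mem_homogeneousSubmodule _ _).2 (MvPolynomial.IsHomogeneous.sum _ _ _ fun a _ =>
          MvPolynomial.IsHomogeneous.sum _ _ _ fun b _ => ?_)
        split_ifs
        · exact ((MvPolynomial.isHomogeneous_C _ _).mul (MvPolynomial.isHomogeneous_X k a)).mul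
            (MvPolynomial.isHomogeneous_X k b)
        · exact MvPolynomial.isHomogeneous_zero _ _ _
      · show e0.symm (E _) = _
        exact (congrArg e0.symm (hEk c)).trans ((e0.symm.commutes c).trans rfl)
      · rcases PSQuad.degree_le_two_cases (by omega : Finsupp.degree e' ≤ 2) with rfl | ⟨a, rfl⟩ | ⟨a, b, _, rfl⟩
        · rw [MvPowerSeries.coeff_zero_eq_constantCoeff_apply]; exact hord.1.1
        · exact hord.1.2 a
        · simp [map_add, Finsupp.degree_single] at he'
      · exact isQuadPart_quadPoly _ _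
      · exact (nondegQuad_iff _ _ (isQuadPart_quadPoly _ _)).2 hord.2
  rw [hbridge]
  constructor
  · intro hord
    have hmem : psi i j G.1 ∈ RingHom.ker ev ^ 2 :=
      (P.mem_iff 2 _).1 ((HensMorse.noLowTerms_iff_mem_sq _).1 hord.1)
    refine ⟨hmem, fun P' hP' h0 h1 => ?_⟩
    rw [← ordQuadSeries_iff P (psi_surjective i j) h0 h1, hP']
    exact hord
  · rintro ⟨hmem, hord⟩
    obtain ⟨P', hP', h0, h1⟩ := exists_adapted i j ev G hmem
    rw [← hP', ordQuadSeries_iff P (psi_surjective i j) h0 h1]
    exact hord P' hP' h0 h1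

include n in
/-- `OneOrdQuad` in coordinates. -/
theorem oneOrdQuad_iff (hn : 1 ≤ n) (G : LefPen.Form r k d) : LefPen.OneOrdQuad k n i G ↔ GoodOne i G := by
  constructor
  · rintro ⟨y, hset, hq⟩
    obtain ⟨j, ev, hev, rfl⟩ := exists_secPoint i G y hq.1
    obtain ⟨hmem, hord⟩ := (isOrdQuadSing_iff (n := n) i hn G j ev hev).1 hq
    haveI : Nontrivial Γ(X, chartX i j) := ev.toRingHom.domain_nontrivial
    have hG0 : psi i j G.1 ≠ 0 := fun h0 => by
      obtain ⟨⟨P⟩, -⟩ := exists_fpt_chart (n := n) i j ev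
      obtain ⟨P', hP', h1, h2⟩ := exists_adapted i j ev G hmem
      have := (ordQuadSeries_iff P (psi_surjective i j) h1 h2).2 (hord P' hP' h1 h2)
      rw [hP', h0, map_zero] at this
      exact not_ordQuadSeries_zero hn this
    have honly : ∀ (j' : Fin (r + 1)) (ev' : Γ(X, chartX i j') →ₐ[k] k) (h : psi i j' G.1 ∈ RingHom.ker ev' ^ 2),
        secPoint i G j' ev' (Ideal.pow_le_self two_ne_zero h) = secPoint i G j ev hev := by
      intro j' ev' h
      haveI : Nontrivial Γ(X, chartX i j') := ev'.toRingHom.domain_nontrivial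
      by_contra hne
      have hs : secPoint i G j' ev' (Ideal.pow_le_self two_ne_zero h) ∈
          {y' | LefPen.SmoothAt (LefPen.secToSpec i {G}) y'} := hset.ge hne
      exact (smoothAt_secPoint_iff (n := n) i G j' ev' _ (psi_ne_zero_transfer (n := n) i G j j' hG0)).1 hs h
    refine ⟨j, ev, hmem, hord, fun v hv hbad => ?_⟩
    by_cases hvj : v j = 0
    · exfalso
      obtain ⟨j', hj'⟩ := Function.ne_iff.1 hv
      have hbad' := hbad.smul i (inv_ne_zero hj')
      obtain ⟨ev', hev'⟩ := exists_point (n := n) i hbad'.1 j' (inv_mul_cancel₀ hj')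
      have hm : psi i j' G.1 ∈ RingHom.ker ev' ^ 2 :=
        (mem_sq_iff_grad (n := n) i G j' ev').2 (by rw [hev']; exact hbad'.2)
      have := (secPoint_mem i G j' j ev' (Ideal.pow_le_self two_ne_zero hm)).1
        (by rw [honly j' ev' hm]; exact (secPoint_mem i G j j ev hev).2 (by rw [pt_self]; exact one_ne_zero))
      rw [hev'] at this
      simp [hvj] at this
    · have hbad' := hbad.smul i (inv_ne_zero hvj)
      obtain ⟨ev', hev'⟩ := exists_point (n := n) i hbad'.1 j (inv_mul_cancel₀ hvj)
      have hm : psi i j G.1 ∈ RingHom.ker ev' ^ 2 :=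
        (mem_sq_iff_grad (n := n) i G j ev').2 (by rw [hev']; exact hbad'.2)
      refine ⟨v j, ?_⟩
      rw [← secPoint_injective i G j (honly j ev' hm), hev', smul_smul, mul_inv_cancel₀ hvj, one_smul]
  · rintro ⟨j, ev, hmem, hord, huniq⟩
    have hev : ev (psi i j G.1) = 0 := Ideal.pow_le_self two_ne_zero hmem
    haveI : Nontrivial Γ(X, chartX i j) := ev.toRingHom.domain_nontrivial
    have hG0 : psi i j G.1 ≠ 0 := fun h0 => by
      obtain ⟨⟨P⟩, -⟩ := exists_fpt_chart (n := n) i j ev
      obtain ⟨P', hP', h1, h2⟩ := exists_adapted i j ev G hmem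
      have := (ordQuadSeries_iff P (psi_surjective i j) h1 h2).2 (hord P' hP' h1 h2)
      rw [hP', h0, map_zero] at this
      exact not_ordQuadSeries_zero hn this
    refine ⟨secPoint i G j ev hev, ?_, (isOrdQuadSing_iff (n := n) i hn G j ev hev).2 ⟨hmem, hord⟩⟩
    ext y'
    simp only [Set.mem_setOf_eq, Set.mem_compl_iff, Set.mem_singleton_iff]
    refine ⟨fun hs heq => (smoothAt_secPoint_iff (n := n) i G j ev hev hG0).1 (heq ▸ hs) hmem, fun hne => ?_⟩
    by_contra hns
    obtain ⟨j', z, hz, hj'⟩ : ∃ j' z, secPiece i G j' z = y' ∧ (LefPen.secι i {G} y' ∈ chartX i j → j' = j) := by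
      by_cases hy : LefPen.secι i {G} y' ∈ chartX i j
      · obtain ⟨z, hz⟩ := (mem_range_secPiece i G j y').2 hy
        exact ⟨j, z, hz, fun _ => rfl⟩
      · obtain ⟨j', z, hz⟩ := exists_secPiece i G y'
        exact ⟨j', z, hz, fun h => absurd h hy⟩
    subst hz
    set C := Γ(X, chartX i j') ⧸ Ideal.span {psi i j' G.1}
    haveI : Algebra.FiniteType k C :=
      Algebra.FiniteType.of_surjective (Ideal.Quotient.mkₐ k _) Ideal.Quotient.mk_surjective
    haveI : Algebra.FinitePresentation k C := Algebra.FinitePresentation.of_finiteType.1 inferInstance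
    rw [smoothAt_iff (LefPen.secToSpec i {G}) (secPiece i G j') (secPiece_toSpec i G j')] at hns
    -- every closed point below is singular
    have hclosed : ∀ (Mx : Ideal C) [Mx.IsMaximal], z.asIdeal ≤ Mx → ∃ ev' : Γ(X, chartX i j') →ₐ[k] k,
        ∃ h' : ev' (psi i j' G.1) = 0, Mx = RingHom.ker (evCut _ ev' h') ∧ ∃ c : k, pt (psi i j') ev' = c • pt (psi i j) ev := by
      intro Mx hMx hle
      obtain ⟨e, he⟩ := exists_ev (k := k) Mx
      let ev' := e.comp (Ideal.Quotient.mkₐ k _)
      have h' : ev' (psi i j' G.1) = 0 := by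
        show e (Ideal.Quotient.mk _ _) = 0
        rw [Ideal.Quotient.eq_zero_iff_mem.2 (Ideal.mem_span_singleton_self _), map_zero]
      have he' : evCut _ ev' h' = e := Ideal.Quotient.algHom_ext _ rfl
      haveI : Nontrivial Γ(X, chartX i j') := ev'.toRingHom.domain_nontrivial
      have hnsm : ¬ Algebra.IsSmoothAt k Mx := fun hs => by
        refine hns ?_
        have hsp : z ⤳ (⟨Mx, hMx.isPrime⟩ : PrimeSpectrum C) := (PrimeSpectrum.le_iff_specializes z _).1 hle
        exact hsp.mem_open Algebra.isOpen_smoothLocus hs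
      have hsq : psi i j' G.1 ∈ RingHom.ker ev' ^ 2 := by
        by_contra hn2
        refine hnsm ?_
        obtain ⟨⟨P⟩, F, hF, hst⟩ := exists_fpt_chart (n := n) i j' ev'
        haveI := isDomain_chartX (n := n) i j'
        have := (isSmoothAt_cut_iff _ ev' h' P (psi_ne_zero_transfer (n := n) i G j j' hG0) F hF).2 hn2
        simpa only [he', he] using this
      have hbad : BadAt i (pt (psi i j') ev') G := ⟨inCone_pt i j' ev', (mem_sq_iff_grad (n := n) i G j' ev').1 hsq⟩
      exact ⟨ev', h', (by rw [he', he]), huniq _ (fun h0 => by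
        have := pt_self i j' ev'; rw [h0] at this; exact zero_ne_one this) hbad⟩
    obtain ⟨Mx, hMx, hle⟩ := Ideal.exists_le_maximal _ z.isPrime.ne_top
    obtain ⟨ev', h', hMeq, c, hc⟩ := hclosed Mx hle
    have hcj : c ≠ 0 := fun h0 => by
      have := pt_self i j' ev'
      rw [hc, h0, zero_smul] at this
      exact zero_ne_one this
    by_cases hjj : j' = j
    · subst hjj
      -- all closed points below coincide
      have hone : ∀ (Mx : Ideal C) [Mx.IsMaximal], z.asIdeal ≤ Mx → Mx = RingHom.ker (evCut _ ev hev) := by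
        intro Mx _ hle
        obtain ⟨ev', h', hMeq, c, hc⟩ := hclosed Mx hle
        have hc1 : c = 1 := by
          have := congrFun hc j'
          rw [pt_self, Pi.smul_apply, pt_self, smul_eq_mul, mul_one] at this
          exact this.symm
        rw [hc1, one_smul] at hc
        obtain rfl := ev_eq_of_pt_eq i j' hc
        exact hMeq
      refine hne (congrArg (secPiece i G j') (PrimeSpectrum.ext ?_))
      haveI : IsJacobsonRing C := isJacobsonRing_of_finiteType (A := k)
      have hj : z.asIdeal.jacobson = z.asIdeal := IsJacobsonRing.out inferInstance z.isPrime.isRadical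
      refine le_antisymm ?_ ?_
      · have := hone Mx hle
        exact this ▸ hle
      · rw [← hj, Ideal.jacobson]
        exact le_sInf fun Mx' ⟨hle', hMx'⟩ => (hone Mx' hle').ge
    · refine hjj (hj' ?_)
      have hmem' : LefPen.secι i {G} (secPoint i G j' ev' h') ∈ chartX i j :=
        (secPoint_mem i G j' j ev' h').2 (by rw [hc, Pi.smul_apply, pt_self, smul_eq_mul, mul_one]; exact hcj)
      have hspec : secPiece i G j' z ⤳ secPoint i G j' ev' h' := by
        refine Specializes.map ((PrimeSpectrum.le_iff_specializes z _).1 ?_) (secPiece i G j').continuous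
        show z.asIdeal ≤ _
        exact hMeq ▸ hle
      exact (hspec.map (LefPen.secι i {G}).continuous).mem_open (chartX i j).2 hmem'

end

end Groth.Agent.LefPenLib
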