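import Groth.Agent.LefPenLib.LinePoly
import Groth.Agent.LefPenLib.OneOrd

/-!
# Equations of a variety near a point, and the adapted equation of a singular section
-/

universe u

open CategoryTheory AlgebraicGeometry Opposite TopologicalSpace
open MvPolynomial Matrix

namespace Groth.Agent.LefPenLib

noncomputable section

variable {r n d : ℕ} {k : Type u} [Field k] {X : Scheme.{u}} (i : X ⟶ CohB1.ProjSpace r k) [IsClosedImmersion i]

/-- a choice of `r - n` equations and coordinates -/
structure MData (n : ℕ) (j : Fin (r + 1)) where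
  Q : Fin (r - n) → Eqn i
  C : Fin (r - n) → Fin (r + 1)
  hC : ∀ a, C a ≠ j

variable {i} {j : Fin (r + 1)} (D : MData i n j)

/-- the Jacobian block -/
def MData.mat : Matrix (Fin (r - n)) (Fin (r - n)) (MvPolynomial (Fin (r + 1)) k) :=
  Matrix.of fun a b => pderiv (D.C b) (D.Q a).1

/-- the minor -/
def MData.minor : MvPolynomial (Fin (r + 1)) k := D.mat.det

theorem MData.isHomogeneous_minor : ∃ e, D.minor.IsHomogeneous e := by
  classical
  have hE : ∀ a, ∃ e, (D.Q a).1.IsHomogeneous e := fun a => by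
    obtain ⟨e, he, -⟩ := (D.Q a).2; exact ⟨e, he⟩
  choose e he using hE
  refine ⟨∑ a, (e a - 1), ?_⟩
  rw [MData.minor, Matrix.det_apply]
  refine MvPolynomial.IsHomogeneous.sum _ _ _ fun σ _ => ?_
  have h : (∏ a, D.mat (σ a) a).IsHomogeneous (∑ a, (e a - 1)) := by
    rw [← Equiv.sum_comp σ fun a => e a - 1]
    exact MvPolynomial.IsHomogeneous.prod _ _ _ fun a _ => (he (σ a)).pderiv
  rcases Int.units_eq_one_or (Equiv.Perm.sign σ) with hs | hs <;> rw [hs]
  · simpa using h
  · simpa [Units.smul_def] using h.neg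

section Ring

variable {R S : Type u} [CommRing R] [CommRing S] [Algebra k R] [Algebra k S]

/-- the form with coordinates `y` -/
def Hof (y : FormIdx k r d → R) : MvPolynomial (Fin (r + 1)) R :=
  ∑ l, C (y l) * map (algebraMap k R) (LefGeo.formBasis k r d l).1

/-- the form corrected by the equations -/
def MData.Gof (y : FormIdx k r d → R) (c : Fin (r - n) → R) : MvPolynomial (Fin (r + 1)) R :=
  Hof y - ∑ a, MvPolynomial.C (c a) * map (algebraMap k R) (D.Q a).1

theorem map_Gof (f : R →ₐ[k] S) (y : FormIdx k r d → R) (c : Fin (r - n) → R) :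
    map (f : R →+* S) (D.Gof y c) = D.Gof (fun l => f (y l)) (fun a => f (c a)) := by
  simp only [MData.Gof, Hof, map_sub, map_sum, map_mul, MvPolynomial.map_C, MvPolynomial.map_map, f.comp_algebraMap]
  rfl

theorem eval_map_alg (f : R →ₐ[k] S) (x : Fin (r + 1) → R) (P : MvPolynomial (Fin (r + 1)) k) :
    eval (fun l => f (x l)) (map (algebraMap k S) P) = f (eval x (map (algebraMap k R) P)) := by
  refine Eq.trans ?_ (eval_map_hom (f : R →+* S) x _)
  rw [MvPolynomial.map_map, f.comp_algebraMap]
  rfl

theorem eval_Gof (y : FormIdx k r d → R) (c : Fin (r - n) → R) (x : Fin (r + 1) → R) :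
    eval x (D.Gof y c) = eval x (Hof y) - ∑ a, c a * eval x (map (algebraMap k R) (D.Q a).1) := by
  simp [MData.Gof, map_sum]

theorem eval_pderiv_Gof (y : FormIdx k r d → R) (c : Fin (r - n) → R) (x : Fin (r + 1) → R) (l : Fin (r + 1)) :
    eval x (pderiv l (D.Gof y c)) =
      eval x (pderiv l (Hof y)) - ∑ a, c a * eval x (map (algebraMap k R) (pderiv l (D.Q a).1)) := by
  simp [MData.Gof, map_sum, pderiv_map]

end Ring

theorem Hof_crd (H : LefPen.Form r k d) : Hof (R := k) (crd H) = H.1 := by
  conv_rhs => rw [LefGeo.form_eq_sum H]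
  simp [Hof, crd, smul_eq_C_mul, Algebra.algebraMap_self, MvPolynomial.map_id]

theorem Gof_crd (H : LefPen.Form r k d) (c : Fin (r - n) → k) :
    D.Gof (crd H) c = H.1 - ∑ a, C (c a) * (D.Q a).1 := by
  simp [MData.Gof, Hof_crd, Algebra.algebraMap_self, MvPolynomial.map_id]

theorem psi_Gof (H : LefPen.Form r k d) (c : Fin (r - n) → k) : psi i j (D.Gof (crd H) c) = psi i j H.1 := by
  rw [Gof_crd, map_sub, map_sum, sub_eq_self]
  refine Finset.sum_eq_zero fun a _ => ?_
  obtain ⟨e, -, h⟩ := (D.Q a).2
  rw [map_mul, h j, mul_zero]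

variable [IrreducibleSpace X] [SmoothOfRelativeDimension n (i ≫ CohB1.ProjSpace.toSpec r k)] [IsAlgClosed k]

variable (i) in
include n in
/-- equations with a non-zero minor exist at every point -/
theorem exists_mdata (ev : Γ(X, chartX i j) →ₐ[k] k) :
    ∃ D : MData i n j, eval (pt (psi i j) ev) D.minor ≠ 0 := by
  classical
  set v := pt (psi i j) ev
  have hrank : Module.finrank k (gradSpan i v) + n = r := finrank_gradSpan (n := n) i j ev
  obtain ⟨g, hg, hgspan, hgli⟩ :=
    Submodule.exists_fun_fin_finrank_span_eq k (Set.range fun Q : Eqn i => grad v Q.1)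
  have hc : r - n = Module.finrank k (Submodule.span k (Set.range fun Q : Eqn i => grad v Q.1)) := by
    show r - n = Module.finrank k (gradSpan i v)
    omega
  choose e he using hg
  let Q : Fin (r - n) → Eqn i := fun a => e (Fin.cast hc a)
  have hQ : LinearIndependent k fun a => grad v (Q a).1 := by
    have : (fun a => grad v (Q a).1) = g ∘ Fin.cast hc := funext fun a => he _
    rw [this]
    exact hgli.comp _ (Fin.cast_injective hc)
  let A : Matrix (Fin (r - n)) {l : Fin (r + 1) // l ≠ j} k := Matrix.of fun a l => grad v (Q a).1 l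
  have hA : LinearIndependent k A.row := by
    rw [Fintype.linearIndependent_iff] at hQ ⊢
    intro c hcsum a
    refine hQ c (funext fun l => ?_) a
    set u := ∑ a, c a • grad v (Q a).1 with hu
    have hne : ∀ l, l ≠ j → u l = 0 := fun l hl => by
      simpa [A, Matrix.row, hu, Finset.sum_apply] using congrFun hcsum ⟨l, hl⟩
    have huv : u ⬝ᵥ v = 0 := by
      rw [hu, sum_dotProduct]
      refine Finset.sum_eq_zero fun a _ => ?_
      obtain ⟨m, hm, hm'⟩ := (Q a).2
      rw [smul_dotProduct, grad_euler hm, inCone_pt i j ev _ ⟨m, hm, hm'⟩, mul_zero, smul_zero]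
    rw [dotProduct, Finset.sum_eq_single j (fun l _ hl => by rw [hne l hl, zero_mul]) (by simp), show v j = 1 from pt_self i j ev, mul_one] at huv
    by_cases hl : l = j
    · rw [hl, Pi.zero_apply]; exact huv
    · exact hne l hl
  obtain ⟨e', C', hdet⟩ := LefGeo.exists_det_submatrix_ne_zero A (r := r - n) (by rw [hA.rank_matrix, Fintype.card_fin])
  refine ⟨⟨Q ∘ e', fun b => (C' b).1, fun b => (C' b).2⟩, ?_⟩
  rw [MData.minor, RingHom.map_det]
  exact hdet

include n in
/-- near the point the chosen gradients span -/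
theorem exists_coeff {v : Fin (r + 1) → k} (hv : InCone i v) (hj : v j = 1) (hm : eval v D.minor ≠ 0)
    {u : Fin (r + 1) → k} (hu : u ∈ gradSpan i v) : ∃ c : Fin (r - n) → k, ∀ l, u l = ∑ a, c a * grad v (D.Q a).1 l := by
  obtain ⟨ev, hev⟩ := exists_point (n := n) i hv j hj
  have hrank := finrank_gradSpan (n := n) i j ev
  rw [hev] at hrank
  have hli : LinearIndependent k fun a => grad v (D.Q a).1 := by
    rw [MData.minor, RingHom.map_det] at hm
    exact LinearIndependent.of_comp (LinearMap.funLeft k k D.C) (Matrix.linearIndependent_rows_of_det_ne_zero hm)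
  have hle : Submodule.span k (Set.range fun a => grad v (D.Q a).1) ≤ gradSpan i v :=
    Submodule.span_le.2 (Set.range_subset_iff.2 fun a => Submodule.subset_span ⟨D.Q a, rfl⟩)
  have heq := Submodule.eq_of_le_of_finrank_le hle (by rw [finrank_span_eq_card hli, Fintype.card_fin]; omega)
  obtain ⟨c, hc⟩ := (Submodule.mem_span_range_iff_exists_fun k).1 (heq ▸ hu)
  exact ⟨c, fun l => by rw [← hc]; simp [Finset.sum_apply]⟩

include n in
/-- The adapted equation of a form singular at a point near the given one. -/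
theorem exists_adapted_Gof {H : LefPen.Form r k d} {v : Fin (r + 1) → k} (hbad : BadAt i v H) (hj : v j = 1)
    (hm : eval v D.minor ≠ 0) :
    ∃ c : Fin (r - n) → k, eval v (D.Gof (crd H) c) = 0 ∧ ∀ l, eval v (pderiv l (D.Gof (crd H) c)) = 0 := by
  obtain ⟨c, hc⟩ := exists_coeff (n := n) D hbad.1 hj hm hbad.2.2
  refine ⟨c, ?_, fun l => ?_⟩
  · rw [eval_Gof, Hof_crd, hbad.2.1, zero_sub, neg_eq_zero]
    refine Finset.sum_eq_zero fun a _ => ?_
    simp [hbad.1 _ (D.Q a).2]
  · rw [eval_pderiv_Gof, Hof_crd, sub_eq_zero]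
    simpa [grad] using hc l

end

end Groth.Agent.LefPenLib
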