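import Groth.Agent.LefPenLib.Closed
import Mathlib.RingTheory.Localization.FractionRing

/-!
# The set of forms singular on a variety is irreducible
-/

universe u

open CategoryTheory AlgebraicGeometry Opposite TopologicalSpace

namespace Groth.Agent.LefPenLib

noncomputable section

variable {k : Type u} [Field k]

section PolyFun

variable {V W : Type u} [AddCommGroup V] [Module k V] [AddCommGroup W] [Module k W]

theorem exists_poly_of_isPolyFun {ι : Type*} [Fintype ι] (b : Module.Basis ι k V) {f : V → k}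
    (hf : LefPen.IsPolyFun k f) : ∃ p : MvPolynomial ι k, ∀ v, f v = MvPolynomial.eval (fun l => b.repr v l) p := by
  induction hf using Algebra.adjoin_induction with
  | mem x hx =>
    obtain ⟨l, rfl⟩ := hx
    refine ⟨∑ m, MvPolynomial.C (l (b m)) * MvPolynomial.X m, fun v => ?_⟩
    show l v = _
    conv_lhs => rw [← b.sum_repr v, map_sum]
    simp [mul_comm]
  | algebraMap c => exact ⟨MvPolynomial.C c, fun v => by simp⟩
  | add x y _ _ hx hy =>
    obtain ⟨p, hp⟩ := hx; obtain ⟨q, hq⟩ := hy
    exact ⟨p + q, fun v => by simp [hp, hq]⟩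
  | mul x y _ _ hx hy =>
    obtain ⟨p, hp⟩ := hx; obtain ⟨q, hq⟩ := hy
    exact ⟨p * q, fun v => by simp [hp, hq]⟩

theorem isPolyFun_comp {f : V → k} (hf : LefPen.IsPolyFun k f) (T : W →ₗ[k] V) :
    LefPen.IsPolyFun k (fun w => f (T w)) := by
  induction hf using Algebra.adjoin_induction with
  | mem x hx =>
    obtain ⟨l, rfl⟩ := hx
    exact Algebra.subset_adjoin ⟨l.comp T, rfl⟩
  | algebraMap c => exact Subalgebra.algebraMap_mem _ c
  | add x y _ _ hx hy => exact add_mem hx hy
  | mul x y _ _ hx hy => exact mul_mem hx hy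

/-- two polynomial functions with product zero: one of them is zero -/
theorem polyFun_mul_eq_zero [Infinite k] {ι : Type*} [Fintype ι] (b : Module.Basis ι k V) {f g : V → k}
    (hf : LefPen.IsPolyFun k f) (hg : LefPen.IsPolyFun k g) (h : ∀ v, f v * g v = 0) :
    (∀ v, f v = 0) ∨ ∀ v, g v = 0 := by
  obtain ⟨p, hp⟩ := exists_poly_of_isPolyFun b hf
  obtain ⟨q, hq⟩ := exists_poly_of_isPolyFun b hg
  have hpq : p * q = 0 := MvPolynomial.funext fun x => by
    have := h (b.equivFun.symm x)
    rw [hp, hq] at this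
    have e : (fun l => b.repr (b.equivFun.symm x) l) = x := b.equivFun.apply_symm_apply x
    rw [e] at this
    simpa using this
  rcases mul_eq_zero.1 hpq with h0 | h0
  · exact Or.inl fun v => by rw [hp, h0, map_zero]
  · exact Or.inr fun v => by rw [hq, h0, map_zero]

end PolyFun

section Algebra

/-- An element of a reduced algebra of finite type vanishing at every rational point is zero. -/
theorem eq_zero_of_forall_ev [IsAlgClosed k] {B : Type u} [CommRing B] [Algebra k B] [Algebra.FiniteType k B]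
    [IsReduced B] {z : B} (h : ∀ e : B →ₐ[k] k, e z = 0) : z = 0 := by
  haveI : IsJacobsonRing B := isJacobsonRing_of_finiteType (A := k)
  have hz : z ∈ (⊥ : Ideal B).jacobson := by
    rw [Ideal.jacobson, Submodule.mem_sInf]
    rintro M ⟨-, hM⟩
    haveI := hM
    obtain ⟨e, he⟩ := exists_ev (k := k) M
    rw [← he]
    exact h e
  rwa [IsJacobsonRing.out inferInstance (Ideal.isRadical_bot_iff.2 ‹IsReduced B› : (⊥ : Ideal B).IsRadical),
    Submodule.mem_bot] at hz

variable {A : Type u} [CommRing A] [Algebra k A] {V : Type u} [AddCommGroup V] [Module k V] (L : V →ₗ[k] A)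
  (B : Type u) [CommRing B] [Algebra k B] [Algebra A B] [IsScalarTower k A B]

/-- the point of `A` under a point of `B` -/
abbrev evA (e : B →ₐ[k] k) : A →ₐ[k] k := e.comp (IsScalarTower.toAlgHom k A B)

/-- For a linear system generating the algebra, the elements singular at a point form the image of a projection
depending polynomially on the point. -/
theorem exists_param {N : ℕ} (b : Module.Basis (Fin N) k V) {ι : Type*} [Fintype ι]
    (bas : Module.Basis ι B Ω[B⁄k]) (F : A) [IsLocalization.Away F B] (h1 : ∃ v, L v = 1)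
    (hadj : Algebra.adjoin k (Set.range L) = ⊤) :
    ∃ pr : (B →ₐ[k] k) → (V →ₗ[k] V),
      (∀ e v, L (pr e v) ∈ RingHom.ker (evA B e) ^ 2) ∧
      (∀ e v, L v ∈ RingHom.ker (evA B e) ^ 2 → pr e v = v) ∧
      ∀ f : V → k, LefPen.IsPolyFun k f → ∀ v, ∃ z : B, ∀ e, e z = f (pr e v) := by
  classical
  let x : Fin N → B := fun l => algebraMap A B (L (b l))
  let ω : Fin N → Ω[B⁄k] := fun l => KaehlerDifferential.D k B (x l)
  have hDc : ∀ (c : k) (y : B), KaehlerDifferential.D k B (algebraMap k B c * y) =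
      algebraMap k B c • KaehlerDifferential.D k B y := fun c y => by simp
  have hL : ∀ v, algebraMap A B (L v) = ∑ l, algebraMap k B (b.repr v l) * x l := fun v => by
    conv_lhs => rw [← b.sum_repr v, map_sum, map_sum]
    simp [x, Algebra.smul_def, ← IsScalarTower.algebraMap_apply]
  have hDL : ∀ v, KaehlerDifferential.D k B (algebraMap A B (L v)) = ∑ l, algebraMap k B (b.repr v l) • ω l :=
    fun v => by rw [hL, map_sum]; exact Finset.sum_congr rfl fun l _ => hDc _ _
  -- the differentials of the system span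
  have hspan : Submodule.span B (Set.range ω) = ⊤ := by
    rw [eq_top_iff, ← KaehlerDifferential.span_range_map_derivation_of_isLocalization (R := k) (S := A) (T := B)
      (Submonoid.powers F), Submodule.span_le]
    rintro _ ⟨a, rfl⟩
    rw [Function.comp_apply, KaehlerDifferential.map_D, SetLike.mem_coe]
    induction (hadj ▸ Algebra.mem_top : a ∈ Algebra.adjoin k (Set.range L)) using Algebra.adjoin_induction with
    | mem y hy =>
      obtain ⟨v, rfl⟩ := hy
      rw [hDL]
      exact Submodule.sum_mem _ fun l _ => Submodule.smul_mem _ _ (Submodule.subset_span ⟨l, rfl⟩)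
    | algebraMap c => simp [← IsScalarTower.algebraMap_apply]
    | add y z _ _ hy hz => rw [map_add, map_add]; exact add_mem hy hz
    | mul y z _ _ hy hz =>
      rw [map_mul, Derivation.leibniz]
      exact add_mem (Submodule.smul_mem _ _ hz) (Submodule.smul_mem _ _ hy)
  obtain ⟨v1, hv1⟩ := h1
  let c0 : Fin N → B := fun l => algebraMap k B (b.repr v1 l)
  have hc0 : ∑ l, c0 l * x l = 1 := by rw [← hL, hv1, map_one]
  have hc0' : ∑ l, c0 l • ω l = 0 := by rw [← hDL, hv1, map_one, Derivation.map_one_eq_zero]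
  have hcs : ∀ s, ∃ c : Fin N → B, ∑ l, c l * x l = 0 ∧ ∑ l, c l • ω l = bas s := fun s => by
    obtain ⟨c, hc⟩ := Submodule.mem_span_range_iff_exists_fun B |>.1 (hspan ▸ Submodule.mem_top : bas s ∈ _)
    refine ⟨fun l => c l - (∑ m, c m * x m) * c0 l, ?_, ?_⟩
    · simp [sub_mul, mul_assoc, ← Finset.mul_sum, hc0]
    · simp [sub_smul, mul_smul, ← Finset.smul_sum, hc0', hc]
  choose cs hcs0 hcs1 using hcs
  let w : Fin N → ι → B := fun m s => bas.repr (ω m) s
  let P : Fin N → Fin N → B := fun l m => (if l = m then 1 else 0) - (c0 l * x m + ∑ s, cs s l * w m s)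
  have hPx : ∀ m, ∑ l, P l m * x l = 0 := fun m => by
    have e : ∀ l, P l m * x l = (if l = m then x l else 0) - ((c0 l * x l) * x m + ∑ s, (cs s l * x l) * w m s) :=
      fun l => by
        simp only [P, sub_mul, add_mul, Finset.sum_mul]
        congr 1
        · split_ifs <;> simp
        · congr 1
          · ring
          · exact Finset.sum_congr rfl fun s _ => by ring
    simp only [e, Finset.sum_sub_distrib, Finset.sum_add_distrib, Finset.sum_ite_eq', Finset.mem_univ, if_true,
      ← Finset.sum_mul, hc0, one_mul]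
    rw [Finset.sum_comm]
    simp [← Finset.sum_mul, hcs0]
  have hPw : ∀ m t, ∑ l, P l m * w l t = 0 := fun m t => by
    have e : ∀ l, P l m * w l t = (if l = m then w l t else 0) - ((c0 l * w l t) * x m + ∑ s, (cs s l * w l t) * w m s) :=
      fun l => by
        simp only [P, sub_mul, add_mul, Finset.sum_mul]
        congr 1
        · split_ifs <;> simp
        · congr 1
          · ring
          · exact Finset.sum_congr rfl fun s _ => by ring
    have h0 : ∑ l, c0 l * w l t = 0 := by
      have := congrArg (fun z => bas.repr z t) hc0'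
      simpa [w, map_sum, Finsupp.coe_finsetSum] using this
    have h1 : ∀ s, ∑ l, cs s l * w l t = if s = t then 1 else 0 := fun s => by
      have := congrArg (fun z => bas.repr z t) (hcs1 s)
      simpa [w, map_sum, Finsupp.coe_finsetSum, Finsupp.single_apply] using this
    simp only [e, Finset.sum_sub_distrib, Finset.sum_add_distrib, Finset.sum_ite_eq', Finset.mem_univ, if_true,
      ← Finset.sum_mul, h0, zero_mul, zero_add]
    rw [Finset.sum_comm]
    simp [← Finset.sum_mul, h1]
  -- being singular at a point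
  have hsing : ∀ (e : B →ₐ[k] k) v, L v ∈ RingHom.ker (evA B e) ^ 2 ↔
      ∑ l, b.repr v l * e (x l) = 0 ∧ ∀ s, ∑ l, b.repr v l * e (w l s) = 0 := fun e v => by
    have hval : e (algebraMap A B (L v)) = ∑ l, b.repr v l * e (x l) := by
      rw [hL, map_sum]; simp
    have hrep : ∀ s, e (bas.repr (KaehlerDifferential.D k B (algebraMap A B (L v))) s) =
        ∑ l, b.repr v l * e (w l s) := fun s => by
      rw [hDL]; simp [w, map_sum, Finsupp.coe_finsetSum, -algebraMap_smul]
    constructor
    · intro h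
      have hle : (RingHom.ker (evA B e)).map (algebraMap A B) ≤ RingHom.ker e :=
        Ideal.map_le_iff_le_comap.2 fun a ha => ha
      have hB : algebraMap A B (L v) ∈ RingHom.ker e ^ 2 := by
        refine Ideal.pow_right_mono hle 2 ?_
        rw [← Ideal.map_pow]
        exact Ideal.mem_map_of_mem _ h
      refine ⟨hval ▸ Ideal.pow_le_self two_ne_zero hB, fun s => ?_⟩
      rw [← hrep]
      rw [pow_two] at hB
      refine Submodule.mul_induction_on hB (fun p hp q hq => ?_) (fun p q hp hq => ?_)
      · rw [Derivation.leibniz]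
        simp [RingHom.mem_ker.1 hp, RingHom.mem_ker.1 hq]
      · simp [hp, hq]
    · rintro ⟨h0, h1⟩
      refine mem_sq_of_away (A := A) (evA B e) e (fun a => rfl) F (by exact hval.trans h0)
        (mem_sq_of_D e (hval.trans h0) ?_)
      rw [← bas.sum_repr (KaehlerDifferential.D k B (algebraMap A B (L v)))]
      exact Submodule.sum_mem _ fun s _ =>
        Submodule.smul_mem_smul (RingHom.mem_ker.2 ((hrep s).trans (h1 s))) Submodule.mem_top
  -- the projection
  let pr : (B →ₐ[k] k) → (V →ₗ[k] V) := fun e =>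
    ∑ l, (∑ m, e (P l m) • b.coord m).smulRight (b l)
  have hpr : ∀ e v l, b.repr (pr e v) l = ∑ m, e (P l m) * b.repr v m := fun e v l => by
    have hcalc : pr e v = ∑ l', (∑ m, e (P l' m) * b.repr v m) • b l' := by
      simp [pr, LinearMap.sum_apply]
    rw [hcalc, b.repr_sum_self]
  refine ⟨pr, fun e v => ?_, fun e v h => ?_, fun f hf v => ?_⟩
  · have hz : ∀ (y : Fin N → B), (∀ m, ∑ l, P l m * y l = 0) →
        ∑ l, b.repr (pr e v) l * e (y l) = 0 := fun y hy => by
      simp only [hpr, Finset.sum_mul]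
      rw [Finset.sum_comm]
      refine Finset.sum_eq_zero fun m _ => ?_
      have := congrArg e (hy m)
      simp only [map_sum, map_mul, map_zero] at this
      simp only [mul_right_comm _ (b.repr v m), ← Finset.sum_mul, this, zero_mul]
    exact (hsing e _).2 ⟨hz x hPx, fun s => hz (fun l => w l s) fun m => hPw m s⟩
  · obtain ⟨h0, h1⟩ := (hsing e v).1 h
    refine b.ext_elem fun l => ?_
    rw [hpr]
    simp only [P, map_sub, map_add, map_mul, map_sum, sub_mul, add_mul, Finset.sum_mul, Finset.sum_sub_distrib,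
      Finset.sum_add_distrib]
    have e1 : ∑ m, e (c0 l) * e (x m) * b.repr v m = 0 := by
      simp only [mul_assoc, ← Finset.mul_sum, mul_comm (e (x _)), h0, mul_zero]
    have e2 : ∑ m, ∑ s, e (cs s l) * e (w m s) * b.repr v m = 0 := by
      rw [Finset.sum_comm]
      refine Finset.sum_eq_zero fun s _ => ?_
      simp only [mul_assoc, ← Finset.mul_sum, mul_comm (e (w _ _)), h1 s, mul_zero]
    rw [e1, e2]
    simp [apply_ite e]
  · obtain ⟨p, hp⟩ := exists_poly_of_isPolyFun b hf
    refine ⟨MvPolynomial.aeval (fun l => ∑ m, P l m * algebraMap k B (b.repr v m)) p, fun e => ?_⟩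
    rw [hp, ← MvPolynomial.aeval_eq_eval, ← AlgHom.comp_apply, MvPolynomial.comp_aeval]
    congr 2
    funext l
    simp [hpr]

variable {B}

/-- the linear system vanishes on all singular elements over an open set -/
def Kills (F : A) (f : V → k) : Prop :=
  ∀ (ev : A →ₐ[k] k), ev F ≠ 0 → ∀ v, L v ∈ RingHom.ker ev ^ 2 → f v = 0

variable [IsAlgClosed k] [IsDomain A] [Algebra.FiniteType k A] (n : ℕ) (F : A)
  [Algebra.IsStandardSmoothOfRelativeDimension n k (Localization.Away F)]

theorem exists_evB {ev : A →ₐ[k] k} (hF : ev F ≠ 0) :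
    ∃ e : Localization.Away F →ₐ[k] k, evA (Localization.Away F) e = ev := by
  refine ⟨IsLocalization.liftAlgHom (M := Submonoid.powers F) (f := ev) (fun y => by
    obtain ⟨_, N, rfl⟩ := y
    rw [map_pow]; exact (isUnit_iff_ne_zero.2 hF).pow N), AlgHom.ext fun a => ?_⟩
  exact IsLocalization.lift_eq _ a

variable {L} {N : ℕ} (b : Module.Basis (Fin N) k V) (h1 : ∃ v, L v = 1)
  (hadj : Algebra.adjoin k (Set.range L) = ⊤)

include n b h1 hadj in
theorem kills_or_kills (hF : F ≠ 0) {f g : V → k} (hf : LefPen.IsPolyFun k f) (hg : LefPen.IsPolyFun k g)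
    (hfg : ∀ (ev : A →ₐ[k] k) v, L v ∈ RingHom.ker ev ^ 2 → f v * g v = 0) :
    Kills L F f ∨ Kills L F g := by
  haveI : Algebra.IsStandardSmooth k (Localization.Away F) :=
    Algebra.IsStandardSmoothOfRelativeDimension.isStandardSmooth n
  haveI : IsDomain (Localization.Away F) :=
    IsLocalization.isDomain_localization (powers_le_nonZeroDivisors_of_noZeroDivisors hF)
  obtain ⟨pr, hpr1, hpr2, hpr3⟩ := exists_param L (Localization.Away F) b
    (Module.finBasisOfFinrankEq (Localization.Away F) _ (BertiniAff.finrank_kaehler n)) F h1 hadj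
  choose Φf hΦf using hpr3 f hf
  choose Φg hΦg using hpr3 g hg
  have hzero : ∀ v v', Φf v * Φg v' = 0 := fun v v' => eq_zero_of_forall_ev (k := k) fun e => by
    rw [map_mul, hΦf, hΦg]
    rcases polyFun_mul_eq_zero b (isPolyFun_comp hf (pr e)) (isPolyFun_comp hg (pr e))
      (fun u => hfg _ _ (hpr1 e u)) with h | h
    · rw [h, zero_mul]
    · rw [h, mul_zero]
  by_cases hall : ∀ v, Φf v = 0
  · refine Or.inl fun ev hev v hv => ?_
    obtain ⟨e, rfl⟩ := exists_evB F hev
    rw [← hpr2 e v hv, ← hΦf, hall, map_zero]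
  · push Not at hall
    obtain ⟨v0, hv0⟩ := hall
    refine Or.inr fun ev hev v hv => ?_
    obtain ⟨e, rfl⟩ := exists_evB F hev
    rw [← hpr2 e v hv, ← hΦg, (mul_eq_zero.1 (hzero v0 v)).resolve_left hv0, map_zero]

include n b h1 hadj in
theorem kills_of_dense {u : A} (hu : u ≠ 0) {g : V → k} (hg : LefPen.IsPolyFun k g)
    (hgu : ∀ (ev : A →ₐ[k] k), ev F ≠ 0 → ev u ≠ 0 → ∀ v, L v ∈ RingHom.ker ev ^ 2 → g v = 0) :
    Kills L F g := by
  by_cases hF : F = 0
  · exact fun ev hev => absurd (by rw [hF, map_zero]) hev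
  haveI : Algebra.IsStandardSmooth k (Localization.Away F) :=
    Algebra.IsStandardSmoothOfRelativeDimension.isStandardSmooth n
  have hle := powers_le_nonZeroDivisors_of_noZeroDivisors hF
  haveI : IsDomain (Localization.Away F) := IsLocalization.isDomain_localization hle
  obtain ⟨pr, hpr1, hpr2, hpr3⟩ := exists_param L (Localization.Away F) b
    (Module.finBasisOfFinrankEq (Localization.Away F) _ (BertiniAff.finrank_kaehler n)) F h1 hadj
  choose Φg hΦg using hpr3 g hg
  have hu' : algebraMap A (Localization.Away F) u ≠ 0 :=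
    (IsLocalization.injective (Localization.Away F) hle).ne_iff' (map_zero _) |>.2 hu
  have hzero : ∀ v, Φg v = 0 := fun v => by
    refine (mul_eq_zero.1 (eq_zero_of_forall_ev (k := k) (z := algebraMap A _ u * Φg v) fun e => ?_)).resolve_left hu'
    rw [map_mul, hΦg]
    by_cases hz : e (algebraMap A _ u) = 0
    · rw [hz, zero_mul]
    · have hFe : evA (Localization.Away F) e F ≠ 0 :=
        ((IsLocalization.Away.algebraMap_isUnit (S := Localization.Away F) F).map e).ne_zero
      rw [hgu _ hFe hz _ (hpr1 e v), mul_zero]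
  intro ev hev v hv
  obtain ⟨e, rfl⟩ := exists_evB F hev
  rw [← hpr2 e v hv, ← hΦg, hzero, map_zero]

end Algebra

variable {r n d : ℕ} {X : Scheme.{u}} (i : X ⟶ CohB1.ProjSpace r k) [IsClosedImmersion i]

/-- a form on a chart -/
def secLin (j : Fin (r + 1)) : LefPen.Form r k d →ₗ[k] Γ(X, chartX i j) :=
  (psi i j).toLinearMap.comp (Submodule.subtype _)

theorem secLin_apply (j : Fin (r + 1)) (G : LefPen.Form r k d) : secLin i j G = psi i j G.1 := by
  rw [secLin, LinearMap.comp_apply, AlgHom.toLinearMap_apply, Submodule.subtype_apply]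

theorem secLin_one_adjoin (hd : 1 ≤ d) (j : Fin (r + 1)) :
    (∃ G, secLin (d := d) i j G = 1) ∧ Algebra.adjoin k (Set.range (secLin (d := d) i j)) = ⊤ := by
  let T : Fin (r + 1) → LefPen.Form r k d := fun l => ⟨MvPolynomial.X l * MvPolynomial.X j ^ (d - 1), by
    refine (MvPolynomial.mem_homogeneousSubmodule _ _).2 ?_
    simpa [Nat.add_sub_cancel' hd] using
      (MvPolynomial.isHomogeneous_X k l).mul (MvPolynomial.isHomogeneous_X_pow (R := k) j (d - 1))⟩
  have hT : ∀ l, secLin i j (T l) = psi i j (MvPolynomial.X l) := fun l => by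
    rw [secLin_apply, map_mul, map_pow, psi_X_self, one_pow, mul_one]
  refine ⟨⟨T j, by rw [hT, psi_X_self]⟩, eq_top_iff.2 ?_⟩
  rintro z -
  obtain ⟨P, rfl⟩ := psi_surjective i j z
  induction P using MvPolynomial.induction_on with
  | C c => rw [show psi i j (MvPolynomial.C c) = algebraMap k _ c from (psi i j).commutes c]; exact Subalgebra.algebraMap_mem _ c
  | add p q hp hq => rw [map_add]; exact add_mem hp hq
  | mul_X p l hp => rw [map_mul, ← hT l]; exact mul_mem hp (Algebra.subset_adjoin ⟨_, rfl⟩)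

variable [IrreducibleSpace X] [SmoothOfRelativeDimension n (i ≫ CohB1.ProjSpace.toSpec r k)] [IsAlgClosed k]

include n in
/-- a polynomial function killing the singular forms over one open piece kills all singular forms -/
theorem kills_all (hn : 1 ≤ n) (hd : 1 ≤ d) (j0 : Fin (r + 1)) [Nontrivial Γ(X, chartX i j0)]
    (F0 : Γ(X, chartX i j0)) (hF0' : F0 ≠ 0) {g : LefPen.Form r k d → k} (hg : LefPen.IsPolyFun k g)
    (hg0 : Kills (secLin (d := d) i j0) F0 g) :
    ∀ H : LefPen.Form r k d,
      ¬ LefPen.Transversal k n 1 (LefPen.secToSpec i ({H} : Set (LefPen.Form r k d))) → g H = 0 := by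
  classical
  have dom : ∀ j, (Γ(X, chartX i j) →ₐ[k] k) → Nontrivial Γ(X, chartX i j) :=
    fun j ev => ev.toRingHom.domain_nontrivial
  let b := LefGeo.formBasis k r d
  obtain ⟨P0, hP0⟩ := psi_surjective i j0 F0
  obtain ⟨Q0, ⟨e0, hQ0⟩, hPQ⟩ := exists_homogenize (k := k) j0 P0
  have hQF : psi i j0 Q0 = F0 := by
    obtain ⟨a, ha⟩ := Ideal.mem_span_singleton'.1 hPQ
    rw [show Q0 = P0 - a * (MvPolynomial.X j0 - 1) by rw [ha]; ring, map_sub, map_mul, psi_X_sub_one, mul_zero,
      sub_zero, hP0]
  intro H hH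
  obtain ⟨j, ev, hsing⟩ := (not_transversal_iff i hn H).1 hH
  haveI := dom j ev
  haveI := isDomain_chartX (n := n) i j
  haveI : (RingHom.ker ev).IsPrime := RingHom.ker_isPrime _
  obtain ⟨F, hF, hsm⟩ := exists_standardSmooth (n := n) i j (RingHom.ker ev)
  haveI := hsm
  let u := psi i j (MvPolynomial.X j0) * psi i j Q0
  have hu : u ≠ 0 := mul_ne_zero
    (fun h0 => one_ne_zero ((psi_X_self i j0).symm.trans
      (psi_zero_transfer (n := n) i (MvPolynomial.isHomogeneous_X k j0) j h0 j0)))
    (fun h0 => hF0' (hQF.symm.trans (psi_zero_transfer (n := n) i hQ0 j h0 j0)))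
  refine kills_of_dense n F b (secLin_one_adjoin i hd j).1 (secLin_one_adjoin i hd j).2 hu hg ?_ ev hF H hsing
  intro ev' _ hu' G hG
  have hu'' : MvPolynomial.eval (pt (psi i j) ev') (MvPolynomial.X j0) ≠ 0 ∧
      MvPolynomial.eval (pt (psi i j) ev') Q0 ≠ 0 := by
    simp only [u, map_mul, ev_psi] at hu'
    exact mul_ne_zero_iff.1 hu'
  rw [MvPolynomial.eval_X] at hu''
  set v := pt (psi i j) ev'
  have hbad : BadAt i v G := ⟨inCone_pt i j ev', (mem_sq_iff_grad (n := n) i G j ev').1 hG⟩
  have hbad' := hbad.smul i (inv_ne_zero hu''.1)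
  obtain ⟨ev'', hev''⟩ := exists_point (n := n) i hbad'.1 j0 (inv_mul_cancel₀ hu''.1)
  refine hg0 ev'' ?_ G ((mem_sq_iff_grad (n := n) i G j0 ev'').2 ?_)
  · rw [← hQF, ev_psi, hev'', LefGeo.eval_smul_of_isHomogeneous hQ0]
    exact mul_ne_zero (pow_ne_zero _ (inv_ne_zero hu''.1)) hu''.2
  · rw [hev'']
    exact hbad'.2

/-- The forms singular on `X` form an irreducible set. -/
theorem irreducible_not_transversal (hn : 1 ≤ n) (hd : 1 ≤ d) (f g : LefPen.Form r k d → k)
    (hf : LefPen.IsPolyFun k f) (hg : LefPen.IsPolyFun k g)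
    (h : ∀ H : LefPen.Form r k d,
      ¬ LefPen.Transversal k n 1 (LefPen.secToSpec i ({H} : Set (LefPen.Form r k d))) → f H * g H = 0) :
    (∀ H : LefPen.Form r k d, ¬ LefPen.Transversal k n 1 (LefPen.secToSpec i ({H} : Set (LefPen.Form r k d))) → f H = 0) ∨
    (∀ H : LefPen.Form r k d, ¬ LefPen.Transversal k n 1 (LefPen.secToSpec i ({H} : Set (LefPen.Form r k d))) → g H = 0) := by
  by_cases hall : ∀ H : LefPen.Form r k d,
      ¬ LefPen.Transversal k n 1 (LefPen.secToSpec i ({H} : Set (LefPen.Form r k d))) → f H = 0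
  · exact Or.inl hall
  right
  push Not at hall
  obtain ⟨H0, hH0, hf0⟩ := hall
  have hfg : ∀ (j : Fin (r + 1)) (ev : Γ(X, chartX i j) →ₐ[k] k) H,
      secLin i j H ∈ RingHom.ker ev ^ 2 → f H * g H = 0 :=
    fun j ev H hH => h H ((not_transversal_iff i hn H).2 ⟨j, ev, secLin_apply i j H ▸ hH⟩)
  let b := LefGeo.formBasis k r d
  have dom : ∀ j, (Γ(X, chartX i j) →ₐ[k] k) → Nontrivial Γ(X, chartX i j) :=
    fun j ev => ev.toRingHom.domain_nontrivial
  obtain ⟨j0, ev0, hsing0⟩ := (not_transversal_iff i hn H0).1 hH0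
  haveI := dom j0 ev0
  haveI := isDomain_chartX (n := n) i j0
  haveI : (RingHom.ker ev0).IsPrime := RingHom.ker_isPrime _
  obtain ⟨F0, hF0, hsm0⟩ := exists_standardSmooth (n := n) i j0 (RingHom.ker ev0)
  haveI := hsm0
  have hF0' : F0 ≠ 0 := fun h0 => hF0 (h0 ▸ zero_mem _)
  have hg0 : Kills (secLin (d := d) i j0) F0 g :=
    (kills_or_kills n F0 b (secLin_one_adjoin i hd j0).1 (secLin_one_adjoin i hd j0).2 hF0' hf hg (hfg j0)).resolve_left
      fun hk => hf0 (hk ev0 (fun h0 => hF0 h0) H0 hsing0)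
  exact kills_all i hn hd j0 F0 hF0' hg hg0

end

end Groth.Agent.LefPenLib
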