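import Groth.Agent.LefPenLib.OneOrd

/-!
# Forms with an ordinary singularity at a given point
-/

universe u

open CategoryTheory AlgebraicGeometry Opposite TopologicalSpace Matrix

namespace Groth.Agent.LefPenLib

noncomputable section

variable {k : Type u} [Field k]

/-- an ordinary quadratic form exists in every number of variables -/
theorem exists_quadOrd (N : ℕ) : ∃ a : Fin N → Fin N → k, VanCyc.QuadOrd a := by
  classical
  refine ⟨fun p q => if q = Fin.rev p ∧ p ≤ q then 1 else 0, fun v hq hp => ?_⟩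
  have hpol : ∀ p, (VanCyc.polarMatrix (fun p q : Fin N => if q = Fin.rev p ∧ p ≤ q then (1 : k) else 0)).mulVec v p =
      (if Fin.rev p = p then 2 else 1) * v (Fin.rev p) := fun p => by
    simp only [Matrix.mulVec, dotProduct]
    rw [Finset.sum_eq_single (Fin.rev p)]
    · congr 1
      simp only [VanCyc.polarMatrix]
      rcases lt_trichotomy p (Fin.rev p) with h | h | h
      · simp [h.ne, h.ne', h, h.le]
      · simp [← h]
      · simp [h.ne, h.ne', not_lt.2 h.le, Fin.rev_rev, h.le]
    · intro q _ hq'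
      refine mul_eq_zero_of_left ?_ _
      have h' : p ≠ Fin.rev q := fun h => hq' (by rw [h, Fin.rev_rev])
      simp only [VanCyc.polarMatrix]
      rcases eq_or_ne p q with rfl | hne
      · simp [hq']
      · simp [hne, hq', h']
    · simp
  have hoff : ∀ p, Fin.rev p ≠ p → v p = 0 := fun p h => by
    have := congrFun hp (Fin.rev p)
    rw [hpol, Fin.rev_rev, if_neg (Ne.symm h), one_mul] at this
    exact this
  funext s
  by_cases hs : Fin.rev s = s
  · have hq' : VanCyc.quadEval (fun p q : Fin N => if q = Fin.rev p ∧ p ≤ q then (1 : k) else 0) v = v s * v s := by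
      simp only [VanCyc.quadEval]
      rw [Finset.sum_eq_single s, Finset.sum_eq_single s]
      · simp [hs]
      · intro q _ hq'; simp [hs, hq']
      · simp
      · intro p _ hp'
        refine Finset.sum_eq_zero fun q _ => ?_
        have hne : Fin.rev p ≠ p := fun h => hp' (Fin.ext (by
          have h1 := congrArg Fin.val h; have h2 := congrArg Fin.val hs
          simp only [Fin.val_rev] at h1 h2; omega))
        rw [hoff p hne]; simp
      · simp
    rw [hq', mul_self_eq_zero] at hq
    exact hq
  · exact hoff s hs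

theorem dotProduct_mulVec_sum {R : Type*} [CommRing R] {ι κ : Type*} [Fintype ι] [Fintype κ]
    (p : ι → R) (M : Matrix ι κ R) (q : κ → R) : p ⬝ᵥ M.mulVec q = ∑ a, ∑ b, p a * q b * M a b := by
  simp only [dotProduct, Matrix.mulVec, Finset.mul_sum]
  exact Finset.sum_congr rfl fun a _ => Finset.sum_congr rfl fun b _ => by ring

variable {r n d : ℕ} {X : Scheme.{u}} (i : X ⟶ CohB1.ProjSpace r k) [IsClosedImmersion i]
  [IrreducibleSpace X] [SmoothOfRelativeDimension n (i ≫ CohB1.ProjSpace.toSpec r k)] [IsAlgClosed k]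

include n in
/-- A form of degree `≥ 2` singular at a given point with a given quadratic part. -/
theorem exists_form_ordAt (hd : 2 ≤ d) (j : Fin (r + 1)) (ev : Γ(X, chartX i j) →ₐ[k] k) :
    ∃ H : LefPen.Form r k d, psi i j H.1 ∈ RingHom.ker ev ^ 2 ∧ OrdAt i j ev H := by
  classical
  obtain ⟨⟨P⟩, -⟩ := exists_fpt_chart (n := n) i j ev
  obtain ⟨D, hD⟩ := jac_leftInverse P (psi_surjective i j)
  obtain ⟨tbl, htbl⟩ := exists_quadOrd (k := k) n
  set v := pt (psi i j) ev with hv
  let α : Fin n → Fin (r + 1) → k := fun a l => MvPolynomial.eval v (MvPolynomial.pderiv l (D a))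
  let la : Fin n → MvPolynomial (Fin (r + 1)) k := fun a =>
    ∑ l, MvPolynomial.C (α a l) * (MvPolynomial.X l - MvPolynomial.C (v l) * MvPolynomial.X j)
  let la' : Fin n → MvPolynomial (Fin (r + 1)) k := fun a =>
    ∑ l, MvPolynomial.C (α a l) * (MvPolynomial.X l - MvPolynomial.C (v l))
  let Z : Matrix (Fin n) (Fin n) k := Matrix.of fun a b => if a ≤ b then tbl a b else 0
  let H : MvPolynomial (Fin (r + 1)) k :=
    (∑ a, ∑ b, MvPolynomial.C (Z a b) * (la a * la b)) * MvPolynomial.X j ^ (d - 2)
  have hla : ∀ a, (la a).IsHomogeneous 1 := fun a => MvPolynomial.IsHomogeneous.sum _ _ _ fun l _ =>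
    (((MvPolynomial.isHomogeneous_X k l).sub ((MvPolynomial.isHomogeneous_X k j).C_mul _))).C_mul _
  have hH : H ∈ CohB1.polyGrading r k d := by
    refine (MvPolynomial.mem_homogeneousSubmodule _ _).2 ?_
    have := (MvPolynomial.IsHomogeneous.sum Finset.univ (fun a => ∑ b, MvPolynomial.C (Z a b) * (la a * la b)) 2
      fun a _ => MvPolynomial.IsHomogeneous.sum _ _ _ fun b _ => ((hla a).mul (hla b)).C_mul _).mul
      (MvPolynomial.isHomogeneous_X_pow (R := k) j (d - 2))
    rwa [Nat.add_sub_cancel' hd] at this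
  let P' : MvPolynomial (Fin (r + 1)) k := ∑ a, ∑ b, MvPolynomial.C (Z a b) * (la' a * la' b)
  have hlaeq : ∀ a, psi i j (la a) = psi i j (la' a) := fun a => by
    simp [la, la', map_sum, psi_X_self]
  have hPH : psi i j P' = psi i j H := by
    simp [P', H, map_sum, hlaeq, psi_X_self]
  have hla0 : ∀ a, MvPolynomial.eval v (la' a) = 0 := fun a => by simp [la', map_sum]
  have h0 : MvPolynomial.eval v P' = 0 := by simp [P', map_sum, hla0]
  have h1 : ∀ l, MvPolynomial.eval v (MvPolynomial.pderiv l P') = 0 := fun l => by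
    simp [P', map_sum, hla0, MvPolynomial.pderiv_mul]
  let M₀ : Matrix (Fin (r + 1)) (Fin (r + 1)) k := (Matrix.of α)ᵀ * Z * Matrix.of α
  have hrep : P' = ∑ l, ∑ m, (MvPolynomial.X l - MvPolynomial.C (v l)) * (MvPolynomial.X m - MvPolynomial.C (v m)) * (M₀.map MvPolynomial.C) l m := by
    rw [← dotProduct_mulVec_sum]
    simp only [M₀, Matrix.map_mul, Matrix.transpose_map]
    rw [dot_congr]
    simp only [P', la', Matrix.map_apply, Matrix.mulVec, dotProduct, Matrix.of_apply]
    exact Finset.sum_congr rfl fun a _ => Finset.sum_congr rfl fun b _ => by ring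
  have hαW : ∀ a c, ∑ l, α a l * (jac P (psi i j)).mulVec c l = c a := fun a c => by
    simp only [α, Matrix.mulVec, dotProduct, Finset.mul_sum, ← mul_assoc]
    rw [Finset.sum_comm]
    simp [← Finset.sum_mul, hD]
  have hαW' : ∀ c, Matrix.of α *ᵥ (jac P (psi i j)).mulVec c = c := fun c => funext fun a => hαW a c
  have hM : VanCyc.polarMatrix tbl = Z + Zᵀ := by
    ext a b
    simp only [VanCyc.polarMatrix, Z, Matrix.add_apply, Matrix.transpose_apply, Matrix.of_apply]
    rcases lt_trichotomy a b with h | rfl | h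
    · simp [h.ne, h, h.le, not_le.2 h]
    · simp; ring
    · simp [h.ne', not_lt.2 h.le, h.le, not_le.2 h]
  have hq : ∀ c, q2 v P' ((jac P (psi i j)).mulVec c) = VanCyc.quadEval tbl c := fun c => by
    rw [hrep, q2_rep]
    simp only [Matrix.map_apply, MvPolynomial.eval_C]
    rw [← dotProduct_mulVec_sum, dot_congr, hαW']
    simp only [VanCyc.quadEval, Z, Matrix.of_apply, mul_ite, mul_zero]
    exact Finset.sum_congr rfl fun a _ => Finset.sum_congr rfl fun b _ => by split_ifs <;> ring
  have hp : ∀ c c', polar v P' ((jac P (psi i j)).mulVec c) ((jac P (psi i j)).mulVec c') =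
      c' ⬝ᵥ (VanCyc.polarMatrix tbl).mulVec c := fun c c' => by
    rw [hrep, polar_rep]
    simp only [Matrix.map_apply, MvPolynomial.eval_C, add_mul, Finset.sum_add_distrib]
    rw [← dotProduct_mulVec_sum, ← dotProduct_mulVec_sum, dot_congr, dot_congr, hαW', hαW', hM, Matrix.add_mulVec,
      dotProduct_add, dotProduct_mulVec_sum, dotProduct_mulVec_sum]
    refine congrArg₂ (· + ·) rfl ?_
    rw [Finset.sum_comm]
    simp only [Matrix.transpose_apply]
    exact Finset.sum_congr rfl fun a _ => Finset.sum_congr rfl fun b _ => by ring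
  have hcrit : OrdCrit (tanSpace (psi i j) ev) v P' := by
    intro w hw hw2 hwp
    obtain ⟨c, rfl⟩ := (range_jac P (psi_surjective i j) w).1 hw
    have hc : c = 0 := htbl c ((hq c).symm.trans hw2) (dotProduct_eq_zero _ fun c' => by
      rw [dotProduct_comm, ← hp]
      exact hwp _ ((range_jac P (psi_surjective i j) _).2 ⟨c', rfl⟩))
    rw [hc, mulVec_zero]
  refine ⟨⟨H, hH⟩, ?_, fun P'' hP'' g0 g1 => ?_⟩
  · show psi i j H ∈ _
    rw [← hPH]
    refine (mem_sq_iff ev (psi_surjective i j) P').2 ⟨h0, fun w _ => ?_⟩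
    simp [dAt_apply, ← hv, h1]
  · rw [← ordQuadSeries_iff P (psi_surjective i j) g0 g1, hP'', ← hPH,
      ordQuadSeries_iff P (psi_surjective i j) h0 h1]
    exact hcrit

end

end Groth.Agent.LefPenLib
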