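import Groth.Agent.LefPenLib.GoodData
import Groth.Agent.LefPenLib.OrdExists

/-!
# Being ordinary at a given point is open among the forms singular there
-/

universe u

open CategoryTheory AlgebraicGeometry Opposite TopologicalSpace
open MvPolynomial Matrix

namespace Groth.Agent.LefPenLib

noncomputable section

variable {r n d : ℕ} {k : Type u} [Field k] {X : Scheme.{u}} (i : X ⟶ CohB1.ProjSpace r k) [IsClosedImmersion i]

/-- the forms singular at a vector -/
def singAt (d : ℕ) (v : Fin (r + 1) → k) : Submodule k (LefPen.Form r k d) where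
  carrier := {H | eval v H.1 = 0 ∧ grad v H.1 ∈ gradSpan i v}
  zero_mem' := by
    refine ⟨by simp, ?_⟩
    rw [show grad v (0 : LefPen.Form r k d).1 = 0 from funext fun s => by simp [grad]]
    exact zero_mem _
  add_mem' := by
    rintro F G ⟨h1, h2⟩ ⟨h3, h4⟩
    refine ⟨by simp [h1, h3], ?_⟩
    rw [show grad v (F + G : LefPen.Form r k d).1 = grad v F.1 + grad v G.1 from funext fun s => by simp [grad]]
    exact add_mem h2 h4
  smul_mem' := by
    rintro c G ⟨h1, h2⟩
    refine ⟨by simp [smul_eval, h1], ?_⟩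
    rw [show grad v (c • G : LefPen.Form r k d).1 = c • grad v G.1 from funext fun s => by simp [grad, smul_eval]]
    exact Submodule.smul_mem _ _ h2

theorem q2_add' {σ : Type*} [Fintype σ] (v w : σ → k) (G G' : MvPolynomial σ k) :
    q2 v (G + G') w = q2 v G w + q2 v G' w := by simp [q2]

theorem q2_smul' {σ : Type*} [Fintype σ] (v w : σ → k) (G : MvPolynomial σ k) (c : k) :
    q2 v (c • G) w = c * q2 v G w := by simp [q2]

variable [IrreducibleSpace X] [SmoothOfRelativeDimension n (i ≫ CohB1.ProjSpace.toSpec r k)] [IsAlgClosed k]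

include n in
theorem mem_singAt_iff {j : Fin (r + 1)} (ev : Γ(X, chartX i j) →ₐ[k] k) (H : LefPen.Form r k d) :
    H ∈ singAt i d (pt (psi i j) ev) ↔ psi i j H.1 ∈ RingHom.ker ev ^ 2 :=
  (mem_sq_iff_grad (n := n) i H j ev).symm

include n in
/-- Ordinariness at a point is open among the forms singular there. -/
theorem exists_poly_ordAt {j : Fin (r + 1)} (ev : Γ(X, chartX i j) →ₐ[k] k) {N : ℕ}
    (bL : Module.Basis (Fin N) k (singAt i d (pt (psi i j) ev))) (hd : 2 ≤ d) :
    ∃ p : MvPolynomial (Fin N) k, p ≠ 0 ∧ ∀ H : singAt i d (pt (psi i j) ev),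
      eval (fun l => bL.repr H l) p ≠ 0 → OrdAt i j ev (H : LefPen.Form r k d) := by
  classical
  obtain ⟨D, hm⟩ := exists_mdata i (n := n) ev
  let v := pt (psi i j) ev
  have hv : v = pt (psi i j) ev := rfl
  obtain ⟨⟨F⟩, -⟩ := exists_fpt_chart (n := n) i j ev
  -- the adapted equation depends linearly on the form
  let Mk : Matrix (Fin (r - n)) (Fin (r - n)) k := D.mat.map (eval v)
  have hMk : IsUnit Mk.det := by
    refine isUnit_iff_ne_zero.2 ?_
    rw [MData.minor, RingHom.map_det] at hm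
    exact hm
  let rowL : LefPen.Form r k d →ₗ[k] (Fin (r - n) → k) :=
    LinearMap.pi fun b => (MvPolynomial.aeval (R := k) v).toLinearMap ∘ₗ (pderiv (D.C b)).toLinearMap ∘ₗ
      Submodule.subtype _
  let cL : LefPen.Form r k d →ₗ[k] (Fin (r - n) → k) := (Matrix.vecMulLinear Mk⁻¹).comp rowL
  let Φ : LefPen.Form r k d →ₗ[k] MvPolynomial (Fin (r + 1)) k :=
    Submodule.subtype _ - (Fintype.linearCombination k fun a => (D.Q a).1).comp cL
  have hΦ : ∀ H : LefPen.Form r k d, Φ H = D.Gof (crd H) (cL H) := fun H => by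
    rw [Gof_crd]
    simp [Φ, Fintype.linearCombination_apply, smul_eq_C_mul]
  have hadapt : ∀ H : singAt i d v, psi i j (Φ H) = psi i j (H : LefPen.Form r k d).1 ∧ eval v (Φ H) = 0 ∧
      ∀ l, eval v (pderiv l (Φ H)) = 0 := fun H => by
    have hbad : BadAt i v (H : LefPen.Form r k d) := ⟨inCone_pt i j ev, H.2⟩
    obtain ⟨c, hc, hc1⟩ := exists_adapted_Gof (n := n) D hbad (pt_self i j ev) hm
    have hcc : cL H = c := by
      have hrow : rowL H = c ᵥ* Mk := funext fun b => by
        have := hc1 (D.C b)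
        rw [eval_pderiv_Gof, Hof_crd, sub_eq_zero] at this
        simpa [rowL, Mk, Matrix.vecMul, dotProduct, MData.mat, aeval_eq_eval, Algebra.algebraMap_self,
          MvPolynomial.map_id] using this
      rw [show cL H = rowL H ᵥ* Mk⁻¹ from rfl, hrow, Matrix.vecMul_vecMul, Matrix.mul_nonsing_inv _ hMk, Matrix.vecMul_one]
    rw [hΦ, hcc]
    exact ⟨psi_Gof D _ c, hc, hc1⟩
  -- the homogeneous system in a direction
  let T := tanSpace (psi i j) ev
  let φ : Fin N → MvPolynomial (Fin (r + 1)) k := fun l => Φ (bL l : LefPen.Form r k d)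
  let qP : Fin N → MvPolynomial (Fin (r + 1)) k := fun l =>
    (lineP (fun m => MvPolynomial.C (v m)) MvPolynomial.X (map (algebraMap k _) (φ l))).coeff 2
  let P : Option {Q : MvPolynomial (Fin (r + 1)) k // psi i j Q = 0} ⊕ T → MvPolynomial (Fin N ⊕ Fin (r + 1)) k :=
    Sum.elim (fun o => o.elim (∑ l, MvPolynomial.X (Sum.inl l) * rename Sum.inr (qP l))
      (fun Q => ∑ m, MvPolynomial.C (eval v (pderiv m Q.1)) * MvPolynomial.X (Sum.inr m)))
      (fun u => ∑ l, ∑ m, MvPolynomial.C (∑ s, u.1 s * eval v (pderiv m (pderiv s (φ l)))) *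
        (MvPolynomial.X (Sum.inl l) * MvPolynomial.X (Sum.inr m)))
  have hqP : ∀ {S : Type u} [CommRing S] [Algebra k S] (g : Fin (r + 1) → S) l, aeval g (qP l) =
      (lineP (fun m => algebraMap k S (v m)) g (map (algebraMap k S) (φ l))).coeff 2 := by
    intro S _ _ g l
    show ((aeval g).toRingHom) _ = _
    rw [← Polynomial.coeff_map, lineP_map, MvPolynomial.map_map]
    rw [show ((aeval g).toRingHom.comp (algebraMap k (MvPolynomial (Fin (r + 1)) k))) = algebraMap k S from
      (aeval g).comp_algebraMap]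
    simp
  have hkey : ∀ (H : singAt i d v) (w : Fin (r + 1) → k),
      (∀ a, eval (Sum.elim (fun l => bL.repr H l) w) (P a) = 0) ↔
        w ∈ T ∧ q2 v (Φ H) w = 0 ∧ ∀ u ∈ T, polar v (Φ H) w u = 0 := by
    intro H w
    have hsum : Φ (H : LefPen.Form r k d) = ∑ l, bL.repr H l • φ l := by
      conv_lhs => rw [← bL.sum_repr H, Submodule.coe_sum, map_sum]
      simp [φ]
    have e1 : eval (Sum.elim (fun l => bL.repr H l) w) (P (Sum.inl none)) = q2 v (Φ H) w := by
      let Q2 : MvPolynomial (Fin (r + 1)) k →ₗ[k] k :=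
        { toFun := fun G => q2 v G w, map_add' := q2_add' v w, map_smul' := fun c G => q2_smul' v w G c }
      show _ = Q2 (Φ (H : LefPen.Form r k d))
      rw [hsum, map_sum]
      simp only [P, Sum.elim_inl, Option.elim_none, map_sum, map_mul, eval_X, eval_rename, Function.comp_def,
        Sum.elim_inr, map_smul, smul_eq_mul]
      refine Finset.sum_congr rfl fun l _ => ?_
      rw [← aeval_eq_eval, hqP]
      simp [Q2, q2, lineP, Algebra.algebraMap_self, MvPolynomial.map_id]
    have e2 : ∀ u : T, eval (Sum.elim (fun l => bL.repr H l) w) (P (Sum.inr u)) = polar v (Φ H) w u.1 := fun u => by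
      simp only [P, polar, hsum, Sum.elim_inr, map_sum, map_mul, eval_C, eval_X, Sum.elim_inl, map_smul, smul_eq_mul,
        smul_eval, Finset.mul_sum, Finset.sum_mul]
      conv_rhs => rw [Finset.sum_congr rfl fun _ _ => Finset.sum_comm, Finset.sum_comm]
      refine Finset.sum_congr rfl fun l _ => ?_
      rw [Finset.sum_comm]
      exact Finset.sum_congr rfl fun s _ => Finset.sum_congr rfl fun m _ => by
        rw [Derivation.map_smul, Derivation.map_smul, smul_eval]; ring
    have e3 : ∀ Q, eval (Sum.elim (fun l => bL.repr H l) w) (P (Sum.inl (some Q))) = dAt (psi i j) ev Q.1 w := fun Q => by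
      simp only [P, Sum.elim_inl, Option.elim_some, map_sum, map_mul, eval_C, eval_X, Sum.elim_inr, dAt_apply, ← hv]
    constructor
    · intro h
      exact ⟨(mem_tanSpace _ _ _).2 fun Q hQ => (e3 ⟨Q, hQ⟩).symm.trans (h _), e1.symm.trans (h _),
        fun u hu => (e2 ⟨u, hu⟩).symm.trans (h _)⟩
    · rintro ⟨hT, hq, hp⟩ ((_ | Q) | u)
      · exact e1.trans hq
      · exact (e3 Q).trans ((mem_tanSpace _ _ _).1 hT Q.1 Q.2)
      · exact (e2 u).trans (hp u.1 u.2)
  have hord : ∀ H : singAt i d v, OrdAt i j ev (H : LefPen.Form r k d) ↔ OrdCrit T v (Φ H) := fun H => by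
    obtain ⟨a1, a2, a3⟩ := hadapt H
    refine ⟨fun h => h _ a1 a2 a3, fun h P hP h0 h1 => ?_⟩
    rw [← ordQuadSeries_iff F (psi_surjective i j) h0 h1, hP, ← a1,
      ordQuadSeries_iff F (psi_surjective i j) a2 a3]
    exact h
  obtain ⟨H1, hH1, hH1o⟩ := exists_form_ordAt (n := n) i hd j ev
  let H1' : singAt i d v := ⟨H1, (mem_singAt_iff (n := n) i ev H1).2 hH1⟩
  obtain ⟨p, hp, hp'⟩ := LefGeo.exists_poly_no_nontrivial_zero P
    (fun K _ _ a y z c h => by
      rcases a with (_ | Q) | u
      · simp only [P, Sum.elim_inl, Option.elim_none, map_sum, map_mul, aeval_X, aeval_rename, Function.comp_def,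
          Sum.elim_inr, hqP, coeff_two_lineP_smul, mul_left_comm (y _), ← Finset.mul_sum] at h ⊢
        rw [h, mul_zero]
      · simp only [P, Sum.elim_inl, Option.elim_some, map_sum, map_mul, aeval_C, aeval_X, Sum.elim_inr,
          Pi.smul_apply, smul_eq_mul, mul_left_comm _ c, ← Finset.mul_sum] at h ⊢
        rw [h, mul_zero]
      · simp only [P, Sum.elim_inr, map_sum, map_mul, aeval_C, aeval_X, Sum.elim_inl, Pi.smul_apply, smul_eq_mul,
          mul_left_comm _ c, ← Finset.mul_sum] at h ⊢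
        rw [h, mul_zero])
    (fun l => bL.repr H1' l) (fun w hw => by
      by_contra! hall
      obtain ⟨h1, h2, h3⟩ := (hkey H1' w).1 hall
      exact hw ((hord H1').1 hH1o w h1 h2 h3))
  refine ⟨p, fun h0 => hp (by rw [h0, map_zero]), fun H hH => (hord H).2 fun w h1 h2 h3 => ?_⟩
  by_contra hw
  obtain ⟨a, ha⟩ := hp' _ hH w hw
  exact ha ((hkey H w).2 ⟨h1, h2, h3⟩ a)

end

end Groth.Agent.LefPenLib
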