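import Groth.Agent.LefPenLib.Piece
import Groth.Agent.LefPenLib.OrdOpen
import Groth.Agent.LefPenLib.Hypersurface
import Groth.Agent.LefPenLib.Irred

/-!
# Forms with exactly one ordinary singular point exist
-/

universe u

open CategoryTheory AlgebraicGeometry Opposite TopologicalSpace
open MvPolynomial Matrix

namespace Groth.Agent.LefPenLib

noncomputable section

variable {k : Type u} [Field k]

/-- dual families inside a subspace, vanishing on the kernel of a projection -/
theorem exists_dual_family {M : Type u} [AddCommGroup M] [Module k M] [FiniteDimensional k M]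
    {ι : Type*} [Fintype ι] [DecidableEq ι] (W : Submodule k (ι → k)) (π : (ι → k) →ₗ[k] M) {p : ℕ}
    (hp : p ≤ Module.finrank k (W.map π)) :
    ∃ (u m : Fin p → ι → k), (∀ b, u b ∈ W) ∧ (∀ a b, m a ⬝ᵥ u b = if a = b then 1 else 0) ∧
      ∀ w, π w = 0 → ∀ a, m a ⬝ᵥ w = 0 := by
  obtain ⟨g, hg, -, hgli⟩ := Submodule.exists_fun_fin_finrank_span_eq k (π '' (W : Set (ι → k)))
  have hle : p ≤ Module.finrank k (Submodule.span k (π '' (W : Set (ι → k)))) := by
    rwa [← Submodule.map_span, Submodule.span_eq]
  choose u hu hu' using fun b : Fin p => hg (Fin.castLE hle b)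
  have hli : LinearIndependent k fun b => π (u b) := by
    have : (fun b => π (u b)) = g ∘ Fin.castLE hle := funext fun b => hu' b
    rw [this]
    exact hgli.comp _ (Fin.castLE_injective hle)
  obtain ⟨f, hf⟩ := (Fintype.linearCombination k fun b => π (u b)).exists_leftInverse_of_injective
    (LinearMap.ker_eq_bot.2 (hli.fintypeLinearCombination_injective))
  let m : Fin p → ι → k := fun a => (dotProductEquiv k ι).symm ((LinearMap.proj a).comp (f.comp π))
  have hm : ∀ a w, m a ⬝ᵥ w = f (π w) a := fun a w => by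
    have := LinearMap.congr_fun ((dotProductEquiv k ι).apply_symm_apply ((LinearMap.proj a).comp (f.comp π))) w
    exact this
  refine ⟨u, m, hu, fun a b => ?_, fun w hw a => by rw [hm, hw, map_zero, Pi.zero_apply]⟩
  rw [hm, show π (u b) = Fintype.linearCombination k (fun b => π (u b)) (Pi.single b 1) by simp,
    ← LinearMap.comp_apply, hf, LinearMap.id_apply, Pi.single_apply]

variable {r n d : ℕ} {X : Scheme.{u}} (i : X ⟶ CohB1.ProjSpace r k) [IsClosedImmersion i]

theorem sum_eval_mul (c : k) {N : ℕ} (G : Fin N → LefPen.Form r k d) (e : Fin N → k) (v : Fin (r + 1) → k) :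
    eval v (∑ a, e a • G a : LefPen.Form r k d).1 * c = (∑ a, e a * eval v (G a).1) * c := by
  simp [Submodule.coe_sum, map_sum, smul_eval]

theorem exists_linPoly {P : MvPolynomial (Fin (r + 1)) k} (hP : P.IsHomogeneous 1) : ∃ q, P = linPoly q := by
  refine ⟨fun m => coeff 0 (pderiv m P), ?_⟩
  have h := hP.sum_X_mul_pderiv
  rw [one_smul] at h
  conv_lhs => rw [← h]
  refine Finset.sum_congr rfl fun m _ => ?_
  conv_lhs => rw [totalDegree_eq_zero_iff_eq_C.1 (Nat.le_zero.1 hP.pderiv.totalDegree_le)]
  exact mul_comm _ _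

variable [IrreducibleSpace X] [SmoothOfRelativeDimension n (i ≫ CohB1.ProjSpace.toSpec r k)] [IsAlgClosed k]

include n in
/-- the cone of the tangent space -/
theorem finrank_orth {s : Fin (r + 1)} (ev : Γ(X, chartX i s) →ₐ[k] k) :
    n + 1 ≤ Module.finrank k
      ((gradSpan i (pt (psi i s) ev)).map (dotProductEquiv k (Fin (r + 1))).toLinearMap).dualCoannihilator := by
  have h1 := finrank_gradSpan (n := n) i s ev
  set W' := (gradSpan i (pt (psi i s) ev)).map (dotProductEquiv k (Fin (r + 1))).toLinearMap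
  have h2 := Subspace.finrank_add_finrank_dualCoannihilator_eq W'
  have h3 : Module.finrank k W' = Module.finrank k (gradSpan i (pt (psi i s) ev)) :=
    LinearEquiv.finrank_map_eq (dotProductEquiv k (Fin (r + 1))) _
  rw [Module.finrank_fintype_fun_eq_card, Fintype.card_fin] at h2
  omega

include n in
/-- singularity conditions of rank `p` at a point off the hyperplane `ℓ = 0` -/
theorem exists_rank (hd : 1 ≤ d) (x0 l : Fin (r + 1) → k) {s : Fin (r + 1)} (ev : Γ(X, chartX i s) →ₐ[k] k)
    (hl : l ⬝ᵥ pt (psi i s) ev ≠ 0) {M : Type u} [AddCommGroup M] [Module k M] [FiniteDimensional k M]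
    (π : (Fin (r + 1) → k) →ₗ[k] M) (hmem : ∀ m : Fin (r + 1) → k, (∀ w, π w = 0 → m ⬝ᵥ w = 0) →
      mulPow hd l m ∈ singAt i d x0) {p : ℕ}
    (hp : p ≤ Module.finrank k ((((gradSpan i (pt (psi i s) ev)).map
      (dotProductEquiv k (Fin (r + 1))).toLinearMap).dualCoannihilator).map π)) :
    ∃ G : Fin p → singAt i d x0, ∀ c : Fin p → k,
      BadAt i (pt (psi i s) ev) (∑ a, c a • (G a : LefPen.Form r k d)) → c = 0 := by
  set v := pt (psi i s) ev
  obtain ⟨u, m, hu, hum, hm0⟩ := exists_dual_family _ π hp
  refine ⟨fun a => ⟨mulPow hd l (m a), hmem _ fun w hw => hm0 w hw a⟩, fun c hbad => funext fun b => ?_⟩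
  obtain ⟨-, h0, hgr⟩ := hbad
  have hval : (∑ a, c a * (m a ⬝ᵥ v)) * (l ⬝ᵥ v) ^ (d - 1) = 0 := by
    rw [← h0]
    simp [Submodule.coe_sum, map_sum, smul_eval, eval_mulPow, Finset.sum_mul, mul_assoc]
  have hval' := (mul_eq_zero.1 hval).resolve_right (pow_ne_zero _ hl)
  have horth : ∀ z ∈ gradSpan i v, z ⬝ᵥ u b = 0 := fun z hz => by
    have := Submodule.mem_dualCoannihilator _ |>.1 (hu b) _ ⟨z, hz, rfl⟩
    exact this
  have hz := horth _ hgr
  have hgsum : grad v (∑ a, c a • mulPow hd l (m a) : LefPen.Form r k d).1 =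
      ∑ a, c a • grad v (mulPow hd l (m a)).1 := funext fun t => by
    simp [grad, Submodule.coe_sum, map_sum, smul_eval, Finset.sum_apply]
  rw [hgsum, sum_dotProduct] at hz
  simp only [smul_dotProduct, grad_mulPow, add_dotProduct, smul_eq_mul, hum, mul_add, Finset.sum_add_distrib] at hz
  have h2 : ∑ a, c a * (((d - 1 : ℕ) : k) * ((m a ⬝ᵥ v) * (l ⬝ᵥ v) ^ (d - 1 - 1)) * (l ⬝ᵥ u b)) =
      (∑ a, c a * (m a ⬝ᵥ v)) * (((d - 1 : ℕ) : k) * (l ⬝ᵥ v) ^ (d - 1 - 1) * (l ⬝ᵥ u b)) := by
    rw [Finset.sum_mul]
    exact Finset.sum_congr rfl fun a _ => by ring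
  rw [h2, hval', zero_mul, add_zero] at hz
  simp only [mul_ite, mul_one, mul_zero, Finset.sum_ite_eq', Finset.mem_univ, if_true] at hz
  exact (mul_eq_zero.1 hz).resolve_right (pow_ne_zero _ hl)

include n in
/-- A form with exactly one singular point on `X`, an ordinary one, exists. -/
theorem exists_goodOne (hn : 1 ≤ n) (hd : 2 ≤ d) : ∃ H : LefPen.Form r k d, GoodOne i H := by
  classical
  haveI := isIntegral_X (n := n) i
  obtain ⟨x⟩ : Nonempty X := inferInstance
  obtain ⟨j, hj⟩ := Opens.mem_iSup.1 ((iSup_chartX i).symm ▸ Opens.mem_top x)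
  haveI : Nonempty (chartX i j : X.Opens) := ⟨⟨x, hj⟩⟩
  haveI : Nontrivial Γ(X, chartX i j) := Scheme.component_nontrivial X (chartX i j)
  haveI : Algebra.FiniteType k Γ(X, chartX i j) := Algebra.FiniteType.of_surjective _ (psi_surjective i j)
  obtain ⟨M, hM⟩ := Ideal.exists_maximal Γ(X, chartX i j)
  obtain ⟨ev, -⟩ := exists_ev (k := k) M
  let x0 := pt (psi i j) ev
  have hx0j : x0 j = 1 := pt_self i j ev
  have hd1 : 1 ≤ d := by omega
  obtain ⟨L, hL⟩ : ∃ L, L = singAt i d x0 := ⟨_, rfl⟩
  subst hL
  haveI : FiniteDimensional k (LefPen.Form r k d) := Module.Finite.of_basis (LefGeo.formBasis k r d)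
  haveI : Module.Free k (singAt i d x0) := Module.Free.of_basis (Module.Basis.ofVectorSpace k (singAt i d x0))
  let N := Module.finrank k (singAt i d x0)
  let bL : Module.Basis (Fin N) k (singAt i d x0) := Module.finBasis k _
  let lt : Fin (r + 1) → Fin (r + 1) → k := fun t => Pi.single t 1 - x0 t • Pi.single j 1
  have hlt : ∀ t w, lt t ⬝ᵥ w = w t - x0 t * w j := fun t w => by
    simp [lt, sub_dotProduct, smul_dotProduct]
  have hlt0 : ∀ t, lt t ⬝ᵥ x0 = 0 := fun t => by rw [hlt, hx0j]; ring
  have hgrad0 : ∀ l m : Fin (r + 1) → k, l ⬝ᵥ x0 = 0 → (m ⬝ᵥ x0 = 0 ∨ 3 ≤ d) →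
      mulPow hd1 l m ∈ singAt i d x0 := fun l m hl hm => by
    refine ⟨by rw [eval_mulPow, hl, zero_pow (by omega), mul_zero], ?_⟩
    rw [grad_mulPow, hl, zero_pow (by omega : d - 1 ≠ 0), zero_smul, zero_add]
    rcases hm with hm | hm
    · rw [hm, zero_mul, mul_zero, zero_smul]; exact zero_mem _
    · rw [zero_pow (by omega : d - 1 - 1 ≠ 0), mul_zero, mul_zero, zero_smul]; exact zero_mem _
  obtain ⟨p0, hp0, hord⟩ := exists_poly_ordAt (n := n) i ev bL hd
  -- a polynomial on the linear system forbidding further singular points gives the theorem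
  suffices hmain : ∃ p : MvPolynomial (Fin N) k, p ≠ 0 ∧ ∀ H : singAt i d x0, eval (fun l => bL.repr H l) p ≠ 0 →
      OrdAt i j ev (H : LefPen.Form r k d) → ∀ v : Fin (r + 1) → k, v ≠ 0 → BadAt i v (H : LefPen.Form r k d) →
        ∃ c : k, v = c • x0 by
    obtain ⟨p, hp, hp'⟩ := hmain
    obtain ⟨a, ha⟩ : ∃ a, eval a (p0 * p) ≠ 0 := by
      by_contra! h
      exact mul_ne_zero hp0 hp (MvPolynomial.funext fun a => by rw [h a, map_zero])
    let H := bL.equivFun.symm a
    have hrep : (fun l => bL.repr H l) = a := bL.equivFun.apply_symm_apply a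
    rw [map_mul, mul_ne_zero_iff] at ha
    have ho := hord H (by rw [hrep]; exact ha.1)
    exact ⟨_, j, ev, (mem_singAt_iff (n := n) i ev _).1 H.2, ho, hp' H (by rw [hrep]; exact ha.2) ho⟩
  have hnorm : ∀ {H : LefPen.Form r k d} {v : Fin (r + 1) → k}, v ≠ 0 → BadAt i v H →
      ∃ (s : Fin (r + 1)) (e : Γ(X, chartX i s) →ₐ[k] k) (c : k), c ≠ 0 ∧ pt (psi i s) e = c • v ∧
        BadAt i (pt (psi i s) e) H := fun {H v} hv hbad => by
    obtain ⟨s, hs⟩ := Function.ne_iff.1 hv
    have hbad' := hbad.smul i (inv_ne_zero hs)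
    obtain ⟨e, he⟩ := exists_point (n := n) i hbad'.1 s (inv_mul_cancel₀ hs)
    exact ⟨s, e, _, inv_ne_zero hs, he, he ▸ hbad'⟩
  have hoff : ∀ v : Fin (r + 1) → k, (∀ c : k, v ≠ c • x0) → ∃ t, lt t ⬝ᵥ v ≠ 0 := fun v hv => by
    by_contra! h
    refine hv (v j) (funext fun t => ?_)
    have := h t
    rw [hlt, sub_eq_zero] at this
    rw [this, Pi.smul_apply, smul_eq_mul, mul_comm]
  by_cases hlin : ∀ l ∈ gradSpan i x0, ∀ v, InCone i v → l ⬝ᵥ v = 0
  · by_cases hd3 : 3 ≤ d
    · -- a linear space, degree at least three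
      have hpc : ∀ st : Fin (r + 1) × Fin (r + 1), ∃ p : MvPolynomial (Fin N) k, p ≠ 0 ∧
          ∀ H : singAt i d x0, eval (fun l => bL.repr H l) p ≠ 0 →
          ∀ e : Γ(X, chartX i st.1) →ₐ[k] k, e 0 = 0 → e (psi i st.1 (linPoly (lt st.2))) ≠ 0 →
            ¬ BadAt i (pt (psi i st.1) e) (H : LefPen.Form r k d) := fun ⟨s, t⟩ =>
        exists_poly_piece (n := n) i (singAt i d x0) bL s 0 (psi i s (linPoly (lt t))) n (dim_chart_le (n := n) i s)
          fun e _ he => by
            rw [ev_psi, eval_linPoly] at he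
            refine exists_rank (n := n) i hd1 x0 (lt t) e he LinearMap.id
              (fun m _ => hgrad0 _ _ (hlt0 t) (Or.inr hd3)) ?_
            rw [Submodule.map_id]
            exact finrank_orth (n := n) i e
      choose p hp hp' using hpc
      refine ⟨∏ st, p st, Finset.prod_ne_zero_iff.2 fun st _ => hp st, fun H hH _ v hv hbad => ?_⟩
      rw [map_prod, Finset.prod_ne_zero_iff] at hH
      by_contra! hne
      obtain ⟨t, ht⟩ := hoff v hne
      obtain ⟨s, e, c, hc, he, hbad'⟩ := hnorm hv hbad
      refine hp' (s, t) H (hH _ (Finset.mem_univ _)) e (map_zero e) ?_ hbad'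
      rw [ev_psi, eval_linPoly, he, dotProduct_smul, smul_eq_mul]
      exact mul_ne_zero hc ht
    · -- a linear space, quadrics
      obtain rfl : d = 2 := by omega
      refine ⟨1, one_ne_zero, fun H _ ho v hv hbad => ?_⟩
      obtain ⟨D, hm⟩ := exists_mdata i (n := n) ev
      -- every equation-gradient at the point is an equation
      have hWeq : ∀ l ∈ gradSpan i x0, IsEq i (linPoly l) := fun l hl => ⟨1, isHomogeneous_linPoly l, fun s => by
        haveI : Algebra.FiniteType k Γ(X, chartX i s) := Algebra.FiniteType.of_surjective _ (psi_surjective i s)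
        cases subsingleton_or_nontrivial Γ(X, chartX i s) with
        | inl h => exact Subsingleton.elim _ _
        | inr h =>
          haveI := isDomain_chartX (n := n) i s
          exact eq_zero_of_forall_ev (k := k) fun e => by
            rw [ev_psi, eval_linPoly]
            exact hlin l hl _ (inCone_pt i s e)⟩
      have hspan : gradSpan i v ≤ gradSpan i x0 := by
        obtain ⟨s, e, c, hc, he, -⟩ := hnorm hv hbad
        have h1 := finrank_gradSpan (n := n) i s e
        have h2 : Module.finrank k (gradSpan i x0) + n = r := finrank_gradSpan (n := n) i j ev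
        have hle : gradSpan i x0 ≤ gradSpan i v := fun l hl => by
          rw [← grad_linPoly l v]
          exact Submodule.subset_span ⟨⟨_, hWeq l hl⟩, rfl⟩
        have hle' : gradSpan i x0 ≤ gradSpan i (pt (psi i s) e) := fun l hl => by
          rw [← grad_linPoly l (pt (psi i s) e)]
          exact Submodule.subset_span ⟨⟨_, hWeq l hl⟩, rfl⟩
        have heq := Submodule.eq_of_le_of_finrank_le hle' (by omega)
        intro z hz
        rw [heq]
        refine Submodule.span_le.2 ?_ hz
        rintro _ ⟨Q, rfl⟩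
        obtain ⟨m, hm', -⟩ := id Q.2
        rw [he, SetLike.mem_coe]
        have : grad v Q.1 = (c ^ (m - 1))⁻¹ • grad (c • v) Q.1 := by
          rw [grad_smul hm', smul_smul, inv_mul_cancel₀ (pow_ne_zero _ hc), one_smul]
        rw [show (fun Q : Eqn i => grad v Q.1) Q = grad v Q.1 from rfl, this]
        exact Submodule.smul_mem _ _ (Submodule.subset_span ⟨Q, rfl⟩)
      set G := (H : LefPen.Form r k 2).1
      have hG : G.IsHomogeneous 2 := (mem_homogeneousSubmodule 2 _).1 (H : LefPen.Form r k 2).2
      obtain ⟨c, hc⟩ := exists_coeff (n := n) D (inCone_pt i j ev) hx0j hm H.2.2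
      -- the linear equation correcting the gradient
      set lam : Fin (r + 1) → k := grad x0 G
      have hlam : lam ∈ gradSpan i x0 := H.2.2
      let P : MvPolynomial (Fin (r + 1)) k := G - linPoly lam * MvPolynomial.X j
      have hPx : psi i j P = psi i j G := by
        obtain ⟨-, -, h⟩ := hWeq lam hlam
        rw [map_sub, map_mul, h j, zero_mul, sub_zero]
      have hgP : ∀ (w : Fin (r + 1) → k) l, eval w (pderiv l P) =
          grad w G l - (lam l * w j + (lam ⬝ᵥ w) * if j = l then 1 else 0) := fun w l => by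
        rw [map_sub, map_sub, pderiv_mul, map_add, map_mul, map_mul, eval_X, eval_linPoly, pderiv_X, Pi.single_apply,
          show eval w (pderiv l (linPoly lam)) = lam l from congrFun (grad_linPoly lam w) l, apply_ite (eval w), map_one,
          map_zero]
        simp [grad, eq_comm]
      have hlx : lam ⬝ᵥ x0 = 0 := hlin lam hlam x0 (inCone_pt i j ev)
      have hP0 : eval x0 P = 0 := by
        rw [map_sub, map_mul, eval_linPoly, hlx, zero_mul, sub_zero]
        exact H.2.1
      have hP1 : ∀ l, eval x0 (pderiv l P) = 0 := fun l => by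
        rw [hgP, hx0j, hlx]; simp [lam]
      have hcrit := ho P hPx hP0 hP1
      set w : Fin (r + 1) → k := v - v j • x0
      have hwj : w j = 0 := by simp [w, hx0j]
      have hwW : ∀ l ∈ gradSpan i x0, l ⬝ᵥ w = 0 := fun l hl => by
        simp [w, dotProduct_sub, dotProduct_smul, hlin l hl v hbad.1, hlin l hl x0 (inCone_pt i j ev)]
      have hgadd : ∀ a b : Fin (r + 1) → k, ∀ c : k, grad (a - c • b) G = grad a G - c • grad b G := by
        intro a b c
        funext l
        obtain ⟨q, hq⟩ := exists_linPoly (hG.pderiv (i := l))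
        simp only [grad, Pi.sub_apply, Pi.smul_apply, hq, eval_linPoly, dotProduct_sub, dotProduct_smul]
      have hwG : grad w G ∈ gradSpan i x0 := by
        rw [hgadd]
        exact sub_mem (hspan hbad.2.2) (Submodule.smul_mem _ _ hlam)
      have hGw : eval w G = 0 := by
        obtain ⟨z, hz⟩ := exists_eval_line x0 w G 1
        have hval : eval v G = eval x0 G * (v j) ^ 2 + v j * (∑ l, w l * eval x0 (pderiv l G)) + eval w G := by
          have hexp : ∀ (Q : MvPolynomial (Fin (r + 1)) k), Q.IsHomogeneous 2 → ∀ a : k,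
              eval (fun l => a * x0 l + w l) Q = eval x0 Q * a ^ 2 + a * (∑ l, w l * eval x0 (pderiv l Q)) + eval w Q := by
            intro Q hQ a
            have h2 : (lineP x0 w Q).natDegree ≤ 2 ∧ (lineP x0 w Q).coeff 2 = eval w Q := by
              have := coeff_aeval_lin x0 w hQ
              rwa [aeval_eq_eval] at this
            rcases eq_or_ne a 0 with rfl | ha
            · simp
            have hpe := (lineP x0 w Q).eval_eq_sum_range' (n := 3) (by omega) a⁻¹
            rw [eval_lineP, Finset.sum_range_succ, Finset.sum_range_succ, Finset.sum_range_one, coeff_lineP_one,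
              coeff_lineP_zero, h2.2] at hpe
            rw [show (fun l => a * x0 l + w l) = a • fun l => x0 l + w l * a⁻¹ from funext fun l => by
              simp only [Pi.smul_apply, smul_eq_mul]; field_simp, LefGeo.eval_smul_of_isHomogeneous hQ, hpe]
            field_simp
          rw [← hexp G hG (v j)]
          congr 2
          funext l
          simp [w]
        have hsum : ∑ l, w l * eval x0 (pderiv l G) = lam ⬝ᵥ w := Finset.sum_congr rfl fun l _ => mul_comm _ _
        rw [hsum, hwW lam hlam, hbad.2.1, show eval x0 G = 0 from H.2.1] at hval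
        simpa using hval.symm
      have hwT : w ∈ tanSpace (psi i j) ev :=
        (tanSpace_mem (n := n) i j ev w).2 ⟨hwj, fun Q hQ => hwW _ (Submodule.subset_span ⟨⟨Q, hQ⟩, rfl⟩)⟩
      have hq2 : q2 x0 P w = 0 := by
        show (lineP x0 w P).coeff 2 = 0
        have hP2 : P.IsHomogeneous 2 := hG.sub ((isHomogeneous_linPoly lam).mul (isHomogeneous_X k j))
        have := (coeff_aeval_lin x0 w hP2).2
        rw [show lineP x0 w P = aeval (fun l => Polynomial.C (x0 l) + Polynomial.C (w l) * Polynomial.X) P from rfl,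
          this, aeval_eq_eval]
        simp [P, hGw, eval_linPoly, hwW lam hlam]
      have hpol : ∀ u ∈ tanSpace (psi i j) ev, polar x0 P w u = 0 := fun u hu => by
        obtain ⟨huj, huQ⟩ := (tanSpace_mem (n := n) i j ev u).1 hu
        have hlu : ∀ l ∈ gradSpan i x0, l ⬝ᵥ u = 0 := fun l hl => by
          have := huQ _ (hWeq l hl)
          rwa [grad_linPoly] at this
        have hP2 : P.IsHomogeneous 2 := hG.sub ((isHomogeneous_linPoly lam).mul (isHomogeneous_X k j))
        have hinner : ∀ l, ∑ m, w m * eval x0 (pderiv m (pderiv l P)) = eval w (pderiv l P) := fun l => by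
          have h1 : (pderiv l P).IsHomogeneous 1 := hP2.pderiv
          have := congrArg (eval w) h1.sum_X_mul_pderiv
          simp only [map_sum, map_mul, eval_X, one_smul] at this
          rw [← this]
          refine Finset.sum_congr rfl fun m _ => ?_
          obtain ⟨z, hz⟩ : ∃ z, pderiv m (pderiv l P) = C z := by
            refine ⟨coeff 0 (pderiv m (pderiv l P)), ?_⟩
            exact (totalDegree_eq_zero_iff_eq_C.1 (Nat.le_zero.1 h1.pderiv.totalDegree_le))
          rw [hz]; simp
        simp only [polar, hinner, hgP, hwj, hwW lam hlam, mul_zero, zero_mul, add_zero, sub_zero]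
        rw [← hlu _ hwG]
        exact Finset.sum_congr rfl fun l _ => mul_comm _ _
      exact ⟨v j, sub_eq_zero.1 (hcrit w hwT hq2 hpol)⟩
  · -- not a linear space
    push Not at hlin
    obtain ⟨l0, hl0, v0, hv0, hlv0⟩ := hlin
    have hl00 : l0 ⬝ᵥ x0 = 0 := by
      refine Submodule.span_induction (p := fun z _ => z ⬝ᵥ x0 = 0) ?_ (zero_dotProduct _)
        (fun a b _ _ ha hb => by rw [add_dotProduct, ha, hb, add_zero])
        (fun a z _ hz => by rw [smul_dotProduct, hz, smul_zero]) hl0
      rintro _ ⟨Q, rfl⟩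
      obtain ⟨e, he, hQ⟩ := Q.2
      rw [grad_euler he, inCone_pt i j ev _ ⟨e, he, hQ⟩, mul_zero]
    have hgradl0 : ∀ m, mulPow hd1 l0 m ∈ singAt i d x0 := fun m => by
      refine ⟨by rw [eval_mulPow, hl00, zero_pow (by omega), mul_zero], ?_⟩
      rw [grad_mulPow, hl00, zero_pow (by omega : d - 1 ≠ 0), zero_smul, zero_add]
      exact Submodule.smul_mem _ _ hl0
    have hpA : ∀ s, ∃ p : MvPolynomial (Fin N) k, p ≠ 0 ∧
        ∀ H : singAt i d x0, eval (fun l => bL.repr H l) p ≠ 0 →
        ∀ e : Γ(X, chartX i s) →ₐ[k] k, e 0 = 0 → e (psi i s (linPoly l0)) ≠ 0 →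
          ¬ BadAt i (pt (psi i s) e) (H : LefPen.Form r k d) := fun s =>
      exists_poly_piece (n := n) i (singAt i d x0) bL s 0 (psi i s (linPoly l0)) n (dim_chart_le (n := n) i s) fun e _ he => by
        rw [ev_psi, eval_linPoly] at he
        refine exists_rank (n := n) i hd1 x0 l0 e he LinearMap.id (fun m _ => hgradl0 m) ?_
        rw [Submodule.map_id]
        exact finrank_orth (n := n) i e
    have hpB : ∀ st : Fin (r + 1) × Fin (r + 1), ∃ p : MvPolynomial (Fin N) k, p ≠ 0 ∧
        ∀ H : singAt i d x0, eval (fun l => bL.repr H l) p ≠ 0 →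
        ∀ e : Γ(X, chartX i st.1) →ₐ[k] k, e (psi i st.1 (linPoly l0)) = 0 →
          e (psi i st.1 (linPoly (lt st.2))) ≠ 0 →
          ¬ BadAt i (pt (psi i st.1) e) (H : LefPen.Form r k d) := fun ⟨s, t⟩ =>
      exists_poly_piece (n := n) i (singAt i d x0) bL s (psi i s (linPoly l0)) (psi i s (linPoly (lt t))) (n - 1)
        (dim_chart_cut_le (n := n) i hn s fun hs h0 => hlv0 (by
          haveI := hs
          rw [← eval_linPoly]
          exact hv0 _ ⟨1, isHomogeneous_linPoly l0, fun l => psi_zero_transfer (n := n) i (isHomogeneous_linPoly l0) s h0 l⟩))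
        fun e _ he => by
          rw [ev_psi, eval_linPoly] at he
          refine exists_rank (n := n) i hd1 x0 (lt t) e he (Submodule.span k {x0}).mkQ
            (fun m hm => hgrad0 _ _ (hlt0 t) (Or.inl (hm x0 (by simp [Submodule.Quotient.mk_eq_zero,
              Submodule.mem_span_singleton_self])))) ?_
          set W := ((gradSpan i (pt (psi i s) e)).map (dotProductEquiv k (Fin (r + 1))).toLinearMap).dualCoannihilator
          have hW : n + 1 ≤ Module.finrank k W := finrank_orth (n := n) i e
          have h1 := LinearMap.finrank_range_add_finrank_ker ((Submodule.span k {x0}).mkQ.domRestrict W)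
          have h2 : Module.finrank k (LinearMap.ker ((Submodule.span k {x0}).mkQ.domRestrict W)) ≤ 1 := by
            refine le_trans ?_ (finrank_span_singleton (K := k) (v := x0) (fun h => by simp [h] at hx0j)).le
            let f : LinearMap.ker ((Submodule.span k {x0}).mkQ.domRestrict W) →ₗ[k] Submodule.span k {x0} :=
              LinearMap.codRestrict _ ((W.subtype).comp (Submodule.subtype _)) fun z => by
                have := z.2
                rw [LinearMap.mem_ker, LinearMap.domRestrict_apply, Submodule.mkQ_apply,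
                  Submodule.Quotient.mk_eq_zero] at this
                exact this
            refine LinearMap.finrank_le_finrank_of_injective (f := f) fun a b hab => ?_
            refine Subtype.ext (Subtype.ext ?_)
            exact congrArg (fun z : Submodule.span k {x0} => (z : Fin (r + 1) → k)) hab
          have h3 : LinearMap.range ((Submodule.span k {x0}).mkQ.domRestrict W) = W.map (Submodule.span k {x0}).mkQ := by
            rw [LinearMap.range_domRestrict]
          rw [h3] at h1
          omega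
    choose pA hA hA' using hpA
    choose pB hB hB' using hpB
    refine ⟨(∏ s, pA s) * ∏ st, pB st, mul_ne_zero (Finset.prod_ne_zero_iff.2 fun s _ => hA s)
      (Finset.prod_ne_zero_iff.2 fun st _ => hB st), fun H hH _ v hv hbad => ?_⟩
    simp only [map_mul, map_prod, mul_ne_zero_iff, Finset.prod_ne_zero_iff] at hH
    by_contra! hne
    obtain ⟨t, ht⟩ := hoff v hne
    obtain ⟨s, e, c, hc, he, hbad'⟩ := hnorm hv hbad
    by_cases h0 : e (psi i s (linPoly l0)) = 0
    · refine hB' (s, t) H (hH.2 _ (Finset.mem_univ _)) e h0 ?_ hbad'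
      rw [ev_psi, eval_linPoly, he, dotProduct_smul, smul_eq_mul]
      exact mul_ne_zero hc ht
    · exact hA' s H (hH.1 _ (Finset.mem_univ _)) e (map_zero e) h0 hbad'

end

end Groth.Agent.LefPenLib
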