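import Groth.Agent.LefPenLib.GoodOpen

/-!
# The open set of forms with one ordinary singularity
-/

universe u

open CategoryTheory AlgebraicGeometry Opposite TopologicalSpace
open MvPolynomial Matrix

namespace Groth.Agent.LefPenLib

noncomputable section

variable {r n d : ℕ} {k : Type u} [Field k] {X : Scheme.{u}} {i : X ⟶ CohB1.ProjSpace r k} [IsClosedImmersion i]
  [IrreducibleSpace X] [SmoothOfRelativeDimension n (i ≫ CohB1.ProjSpace.toSpec r k)] [IsAlgClosed k]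
  {j : Fin (r + 1)}

include n in
/-- the orthogonal of the tangent space -/
theorem exists_coeff_of_orth (D : MData i n j) (ev : Γ(X, chartX i j) →ₐ[k] k)
    (hm : eval (pt (psi i j) ev) D.minor ≠ 0) (h : Fin (r + 1) → k)
    (horth : ∀ u ∈ tanSpace (psi i j) ev, ∑ l, u l * h l = 0) :
    ∃ e : Fin (r - n) → k, ∀ l, l ≠ j → h l = ∑ a, e a * eval (pt (psi i j) ev) (pderiv l (D.Q a).1) := by
  classical
  set v := pt (psi i j) ev with hv
  let ι := (dotProductEquiv k (Fin (r + 1))).toLinearMap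
  let W := gradSpan i v ⊔ Submodule.span k {Pi.single j (1 : k)}
  have hh : ι h ∈ W.map ι := by
    rw [← Subspace.dualCoannihilator_dualAnnihilator_eq (W := W.map ι), Submodule.mem_dualAnnihilator]
    intro u hu
    rw [Submodule.mem_dualCoannihilator] at hu
    refine Eq.trans ?_ (horth u ((tanSpace_mem (n := n) i j ev u).2 ⟨?_, fun Q hQ => ?_⟩))
    · show h ⬝ᵥ u = _
      exact Finset.sum_congr rfl fun l _ => mul_comm _ _
    · have := hu _ ⟨_, Submodule.mem_sup_right (Submodule.mem_span_singleton_self _), rfl⟩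
      simpa [ι] using this
    · exact hu _ ⟨_, Submodule.mem_sup_left (Submodule.subset_span ⟨⟨Q, hQ⟩, rfl⟩), rfl⟩
  obtain ⟨h', hh', he⟩ := hh
  obtain rfl := (dotProductEquiv k (Fin (r + 1))).injective he
  obtain ⟨g, hg, q, hq, rfl⟩ := Submodule.mem_sup.1 hh'
  obtain ⟨a, rfl⟩ := Submodule.mem_span_singleton.1 hq
  obtain ⟨c, hc⟩ := exists_coeff (n := n) D (inCone_pt i j ev) (pt_self i j ev) hm hg
  exact ⟨c, fun l hl => by simpa [hl, grad, Pi.single_apply, hv] using hc l⟩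

variable (i) in
include n in
/-- Having exactly one ordinary singularity is open in the dual variety. -/
theorem exists_polyFun_goodOne (hn : 1 ≤ n) (H₀ : LefPen.Form r k d) (hH₀ : GoodOne i H₀) :
    ∃ f : LefPen.Form r k d → k, LefPen.IsPolyFun k f ∧ f H₀ ≠ 0 ∧ ∀ H : LefPen.Form r k d,
      ¬ LefPen.Transversal k n 1 (LefPen.secToSpec i ({H} : Set (LefPen.Form r k d))) → f H ≠ 0 → GoodOne i H := by
  obtain ⟨j, ev, hmem, hord, huniq⟩ := hH₀
  obtain ⟨D, hm⟩ := exists_mdata i (n := n) ev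
  set x0 := pt (psi i j) ev with hx0
  have hbad0 : BadAt i x0 H₀ := ⟨inCone_pt i j ev, (mem_sq_iff_grad (n := n) i H₀ j ev).1 hmem⟩
  obtain ⟨c0, hc00, hc0⟩ := exists_adapted_Gof (n := n) D hbad0 (pt_self i j ev) hm
  have hg : GoodAt D ev H₀ c0 := ⟨huniq, hm, hc0, hord _ (psi_Gof D H₀ c0) hc00 hc0⟩
  obtain ⟨em, hem⟩ := D.isHomogeneous_minor
  have hE : (MvPolynomial.X j * D.minor).IsHomogeneous (1 + em) := (isHomogeneous_X k j).mul hem
  obtain ⟨p1, hp1, hp1'⟩ := exists_poly_bad_ne (n := n) i hE H₀ fun v hv hbad => by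
    obtain ⟨c, rfl⟩ := huniq v hv hbad
    have hc : c ≠ 0 := fun h0 => hv (by rw [h0, zero_smul])
    rw [map_mul, eval_X, LefGeo.eval_smul_of_isHomogeneous hem, Pi.smul_apply, hx0, pt_self, smul_eq_mul, mul_one]
    exact mul_ne_zero hc (mul_ne_zero (pow_ne_zero _ hc) hm)
  obtain ⟨p2, hp2, hp2'⟩ := exists_poly_le_one_bad D ev H₀ hg
  obtain ⟨p3, hp3, hp3'⟩ := exists_poly_ordinary D ev H₀ hg
  refine ⟨fun H => eval (crd H) (p1 * p2 * p3), LefGeo.isPolyFun_eval (fun l => (LefGeo.formBasis k r d).coord l) _, ?_,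
    fun H hT hH => ?_⟩
  · simp [map_mul, hp1, hp2, hp3]
  obtain ⟨v₀, hv₀, hbad₀⟩ := (not_transversal_iff_badAt i hn H).1 hT
  simp only [map_mul, mul_ne_zero_iff] at hH
  have hnorm : ∀ v : Fin (r + 1) → k, v ≠ 0 → BadAt i v H →
      v j ≠ 0 ∧ BadAt i ((v j)⁻¹ • v) H ∧ ((v j)⁻¹ • v) j = 1 ∧ eval ((v j)⁻¹ • v) D.minor ≠ 0 := fun v hv hbad => by
    have := hp1' H hH.1.1 v hv hbad
    rw [map_mul, eval_X, mul_ne_zero_iff] at this
    refine ⟨this.1, hbad.smul i (inv_ne_zero this.1), inv_mul_cancel₀ this.1, ?_⟩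
    rw [LefGeo.eval_smul_of_isHomogeneous hem]
    exact mul_ne_zero (pow_ne_zero _ (inv_ne_zero this.1)) this.2
  obtain ⟨-, hbad, hvj, hvm⟩ := hnorm v₀ hv₀ hbad₀
  generalize hv : (v₀ j)⁻¹ • v₀ = v at hbad hvj hvm
  obtain ⟨ev', hev'⟩ := exists_point (n := n) i hbad.1 j hvj
  refine ⟨j, ev', (mem_sq_iff_grad (n := n) i H j ev').2 (by rw [hev']; exact hbad.2), fun P hP h0 h1 => ?_,
    fun v' hv' hbad' => ?_⟩
  · obtain ⟨c, hc, hc1⟩ := exists_adapted_Gof (n := n) D hbad hvj hvm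
    obtain ⟨⟨F⟩, -⟩ := exists_fpt_chart (n := n) i j ev'
    rw [← ordQuadSeries_iff F (psi_surjective i j) h0 h1, hP, ← psi_Gof D H c,
      ordQuadSeries_iff F (psi_surjective i j) (by rw [hev']; exact hc) (by rw [hev']; exact hc1)]
    intro w hw hq hp
    obtain ⟨hwj, hwQ⟩ := (tanSpace_mem (n := n) i j ev' w).1 hw
    obtain ⟨e, he⟩ := exists_coeff_of_orth (n := n) D ev' (by rw [hev']; exact hvm) _ (fun u hu => hp u hu)
    rw [hev'] at hq he hwQ
    exact hp3' H hH.2 v w c e hbad hvj hc hc1 hwj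
      (fun Q hQ => by rw [← hwQ Q hQ]; exact Finset.sum_congr rfl fun l _ => mul_comm _ _) hq he
  · obtain ⟨hj', hb', hv'j, hv'm⟩ := hnorm v' hv' hbad'
    refine ⟨v' j, ?_⟩
    rw [hev', hp2' H hH.1.2 v _ hbad hb' hvj hv'j hvm hv'm, smul_smul, mul_inv_cancel₀ hj', one_smul]

end

end Groth.Agent.LefPenLib
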