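import Groth.Agent.LefPenLib.GoodData

/-!
# Limits of singular points
-/

universe u

open CategoryTheory AlgebraicGeometry Opposite TopologicalSpace
open MvPolynomial Matrix

namespace Groth.Agent.LefPenLib

noncomputable section

variable {r n d : ℕ} {k : Type u} [Field k] {X : Scheme.{u}} {i : X ⟶ CohB1.ProjSpace r k} [IsClosedImmersion i]
  [IrreducibleSpace X] [SmoothOfRelativeDimension n (i ≫ CohB1.ProjSpace.toSpec r k)] [IsAlgClosed k]
  {j : Fin (r + 1)} (ev : Γ(X, chartX i j) →ₐ[k] k) (D : MData i n j) (H : LefPen.Form r k d)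

section Residue

variable {κ : Type u} [Field κ] [Algebra k κ]

include n in
/-- the only zero of the singularity system over an extension -/
theorem unique_zero (huniq : ∀ v : Fin (r + 1) → k, v ≠ 0 → BadAt i v H → ∃ c : k, v = c • pt (psi i j) ev)
    (z : Fin (r + 1) → κ) (hz : ∀ a, aeval (Sum.elim (fun l => algebraMap k κ (crd H l)) z) (badP i n d a) = 0)
    (l : Fin (r + 1)) : z l = algebraMap k κ (pt (psi i j) ev l) * z j := by
  set x0 := pt (psi i j) ev with hx0
  let sub : MvPolynomial (FormIdx k r d ⊕ Fin (r + 1)) k →ₐ[k] MvPolynomial (Fin (r + 1)) k :=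
    aeval (Sum.elim (fun m => MvPolynomial.C (crd H m)) MvPolynomial.X)
  let I : Ideal (MvPolynomial (Fin (r + 1)) k) := Ideal.span (Set.range fun a => sub (badP i n d a))
  have hmem : MvPolynomial.X l - MvPolynomial.C (x0 l) * MvPolynomial.X j ∈ I.radical := by
    rw [← vanishingIdeal_zeroLocus_eq_radical (K := k), mem_vanishingIdeal_iff]
    intro v hv
    simp only [map_sub, map_mul, aeval_X, aeval_C, Algebra.algebraMap_self, RingHom.id_apply]
    by_cases h0 : v = 0
    · simp [h0]
    obtain ⟨c, hc⟩ := huniq v h0 (badAt_of_eval_badP (n := n) i H h0 fun a => by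
      have := (mem_zeroLocus_iff.1 hv) _ (Ideal.subset_span ⟨a, rfl⟩)
      simp only [sub, ← AlgHom.comp_apply, comp_aeval] at this
      rw [← aeval_eq_eval]
      refine (congrArg (fun g => aeval g (badP i n d a)) ?_).trans this
      funext m; cases m <;> simp)
    rw [hc, Pi.smul_apply, Pi.smul_apply, hx0, pt_self, smul_eq_mul, smul_eq_mul]
    ring
  obtain ⟨N, hN⟩ := hmem
  have hle : I ≤ RingHom.ker (aeval (R := k) z) := by
    refine Ideal.span_le.2 ?_
    rintro _ ⟨a, rfl⟩
    rw [SetLike.mem_coe, RingHom.mem_ker]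
    simp only [sub, ← AlgHom.comp_apply, comp_aeval]
    refine (congrArg (fun g => aeval g (badP i n d a)) ?_).trans (hz a)
    funext m; cases m <;> simp
  have := hle hN
  rw [RingHom.mem_ker, map_pow] at this
  simpa [sub_eq_zero] using eq_zero_of_pow_eq_zero this

include n in
/-- an ordinary point has no degenerate direction over any extension -/
theorem false_of_vec {P0 : MvPolynomial (Fin (r + 1)) k}
    (hord : OrdCrit (tanSpace (psi i j) ev) (pt (psi i j) ev) P0) (w : Fin (r + 1) → κ) (t : Fin (r + 1))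
    (ht : w t = 1) (hwj : w j = 0)
    (hT : ∀ Q, IsEq i Q → ∑ l, w l * algebraMap k κ (eval (pt (psi i j) ev) (pderiv l Q)) = 0)
    (hq : (lineP (fun l => algebraMap k κ (pt (psi i j) ev l)) w (map (algebraMap k κ) P0)).coeff 2 = 0)
    (hp : ∀ u ∈ tanSpace (psi i j) ev,
      ∑ l, algebraMap k κ (u l) * ∑ m, w m * algebraMap k κ (eval (pt (psi i j) ev) (pderiv m (pderiv l P0))) = 0) :
    False := by
  set x0 := pt (psi i j) ev
  let qP : (MvPolynomial (Fin (r + 1)) k) := (lineP (fun l => MvPolynomial.C (x0 l)) MvPolynomial.X (map (algebraMap k (MvPolynomial (Fin (r + 1)) k)) P0)).coeff 2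
  let Tp : Eqn i → (MvPolynomial (Fin (r + 1)) k) := fun Q => ∑ l, MvPolynomial.X l * MvPolynomial.C (eval x0 (pderiv l Q.1))
  let Pp : tanSpace (psi i j) ev → (MvPolynomial (Fin (r + 1)) k) := fun u =>
    ∑ l, MvPolynomial.C (u.1 l) * ∑ m, MvPolynomial.X m * MvPolynomial.C (eval x0 (pderiv m (pderiv l P0)))
  let J : Ideal (MvPolynomial (Fin (r + 1)) k) := Ideal.span ({MvPolynomial.X t - 1, MvPolynomial.X j, qP} ∪ Set.range Tp ∪ Set.range Pp)
  have hqP : ∀ {S : Type u} [CommRing S] [Algebra k S] (g : Fin (r + 1) → S), aeval g qP =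
      (lineP (fun l => algebraMap k S (x0 l)) g (map (algebraMap k S) P0)).coeff 2 := by
    intro S _ _ g
    show ((aeval g).toRingHom) _ = _
    rw [← Polynomial.coeff_map, lineP_map, MvPolynomial.map_map]
    rw [show ((aeval g).toRingHom.comp (algebraMap k (MvPolynomial (Fin (r + 1)) k))) = algebraMap k S from
      (aeval g).comp_algebraMap]
    simp
  obtain ⟨a, ha⟩ := LefGeo.exists_k_point J w fun P hP => by
    have hle : J ≤ RingHom.ker (aeval (R := k) w) := by
      refine Ideal.span_le.2 ?_
      rintro P ((h | ⟨Q, rfl⟩) | ⟨u, rfl⟩)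
      · simp only [Set.mem_insert_iff, Set.mem_singleton_iff] at h
        rcases h with rfl | rfl | rfl
        · simp [ht]
        · simp [hwj]
        · exact (hqP w).trans hq
      · simpa [Tp] using hT Q.1 Q.2
      · simpa [Pp] using hp u.1 u.2
    exact hle hP
  have h1 := ha _ (Ideal.subset_span (Or.inl (Or.inl (Set.mem_insert _ _))))
  have h2 := ha _ (Ideal.subset_span (Or.inl (Or.inl (Set.mem_insert_of_mem _ (Set.mem_insert _ _)))))
  have h3 := ha _ (Ideal.subset_span (Or.inl (Or.inl (Set.mem_insert_of_mem _ (Set.mem_insert_of_mem _ rfl)))))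
  rw [← aeval_eq_eval, hqP] at h3
  have haT : a ∈ tanSpace (psi i j) ev := (tanSpace_mem (n := n) i j ev a).2 ⟨by simpa using h2, fun Q hQ => by
    simpa [Tp, grad, dotProduct, mul_comm] using ha _ (Ideal.subset_span (Or.inl (Or.inr ⟨⟨Q, hQ⟩, rfl⟩)))⟩
  have ha0 := hord a haT (by simpa [q2, lineP, Algebra.algebraMap_self, MvPolynomial.map_id] using h3) fun u hu => by
    simpa [Pp, polar] using ha _ (Ideal.subset_span (Or.inr ⟨⟨u, hu⟩, rfl⟩))
  simp [ha0] at h1

end Residue

section Valuation

variable {K : Type u} [Field K] [Algebra k K] {V : ValuationSubring K} [Algebra k V] [IsScalarTower k V K]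
  {κ : Type u} [Field κ] [Algebra k κ] (res : V →ₐ[k] κ) (hunit : ∀ v : V, res v ≠ 0 → IsUnit v)
  (y : FormIdx k r d → V) (hy : ∀ l, res (y l) = algebraMap k κ (crd H l))

omit [IsAlgClosed k] [Algebra k V] [IsScalarTower k V K] [Algebra k K] in
/-- the largest coordinate -/
theorem exists_max_coord {σ : Type} [Fintype σ] {z : σ → K} (hz : z ≠ 0) :
    ∃ t, z t ≠ 0 ∧ ∃ x : σ → V, (∀ l, z l = z t * x l) ∧ x t = 1 := by
  obtain ⟨s, hs⟩ := Function.ne_iff.1 hz
  obtain ⟨t, -, ht⟩ := Finset.exists_max_image Finset.univ (fun l => V.valuation (z l)) ⟨s, Finset.mem_univ s⟩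
  have hzt : z t ≠ 0 := fun h0 => hs (by
    have := ht s (Finset.mem_univ s)
    rw [h0, map_zero, le_zero_iff, map_eq_zero] at this
    exact this)
  have hmem : ∀ l, (z t)⁻¹ * z l ∈ V := fun l => by
    rw [← ValuationSubring.valuation_le_one_iff, map_mul, map_inv₀, inv_mul_le_one₀]
    · exact ht l (Finset.mem_univ l)
    · exact (Valuation.pos_iff _).2 hzt
  exact ⟨t, hzt, fun l => ⟨_, hmem l⟩, fun l => (mul_inv_cancel_left₀ hzt _).symm,
    Subtype.ext (inv_mul_cancel₀ hzt)⟩

include hunit hy n in
/-- singular points of nearby forms tend to the singular point -/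
theorem exists_int_point (huniq : ∀ v : Fin (r + 1) → k, v ≠ 0 → BadAt i v H → ∃ c : k, v = c • pt (psi i j) ev)
    (z : Fin (r + 1) → K) (hzj : z j = 1)
    (hz : ∀ a, aeval (Sum.elim (fun l => (y l : K)) z) (badP i n d a) = 0) :
    ∃ x : Fin (r + 1) → V, (∀ l, (x l : K) = z l) ∧ ∀ l, res (x l) = algebraMap k κ (pt (psi i j) ev l) := by
  obtain ⟨t, hzt, x', hx', hx't⟩ := exists_max_coord (V := V) (z := z)
    (fun h0 => one_ne_zero (hzj.symm.trans (congrFun h0 j)))
  have hzero : ∀ a, aeval (Sum.elim (fun l => algebraMap k κ (crd H l)) fun l => res (x' l)) (badP i n d a) = 0 := by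
    intro a
    have h0 : aeval (Sum.elim y x') (badP i n d a) = 0 := by
      have h2 := badP_smul i a _ _ (z t)⁻¹ (hz a)
      have e : (z t)⁻¹ • z = fun l => (x' l : K) := funext fun l => by
        rw [Pi.smul_apply, smul_eq_mul, hx' l, inv_mul_cancel_left₀ hzt]
      refine Subtype.ext ?_
      show (IsScalarTower.toAlgHom k V K) _ = _
      rw [← AlgHom.comp_apply, comp_aeval]
      refine (congrArg (fun g => aeval g (badP i n d a)) ?_).trans h2
      rw [e]; funext m; cases m <;> rfl
    have := congrArg res h0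
    rw [map_zero, ← AlgHom.comp_apply, comp_aeval] at this
    refine (congrArg (fun g => aeval g (badP i n d a)) ?_).trans this
    funext m; cases m with
    | inl m => exact (hy m).symm
    | inr m => rfl
  have hu := unique_zero ev H huniq _ hzero
  have hxj : res (x' j) ≠ 0 := fun h0 => by
    have := hu t
    rw [hx't, map_one, h0, mul_zero] at this
    exact one_ne_zero this
  obtain ⟨u, hu'⟩ := hunit _ hxj
  have hzt' : (↑u⁻¹ : V) = (⟨z t, by
      have h1 : z t * (x' j : K) = 1 := (hx' j).symm.trans hzj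
      have h2 : ((↑u⁻¹ : V) : K) * (x' j : K) = 1 := by rw [← hu']; exact congrArg Subtype.val u.inv_mul
      rw [mul_right_cancel₀ (fun h => by simp [h] at h1) (h1.trans h2.symm)]
      exact (↑u⁻¹ : V).2⟩ : V) := by
    refine Subtype.ext (mul_right_cancel₀ (b := (x' j : K)) ?_ ?_)
    · intro h; have := hx' j; rw [h, hzj, mul_zero] at this; exact one_ne_zero this
    · rw [show z t * (x' j : K) = 1 from (hx' j).symm.trans hzj, ← hu']
      exact congrArg Subtype.val u.inv_mul
  refine ⟨fun l => ↑u⁻¹ * x' l, fun l => ?_, fun l => ?_⟩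
  · rw [hzt', hx' l]; rfl
  · rw [map_mul, hu l, ← hu', mul_left_comm, ← map_mul, Units.inv_mul, map_one, mul_one]

variable (x : Fin (r + 1) → V) (hx : ∀ l, res (x l) = algebraMap k κ (pt (psi i j) ev l))

omit [IrreducibleSpace X] [SmoothOfRelativeDimension n (i ≫ CohB1.ProjSpace.toSpec r k)] [IsAlgClosed k] [IsScalarTower k V K] in
include hx in
theorem res_eval (P : MvPolynomial (Fin (r + 1)) k) :
    res (eval x (map (algebraMap k V) P)) = algebraMap k κ (eval (pt (psi i j) ev) P) := by
  rw [← eval_map_alg res, ← Algebra.ofId_apply, show eval (pt (psi i j) ev) P =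
    eval (pt (psi i j) ev) (map (algebraMap k k) P) by rw [Algebra.algebraMap_self, MvPolynomial.map_id],
    ← eval_map_alg (Algebra.ofId k κ)]
  simp only [hx, Algebra.ofId_apply]

omit [IrreducibleSpace X] [SmoothOfRelativeDimension n (i ≫ CohB1.ProjSpace.toSpec r k)] [IsAlgClosed k] [IsScalarTower k V K] in
include hx hunit in
theorem isUnit_mat (hm : eval (pt (psi i j) ev) D.minor ≠ 0) :
    IsUnit (D.mat.map fun P => eval x (map (algebraMap k V) P)).det := by
  refine hunit _ ?_
  have e : (D.mat.map fun P => eval x (map (algebraMap k V) P)).det = eval x (map (algebraMap k V) D.minor) := by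
    rw [MData.minor, RingHom.map_det, RingHom.map_det, RingHom.mapMatrix_apply, RingHom.mapMatrix_apply,
      Matrix.map_map]
    rfl
  rw [e, res_eval ev res x hx]
  simpa using hm

include hunit hx in
omit [IrreducibleSpace X] [SmoothOfRelativeDimension n (i ≫ CohB1.ProjSpace.toSpec r k)] [IsAlgClosed k] in
/-- the correcting coefficients are integral -/
theorem exists_int_coeff (hm : eval (pt (psi i j) ev) D.minor ≠ 0) (c : Fin (r - n) → K)
    (hc : ∀ b, eval (fun l => (x l : K)) (pderiv (D.C b) (D.Gof (fun l => (y l : K)) c)) = 0) :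
    ∃ c' : Fin (r - n) → V, ∀ a, (c' a : K) = c a := by
  let f := IsScalarTower.toAlgHom k V K
  have hH : ∀ l, eval (fun l => (x l : K)) (pderiv l (Hof (fun l => (y l : K)))) =
      f (eval x (pderiv l (Hof y))) := fun l => by
    rw [← AlgHom.coe_toRingHom, ← eval_pderiv_map]
    simp [Hof, MvPolynomial.map_map, f, (IsScalarTower.algebraMap_eq k V K).symm]
  obtain ⟨c', hc', -⟩ := exists_int_sol _ (isUnit_mat ev D res hunit x hx hm)
    (fun b => eval x (pderiv (D.C b) (Hof y))) c fun b => by
      have := hc b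
      rw [eval_pderiv_Gof, hH, sub_eq_zero] at this
      refine Eq.trans (Finset.sum_congr rfl fun a _ => ?_) this.symm
      congr 1
      exact (eval_map_alg f x _).symm
  exact ⟨c', hc'⟩

variable (c : Fin (r - n) → V)

include hy hx in
/-- No degenerate direction in the limit. -/
theorem false_of_limit (hm : eval (pt (psi i j) ev) D.minor ≠ 0) {c0 : Fin (r - n) → k}
    (hc0 : ∀ l, eval (pt (psi i j) ev) (pderiv l (D.Gof (crd H) c0)) = 0)
    (hord : OrdCrit (tanSpace (psi i j) ev) (pt (psi i j) ev) (D.Gof (crd H) c0))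
    (h1 : ∀ l, eval x (pderiv l (D.Gof y c)) = 0)
    (w : Fin (r + 1) → V) (t : Fin (r + 1)) (hwt : w t = 1) (hwj : w j = 0)
    (hT : ∀ Q, IsEq i Q → res (∑ l, w l * eval x (map (algebraMap k V) (pderiv l Q))) = 0)
    (hq : res ((lineP x w (D.Gof y c)).coeff 2) = 0)
    (e : Fin (r - n) → V) (he : ∀ l, l ≠ j → res (∑ m, w m * eval x (pderiv m (pderiv l (D.Gof y c)))) =
      res (∑ a, e a * eval x (map (algebraMap k V) (pderiv l (D.Q a).1)))) : False := by
  set x0 := pt (psi i j) ev with hx0
  let ι := Algebra.ofId k κ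
  have hxe : (fun l => res (x l)) = fun l => ι (x0 l) := funext hx
  have hye : (fun l => res (y l)) = fun l => ι (crd H l) := funext hy
  -- the limit of the correcting coefficients
  have hc : (fun a => res (c a)) = fun a => ι (c0 a) := by
    have key : ∀ b, ∑ a, (res (c a) - ι (c0 a)) * algebraMap k κ (eval x0 (D.mat a b)) = 0 := fun b => by
      have e1 := congrArg (res : V →+* κ) (h1 (D.C b))
      have e2 := congrArg (ι : k →+* κ) (hc0 (D.C b))
      rw [map_zero, ← eval_pderiv_map, map_Gof] at e1 e2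
      simp only [AlgHom.coe_toRingHom] at e1 e2
      rw [hye, hxe, eval_pderiv_Gof] at e1
      rw [eval_pderiv_Gof] at e2
      simp only [sub_mul, Finset.sum_sub_distrib]
      have e3 : ∀ a, eval (fun l => ι (x0 l)) (map (algebraMap k κ) (pderiv (D.C b) (D.Q a).1)) =
          algebraMap k κ (eval x0 (D.mat a b)) := fun a => by
        rw [eval_map_alg ι]
        simp [ι, MData.mat, Algebra.ofId_apply, Algebra.algebraMap_self, MvPolynomial.map_id]
      simp only [e3] at e1 e2
      linear_combination e2 - e1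
    funext a
    have := congrFun (Matrix.eq_zero_of_vecMul_eq_zero (M := D.mat.map fun P => algebraMap k κ (eval x0 P))
      (v := fun a => res (c a) - ι (c0 a)) ?_ (funext fun b => key b)) a
    · exact sub_eq_zero.1 this
    · rw [show (D.mat.map fun P => algebraMap k κ (eval x0 P)) = ((algebraMap k κ).comp (eval x0)).mapMatrix D.mat
        from rfl, ← RingHom.map_det]
      simpa [MData.minor] using hm
  have hG : map (res : V →+* κ) (D.Gof y c) = map (algebraMap k κ) (D.Gof (crd H) c0) := by
    rw [map_Gof, hye, hc, ← map_Gof]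
    rfl
  have hev : ∀ P : MvPolynomial (Fin (r + 1)) V, ∀ P0, map (res : V →+* κ) P = map (algebraMap k κ) P0 →
      res (eval x P) = algebraMap k κ (eval x0 P0) := fun P P0 h => by
    rw [← AlgHom.coe_toRingHom, ← eval_map_hom, h, ← eval_map_hom]
    simp only [AlgHom.coe_toRingHom, hx]
  refine false_of_vec (n := n) ev hord (fun l => res (w l)) t (by simp [hwt]) (by simp [hwj]) (fun Q hQ => ?_) ?_
    fun u hu => ?_
  · have := hT Q hQ
    simp only [map_sum, map_mul, res_eval ev res x hx] at this
    exact this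
  · rw [show (fun l => algebraMap k κ (x0 l)) = fun l => res (x l) from (funext hx).symm, ← hG]
    rw [← hq, ← AlgHom.coe_toRingHom, ← Polynomial.coeff_map, lineP_map]
  · obtain ⟨huj, huQ⟩ := (tanSpace_mem (n := n) i j ev u).1 hu
    have he' : ∀ l, l ≠ j →
        ∑ m, res (w m) * algebraMap k κ (eval x0 (pderiv m (pderiv l (D.Gof (crd H) c0)))) =
          ∑ a, res (e a) * algebraMap k κ (eval x0 (pderiv l (D.Q a).1)) := fun l hl => by
      have := he l hl
      simp only [map_sum, map_mul, res_eval ev res x hx] at this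
      refine Eq.trans (Finset.sum_congr rfl fun m _ => ?_) this
      rw [hev _ (pderiv m (pderiv l (D.Gof (crd H) c0))) (by rw [← pderiv_map, ← pderiv_map, hG, pderiv_map, pderiv_map])]
    calc ∑ l, algebraMap k κ (u l) * ∑ m, res (w m) * algebraMap k κ (eval x0 (pderiv m (pderiv l (D.Gof (crd H) c0))))
        = ∑ l, algebraMap k κ (u l) * ∑ a, res (e a) * algebraMap k κ (eval x0 (pderiv l (D.Q a).1)) :=
          Finset.sum_congr rfl fun l _ => by
            by_cases hl : l = j
            · rw [hl, huj, map_zero, zero_mul, zero_mul]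
            · rw [he' l hl]
      _ = ∑ a, res (e a) * algebraMap k κ (grad x0 (D.Q a).1 ⬝ᵥ u) := by
          simp only [dotProduct, grad, map_sum, map_mul, Finset.mul_sum]
          rw [Finset.sum_comm]
          exact Finset.sum_congr rfl fun a _ => Finset.sum_congr rfl fun l _ => by ring
      _ = 0 := Finset.sum_eq_zero fun a _ => by rw [huQ _ (D.Q a).2, map_zero, mul_zero]

end Valuation

end

end Groth.Agent.LefPenLib
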