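import Groth.Agent.LefPenLib.GoodLimit

/-!
# Sections with one ordinary singularity form an open subset of the dual variety
-/

universe u

open CategoryTheory AlgebraicGeometry Opposite TopologicalSpace
open MvPolynomial Matrix

namespace Groth.Agent.LefPenLib

noncomputable section

variable {r n d : ℕ} {k : Type u} [Field k] {X : Scheme.{u}} {i : X ⟶ CohB1.ProjSpace r k} [IsClosedImmersion i]
  {j : Fin (r + 1)} (D : MData i n j)

section Alg

variable {R S : Type u} [CommRing R] [CommRing S] [Algebra k R] [Algebra k S] (f : R →ₐ[k] S)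
  (y : FormIdx k r d → R) (c : Fin (r - n) → R) (x : Fin (r + 1) → R)

theorem alg_eval_Gof : f (eval x (D.Gof y c)) = eval (fun l => f (x l)) (D.Gof (fun l => f (y l)) fun a => f (c a)) := by
  rw [← map_Gof]; exact (eval_map_hom (f : R →+* S) x _).symm

theorem alg_eval_pderiv_Gof (l : Fin (r + 1)) : f (eval x (pderiv l (D.Gof y c))) =
    eval (fun l => f (x l)) (pderiv l (D.Gof (fun l => f (y l)) fun a => f (c a))) := by
  rw [← map_Gof, pderiv_map]; exact (eval_map_hom (f : R →+* S) x _).symm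

theorem alg_eval_pderiv2_Gof (l m : Fin (r + 1)) : f (eval x (pderiv m (pderiv l (D.Gof y c)))) =
    eval (fun l => f (x l)) (pderiv m (pderiv l (D.Gof (fun l => f (y l)) fun a => f (c a)))) := by
  rw [← map_Gof, pderiv_map, pderiv_map]; exact (eval_map_hom (f : R →+* S) x _).symm

theorem alg_eval_map (P : MvPolynomial (Fin (r + 1)) k) :
    f (eval x (map (algebraMap k R) P)) = eval (fun l => f (x l)) (map (algebraMap k S) P) :=
  (eval_map_alg f x P).symm

theorem alg_lineP_Gof (w : Fin (r + 1) → R) : f ((lineP x w (D.Gof y c)).coeff 2) =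
    (lineP (fun l => f (x l)) (fun l => f (w l)) (D.Gof (fun l => f (y l)) fun a => f (c a))).coeff 2 := by
  rw [← map_Gof, ← AlgHom.coe_toRingHom, ← Polynomial.coeff_map, lineP_map]

end Alg

variable [IrreducibleSpace X] [SmoothOfRelativeDimension n (i ≫ CohB1.ProjSpace.toSpec r k)] [IsAlgClosed k]

variable (ev : Γ(X, chartX i j) →ₐ[k] k) (H : LefPen.Form r k d)

/-- the standing data at a form with a single ordinary singular point -/
structure GoodAt (c0 : Fin (r - n) → k) : Prop where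
  uniq : ∀ v : Fin (r + 1) → k, v ≠ 0 → BadAt i v H → ∃ c : k, v = c • pt (psi i j) ev
  hm : eval (pt (psi i j) ev) D.minor ≠ 0
  hc0 : ∀ l, eval (pt (psi i j) ev) (pderiv l (D.Gof (crd H) c0)) = 0
  hord : OrdCrit (tanSpace (psi i j) ev) (pt (psi i j) ev) (D.Gof (crd H) c0)

variable {c0 : Fin (r - n) → k} (hg : GoodAt D ev H c0)

include n hg in
/-- nearby forms have at most one singular point -/
theorem exists_poly_le_one_bad :
    ∃ p : MvPolynomial (FormIdx k r d) k, eval (crd H) p ≠ 0 ∧ ∀ H' : LefPen.Form r k d, eval (crd H') p ≠ 0 →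
      ∀ v v' : Fin (r + 1) → k, BadAt i v H' → BadAt i v' H' → v j = 1 → v' j = 1 →
        eval v D.minor ≠ 0 → eval v' D.minor ≠ 0 → v = v' := by
  suffices h : ∀ s : Fin (r + 1), ∃ p : MvPolynomial (FormIdx k r d) k, eval (crd H) p ≠ 0 ∧
      ∀ H' : LefPen.Form r k d, eval (crd H') p ≠ 0 →
      ∀ v v' : Fin (r + 1) → k, BadAt i v H' → BadAt i v' H' → v j = 1 → v' j = 1 →
        eval v D.minor ≠ 0 → eval v' D.minor ≠ 0 → v s = v' s by
    choose p hp hp' using h
    refine ⟨∏ s, p s, by rw [map_prod]; exact Finset.prod_ne_zero_iff.2 fun s _ => hp s,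
      fun H' hH' v v' h1 h2 h3 h4 h5 h6 => funext fun s => hp' s H' ?_ v v' h1 h2 h3 h4 h5 h6⟩
    rw [map_prod, Finset.prod_ne_zero_iff] at hH'
    exact hH' s (Finset.mem_univ s)
  intro s
  let σ := Fin (r + 1) ⊕ Fin (r + 1) ⊕ Fin (r - n) ⊕ Fin (r - n) ⊕ Unit
  let W : Set (FormIdx k r d ⊕ σ → k) := {ω | ∃ (H' : LefPen.Form r k d) (v v' : Fin (r + 1) → k)
      (c c' : Fin (r - n) → k), BadAt i v H' ∧ BadAt i v' H' ∧ v j = 1 ∧ v' j = 1 ∧
      eval v (D.Gof (crd H') c) = 0 ∧ (∀ l, eval v (pderiv l (D.Gof (crd H') c)) = 0) ∧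
      eval v' (D.Gof (crd H') c') = 0 ∧ (∀ l, eval v' (pderiv l (D.Gof (crd H') c')) = 0) ∧
      v' s - v s ≠ 0 ∧
      ω = Sum.elim (crd H') (Sum.elim v (Sum.elim v' (Sum.elim c (Sum.elim c' fun _ => (v' s - v s)⁻¹))))}
  obtain ⟨p, hp, hp'⟩ | ⟨K, _, _, V, _, _, κ, _, _, res, ω, y, hunit, hω, hy, hres⟩ := exists_limit W (crd H)
  · refine ⟨p, hp, fun H' hH' v v' h1 h2 h3 h4 h5 h6 => ?_⟩
    by_contra hne
    obtain ⟨c, hc, hc1⟩ := exists_adapted_Gof (n := n) D h1 h3 h5
    obtain ⟨c', hc', hc1'⟩ := exists_adapted_Gof (n := n) D h2 h4 h6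
    exact hH' (hp' _ ⟨H', v, v', c, c', h1, h2, h3, h4, hc, hc1, hc', hc1', sub_ne_zero.2 (Ne.symm hne), rfl⟩)
  exfalso
  let R := MvPolynomial (FormIdx k r d ⊕ σ) k
  let MY : FormIdx k r d → R := fun l => MvPolynomial.X (Sum.inl l)
  let M1 : Fin (r + 1) → R := fun l => MvPolynomial.X (Sum.inr (Sum.inl l))
  let M2 : Fin (r + 1) → R := fun l => MvPolynomial.X (Sum.inr (Sum.inr (Sum.inl l)))
  let M3 : Fin (r - n) → R := fun l => MvPolynomial.X (Sum.inr (Sum.inr (Sum.inr (Sum.inl l))))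
  let M4 : Fin (r - n) → R := fun l => MvPolynomial.X (Sum.inr (Sum.inr (Sum.inr (Sum.inr (Sum.inl l)))))
  let z1 : Fin (r + 1) → K := fun l => ω (Sum.inr (Sum.inl l))
  let z2 : Fin (r + 1) → K := fun l => ω (Sum.inr (Sum.inr (Sum.inl l)))
  let c1 : Fin (r - n) → K := fun l => ω (Sum.inr (Sum.inr (Sum.inr (Sum.inl l))))
  let c2 : Fin (r - n) → K := fun l => ω (Sum.inr (Sum.inr (Sum.inr (Sum.inr (Sum.inl l)))))
  have hY : (fun l => ω (Sum.inl l)) = fun l => (y l : K) := funext fun l => (hy l).symm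
  -- the relations
  have ha : ∀ (g : Fin (r + 1) → σ), (∀ ξ ∈ W, ∃ (H' : LefPen.Form r k d) (v : Fin (r + 1) → k),
      BadAt i v H' ∧ v ≠ 0 ∧ (fun l => ξ (Sum.inl l)) = crd H' ∧ (fun l => ξ (Sum.inr (g l))) = v) →
      ∀ a, aeval (Sum.elim (fun l => (y l : K)) fun l => ω (Sum.inr (g l))) (badP i n d a) = 0 := by
    intro g hg' a
    have := hω (rename (Sum.map id g) (badP i n d a)) fun ξ hξ => by
      obtain ⟨H', v, hb, hv, e1, e2⟩ := hg' ξ hξ
      rw [eval_rename]
      refine (congrArg (fun u => eval u (badP i n d a)) ?_).trans (eval_badP_of_badAt (n := n) i H' hv hb a)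
      funext m; cases m with
      | inl m => exact congrFun e1 m
      | inr m => exact congrFun e2 m
    rw [aeval_rename] at this
    refine (congrArg (fun u => aeval u (badP i n d a)) ?_).trans this
    funext m; cases m with
    | inl m => exact hy m
    | inr m => rfl
  have hne0 : ∀ {v : Fin (r + 1) → k}, v j = 1 → v ≠ 0 := fun h h0 => one_ne_zero (h.symm.trans (congrFun h0 j))
  have hz1 := ha (fun l => Sum.inl l) fun ξ ⟨H', v, v', c, c', h1, h2, h3, h4, h5, h6, h7, h8, h9, e⟩ =>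
    ⟨H', v, h1, hne0 h3, by subst e; rfl, by subst e; rfl⟩
  have hz2 := ha (fun l => Sum.inr (Sum.inl l)) fun ξ ⟨H', v, v', c, c', h1, h2, h3, h4, h5, h6, h7, h8, h9, e⟩ =>
    ⟨H', v', h2, hne0 h4, by subst e; rfl, by subst e; rfl⟩
  have hz1j : z1 j = 1 := by
    have := hω (M1 j - 1) fun ξ ⟨H', v, v', c, c', h1, h2, h3, h4, h5, h6, h7, h8, h9, e⟩ => by
      subst e; simp [M1, h3]
    simpa [M1, sub_eq_zero] using this
  have hz2j : z2 j = 1 := by
    have := hω (M2 j - 1) fun ξ ⟨H', v, v', c, c', h1, h2, h3, h4, h5, h6, h7, h8, h9, e⟩ => by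
      subst e; simp [M2, h4]
    simpa [M2, sub_eq_zero] using this
  have hG1 : eval z1 (D.Gof (fun l => (y l : K)) c1) = 0 := by
    have := hω (eval M1 (D.Gof MY M3)) fun ξ ⟨H', v, v', c, c', h1, h2, h3, h4, h5, h6, h7, h8, h9, e⟩ => by
      subst e; rw [← aeval_eq_eval, alg_eval_Gof]; simpa [M1, MY, M3] using h5
    rw [alg_eval_Gof] at this
    simpa [M1, MY, M3, hY] using this
  have hD1 : ∀ l, eval z1 (pderiv l (D.Gof (fun l => (y l : K)) c1)) = 0 := fun l => by
    have := hω (eval M1 (pderiv l (D.Gof MY M3))) fun ξ ⟨H', v, v', c, c', h1, h2, h3, h4, h5, h6, h7, h8, h9, e⟩ => by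
      subst e; rw [← aeval_eq_eval, alg_eval_pderiv_Gof]; simpa [M1, MY, M3] using h6 l
    rw [alg_eval_pderiv_Gof] at this
    simpa [M1, MY, M3, hY] using this
  have hG2 : eval z2 (D.Gof (fun l => (y l : K)) c2) = 0 := by
    have := hω (eval M2 (D.Gof MY M4)) fun ξ ⟨H', v, v', c, c', h1, h2, h3, h4, h5, h6, h7, h8, h9, e⟩ => by
      subst e; rw [← aeval_eq_eval, alg_eval_Gof]; simpa [M2, MY, M4] using h7
    rw [alg_eval_Gof] at this
    simpa [M2, MY, M4, hY] using this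
  have hD2 : ∀ l, eval z2 (pderiv l (D.Gof (fun l => (y l : K)) c2)) = 0 := fun l => by
    have := hω (eval M2 (pderiv l (D.Gof MY M4))) fun ξ ⟨H', v, v', c, c', h1, h2, h3, h4, h5, h6, h7, h8, h9, e⟩ => by
      subst e; rw [← aeval_eq_eval, alg_eval_pderiv_Gof]; simpa [M2, MY, M4] using h8 l
    rw [alg_eval_pderiv_Gof] at this
    simpa [M2, MY, M4, hY] using this
  have hs : z2 s - z1 s ≠ 0 := fun h0 => by
    have := hω ((M2 s - M1 s) * MvPolynomial.X (Sum.inr (Sum.inr (Sum.inr (Sum.inr (Sum.inr ()))))) - 1)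
      fun ξ ⟨H', v, v', c, c', h1, h2, h3, h4, h5, h6, h7, h8, h9, e⟩ => by
        subst e; simp [M1, M2, mul_inv_cancel₀ h9]
    simp only [M1, M2, map_sub, map_mul, map_one, aeval_X] at this
    rw [show ω (Sum.inr (Sum.inr (Sum.inl s))) - ω (Sum.inr (Sum.inl s)) = 0 from h0] at this
    simp at this
  -- everything is integral
  obtain ⟨x1, hx1, hx1r⟩ := exists_int_point ev H res hunit y hres hg.uniq z1 hz1j hz1
  obtain ⟨x2, hx2, hx2r⟩ := exists_int_point ev H res hunit y hres hg.uniq z2 hz2j hz2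
  obtain ⟨d1, hd1⟩ := exists_int_coeff ev D res hunit y x1 hx1r hg.hm c1 fun b => by
    simp only [hx1]; exact hD1 _
  obtain ⟨d2, hd2⟩ := exists_int_coeff ev D res hunit y x2 hx2r hg.hm c2 fun b => by
    simp only [hx2]; exact hD2 _
  let f := IsScalarTower.toAlgHom k V K
  have hf : Function.Injective f := Subtype.coe_injective
  have e1 : (fun l => f (x1 l)) = z1 := funext hx1
  have e2 : (fun l => f (x2 l)) = z2 := funext hx2
  have g1 : (fun a => f (d1 a)) = c1 := funext hd1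
  have g2 : (fun a => f (d2 a)) = c2 := funext hd2
  have hG1' : eval x1 (D.Gof y d1) = 0 := hf (by rw [alg_eval_Gof, e1, g1, map_zero]; exact hG1)
  have hD1' : ∀ l, eval x1 (pderiv l (D.Gof y d1)) = 0 := fun l =>
    hf (by rw [alg_eval_pderiv_Gof, e1, g1, map_zero]; exact hD1 l)
  have hG2' : eval x2 (D.Gof y d2) = 0 := hf (by rw [alg_eval_Gof, e2, g2, map_zero]; exact hG2)
  have hD2' : ∀ l, eval x2 (pderiv l (D.Gof y d2)) = 0 := fun l =>
    hf (by rw [alg_eval_pderiv_Gof, e2, g2, map_zero]; exact hD2 l)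
  have hQ : ∀ Q, IsEq i Q → eval x1 (map (algebraMap k V) Q) = 0 ∧ eval x2 (map (algebraMap k V) Q) = 0 := by
    intro Q hQ
    have q1 := hz1 (Sum.inl ⟨Q, hQ⟩)
    have q2 := hz2 (Sum.inl ⟨Q, hQ⟩)
    simp only [badP, Sum.elim_inl, aeval_rename, Function.comp_def, Sum.elim_inr] at q1 q2
    refine ⟨hf ?_, hf ?_⟩
    · rw [← eval_map_alg f, e1, map_zero, MvPolynomial.eval_map, ← aeval_def]; exact q1
    · rw [← eval_map_alg f, e2, map_zero, MvPolynomial.eval_map, ← aeval_def]; exact q2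
  -- the chord
  obtain ⟨t, hlam, w, hw, hwt⟩ := exists_max_coord (V := V) (z := fun l => z2 l - z1 l)
    (fun h0 => hs (congrFun h0 s))
  set lam : V := x2 t - x1 t with hlamdef
  have hlamK : (lam : K) = z2 t - z1 t := by simp [lam, hx1, hx2]
  have hlam0 : lam ≠ 0 := fun h0 => hlam (by rw [← hlamK, h0]; rfl)
  have hlamr : res lam = 0 := by rw [hlamdef, map_sub, hx1r, hx2r, sub_self]
  have hline : (fun l => x1 l + w l * lam) = x2 := funext fun l => hf (by
    rw [map_add, map_mul]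
    show (x1 l : K) + (w l : K) * (lam : K) = (x2 l : K)
    rw [hlamK, hx1, hx2, mul_comm, ← hw l]; ring)
  have hwj : w j = 0 := by
    have := hw j
    simp only [hz1j, hz2j, sub_self] at this
    exact hf (by rw [map_zero]; exact (mul_eq_zero.1 this.symm).resolve_left hlam)
  have hx2G : eval (fun l => x1 l + w l * lam) (D.Gof y d1) = 0 := by
    rw [hline]
    rw [eval_Gof] at hG2' ⊢
    simp only [(hQ _ (D.Q _).2).2, mul_zero, Finset.sum_const_zero, sub_zero] at hG2' ⊢
    exact hG2'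
  obtain ⟨q, hq⟩ := exists_coeff_two hlam0 hG1' hD1' hx2G
  have key : ∀ l, ∃ z, ∑ a, (d2 a - d1 a) * eval x2 (map (algebraMap k V) (pderiv l (D.Q a).1)) =
      lam * (∑ m, w m * eval x1 (pderiv m (pderiv l (D.Gof y d1))) + lam * z) := fun l => by
    obtain ⟨z, hz⟩ := exists_eval_line x1 w (pderiv l (D.Gof y d1)) lam
    refine ⟨(lineP x1 w (pderiv l (D.Gof y d1))).coeff 2 + lam * z, ?_⟩
    rw [hline, hD1', zero_add] at hz
    rw [← hz, eval_pderiv_Gof]
    have := hD2' l
    rw [eval_pderiv_Gof] at this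
    simp only [sub_mul, Finset.sum_sub_distrib]
    linear_combination -this
  choose q' hq' using key
  let M : Matrix (Fin (r - n)) (Fin (r - n)) V := D.mat.map fun P => eval x2 (map (algebraMap k V) P)
  have hM : IsUnit M.det := isUnit_mat ev D res hunit x2 hx2r hg.hm
  let e : Fin (r - n) → V :=
    (fun b => ∑ m, w m * eval x1 (pderiv m (pderiv (D.C b) (D.Gof y d1))) + lam * q' (D.C b)) ᵥ* M⁻¹
  have he : ∀ a, d2 a - d1 a = lam * e a := by
    have h : ((fun a => d2 a - d1 a) - lam • e) ᵥ* M = 0 := by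
      rw [Matrix.sub_vecMul, Matrix.smul_vecMul, Matrix.vecMul_vecMul, Matrix.nonsing_inv_mul _ hM, Matrix.vecMul_one]
      funext b
      rw [Pi.sub_apply, Pi.smul_apply, smul_eq_mul, ← hq' (D.C b), Pi.zero_apply, sub_eq_zero]
      rfl
    intro a
    have := congrFun (Matrix.eq_zero_of_vecMul_eq_zero hM.ne_zero h) a
    simpa [sub_eq_zero] using this
  refine false_of_limit (n := n) ev D H res y hres x1 hx1r d1 hg.hm hg.hc0 hg.hord hD1' w t hwt hwj (fun Q hQ' => ?_)
    (by rw [hq, map_mul, hlamr, zero_mul]) e fun l _ => ?_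
  · obtain ⟨z, hz⟩ := exists_eval_line x1 w (map (algebraMap k V) Q) lam
    rw [hline, (hQ Q hQ').1, (hQ Q hQ').2, zero_add] at hz
    simp only [pderiv_map] at hz
    rcases mul_eq_zero.1 hz.symm with h0 | h0
    · exact absurd h0 hlam0
    · have := congrArg res h0
      rwa [map_add, map_mul, hlamr, zero_mul, add_zero, map_zero] at this
  · have h := hq' l
    simp only [he, mul_assoc, ← Finset.mul_sum] at h
    have h' := mul_left_cancel₀ hlam0 h
    have h'' := congrArg res h'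
    rw [map_add, map_mul, hlamr, zero_mul, add_zero] at h''
    rw [← h'']
    simp only [map_sum, map_mul, res_eval ev res x1 hx1r, res_eval ev res x2 hx2r]

include n hg in
/-- singular points of nearby forms are ordinary -/
theorem exists_poly_ordinary :
    ∃ p : MvPolynomial (FormIdx k r d) k, eval (crd H) p ≠ 0 ∧ ∀ H' : LefPen.Form r k d, eval (crd H') p ≠ 0 →
      ∀ (v w : Fin (r + 1) → k) (c e : Fin (r - n) → k), BadAt i v H' → v j = 1 →
        eval v (D.Gof (crd H') c) = 0 → (∀ l, eval v (pderiv l (D.Gof (crd H') c)) = 0) →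
        w j = 0 → (∀ Q, IsEq i Q → ∑ l, w l * eval v (pderiv l Q) = 0) →
        (lineP v w (D.Gof (crd H') c)).coeff 2 = 0 →
        (∀ l, l ≠ j → ∑ m, w m * eval v (pderiv m (pderiv l (D.Gof (crd H') c))) =
          ∑ a, e a * eval v (pderiv l (D.Q a).1)) → w = 0 := by
  suffices h : ∀ t : Fin (r + 1), ∃ p : MvPolynomial (FormIdx k r d) k, eval (crd H) p ≠ 0 ∧
      ∀ H' : LefPen.Form r k d, eval (crd H') p ≠ 0 →
      ∀ (v w : Fin (r + 1) → k) (c e : Fin (r - n) → k), BadAt i v H' → v j = 1 →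
        eval v (D.Gof (crd H') c) = 0 → (∀ l, eval v (pderiv l (D.Gof (crd H') c)) = 0) →
        w j = 0 → (∀ Q, IsEq i Q → ∑ l, w l * eval v (pderiv l Q) = 0) →
        (lineP v w (D.Gof (crd H') c)).coeff 2 = 0 →
        (∀ l, l ≠ j → ∑ m, w m * eval v (pderiv m (pderiv l (D.Gof (crd H') c))) =
          ∑ a, e a * eval v (pderiv l (D.Q a).1)) → w t ≠ 1 by
    choose p hp hp' using h
    refine ⟨∏ t, p t, by rw [map_prod]; exact Finset.prod_ne_zero_iff.2 fun t _ => hp t,
      fun H' hH' v w c e h1 h2 h3 h4 h5 h6 h7 h8 => ?_⟩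
    by_contra hne
    obtain ⟨t, ht⟩ := Function.ne_iff.1 hne
    rw [map_prod, Finset.prod_ne_zero_iff] at hH'
    refine hp' t H' (hH' t (Finset.mem_univ t)) v ((w t)⁻¹ • w) c ((w t)⁻¹ • e) h1 h2 h3 h4
      (by simp [h5]) (fun Q hQ => ?_) (by rw [coeff_two_lineP_smul, h7, mul_zero]) (fun l hl => ?_)
      (inv_mul_cancel₀ ht)
    · simp [mul_assoc, ← Finset.mul_sum, h6 Q hQ]
    · simp [mul_assoc, ← Finset.mul_sum, h8 l hl]
  intro t0
  let σ := Fin (r + 1) ⊕ Fin (r + 1) ⊕ Fin (r - n) ⊕ Fin (r - n)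
  let W : Set (FormIdx k r d ⊕ σ → k) := {ω | ∃ (H' : LefPen.Form r k d) (v w : Fin (r + 1) → k)
      (c e : Fin (r - n) → k), BadAt i v H' ∧ v j = 1 ∧
        eval v (D.Gof (crd H') c) = 0 ∧ (∀ l, eval v (pderiv l (D.Gof (crd H') c)) = 0) ∧
        w j = 0 ∧ (∀ Q, IsEq i Q → ∑ l, w l * eval v (pderiv l Q) = 0) ∧
        (lineP v w (D.Gof (crd H') c)).coeff 2 = 0 ∧
        (∀ l, l ≠ j → ∑ m, w m * eval v (pderiv m (pderiv l (D.Gof (crd H') c))) =
          ∑ a, e a * eval v (pderiv l (D.Q a).1)) ∧ w t0 = 1 ∧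
      ω = Sum.elim (crd H') (Sum.elim v (Sum.elim w (Sum.elim c e)))}
  obtain ⟨p, hp, hp'⟩ | ⟨K, _, _, V, _, _, κ, _, _, res, ω, y, hunit, hω, hy, hres⟩ := exists_limit W (crd H)
  · exact ⟨p, hp, fun H' hH' v w c e h1 h2 h3 h4 h5 h6 h7 h8 h9 =>
      hH' (hp' _ ⟨H', v, w, c, e, h1, h2, h3, h4, h5, h6, h7, h8, h9, rfl⟩)⟩
  exfalso
  let R := MvPolynomial (FormIdx k r d ⊕ σ) k
  let MY : FormIdx k r d → R := fun l => MvPolynomial.X (Sum.inl l)
  let M1 : Fin (r + 1) → R := fun l => MvPolynomial.X (Sum.inr (Sum.inl l))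
  let M2 : Fin (r + 1) → R := fun l => MvPolynomial.X (Sum.inr (Sum.inr (Sum.inl l)))
  let M3 : Fin (r - n) → R := fun l => MvPolynomial.X (Sum.inr (Sum.inr (Sum.inr (Sum.inl l))))
  let M4 : Fin (r - n) → R := fun l => MvPolynomial.X (Sum.inr (Sum.inr (Sum.inr (Sum.inr l))))
  let z1 : Fin (r + 1) → K := fun l => ω (Sum.inr (Sum.inl l))
  let z2 : Fin (r + 1) → K := fun l => ω (Sum.inr (Sum.inr (Sum.inl l)))
  let c1 : Fin (r - n) → K := fun l => ω (Sum.inr (Sum.inr (Sum.inr (Sum.inl l))))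
  let e1' : Fin (r - n) → K := fun l => ω (Sum.inr (Sum.inr (Sum.inr (Sum.inr l))))
  have hY : (fun l => ω (Sum.inl l)) = fun l => (y l : K) := funext fun l => (hy l).symm
  have hω' : ∀ P, (∀ ξ ∈ W, aeval ξ P = 0) → aeval ω P = 0 := fun P h =>
    hω P fun ξ hξ => by rw [← aeval_eq_eval]; exact h ξ hξ
  have hmap : ∀ {S : Type u} [CommRing S] [Algebra k S] (g : FormIdx k r d ⊕ σ → S)
      (P : MvPolynomial (Fin (r + 1)) k), aeval g (eval M1 (map (algebraMap k R) P)) =
        eval (fun l => g (Sum.inr (Sum.inl l))) (map (algebraMap k S) P) := fun g P =>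
    (alg_eval_map (aeval g) M1 P).trans (by simp [M1])
  have hne0 : ∀ {v : Fin (r + 1) → k}, v j = 1 → v ≠ 0 := fun h h0 => one_ne_zero (h.symm.trans (congrFun h0 j))
  have hz1 : ∀ a, aeval (Sum.elim (fun l => (y l : K)) z1) (badP i n d a) = 0 := fun a => by
    have := hω (rename (Sum.map id fun l => Sum.inl l) (badP i n d a))
      fun ξ ⟨H', v, w, c, e, h1, h2, h3, h4, h5, h6, h7, h8, h9, he⟩ => by
        subst he
        rw [eval_rename]
        refine (congrArg (fun u => eval u (badP i n d a)) ?_).trans (eval_badP_of_badAt (n := n) i H' (hne0 h2) h1 a)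
        funext m; cases m <;> rfl
    rw [aeval_rename] at this
    refine (congrArg (fun u => aeval u (badP i n d a)) ?_).trans this
    funext m; cases m with
    | inl m => exact hy m
    | inr m => rfl
  have hz1j : z1 j = 1 := by
    have := hω (M1 j - 1) fun ξ ⟨H', v, w, c, e, h1, h2, h3, h4, h5, h6, h7, h8, h9, he⟩ => by
      subst he; simp [M1, h2]
    simpa [M1, sub_eq_zero] using this
  have hz2t : z2 t0 = 1 := by
    have := hω (M2 t0 - 1) fun ξ ⟨H', v, w, c, e, h1, h2, h3, h4, h5, h6, h7, h8, h9, he⟩ => by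
      subst he; simp [M2, h9]
    simpa [M2, sub_eq_zero] using this
  have hz2j : z2 j = 0 := by
    have := hω (M2 j) fun ξ ⟨H', v, w, c, e, h1, h2, h3, h4, h5, h6, h7, h8, h9, he⟩ => by
      subst he; simp [M2, h5]
    simpa [M2] using this
  have hD1 : ∀ l, eval z1 (pderiv l (D.Gof (fun l => (y l : K)) c1)) = 0 := fun l => by
    have := hω (eval M1 (pderiv l (D.Gof MY M3))) fun ξ ⟨H', v, w, c, e, h1, h2, h3, h4, h5, h6, h7, h8, h9, he⟩ => by
      subst he; rw [← aeval_eq_eval, alg_eval_pderiv_Gof]; simpa [M1, MY, M3] using h4 l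
    rw [alg_eval_pderiv_Gof] at this
    simpa [M1, MY, M3, hY] using this
  have hTQ : ∀ Q, IsEq i Q → ∑ l, z2 l * eval z1 (map (algebraMap k K) (pderiv l Q)) = 0 := fun Q hQ => by
    have := hω' (∑ l, M2 l * eval M1 (map (algebraMap k R) (pderiv l Q)))
      fun ξ ⟨H', v, w, c, e, h1, h2, h3, h4, h5, h6, h7, h8, h9, he⟩ => by
        subst he
        simp only [map_sum, map_mul, hmap, M2, aeval_X]
        refine Eq.trans (Finset.sum_congr rfl fun l _ => ?_) (h6 Q hQ)
        simp [Algebra.algebraMap_self, MvPolynomial.map_id]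
    simp only [map_sum, map_mul, hmap] at this
    simpa [M1, M2] using this
  have hq2 : (lineP z1 z2 (D.Gof (fun l => (y l : K)) c1)).coeff 2 = 0 := by
    have := hω ((lineP M1 M2 (D.Gof MY M3)).coeff 2) fun ξ ⟨H', v, w, c, e, h1, h2, h3, h4, h5, h6, h7, h8, h9, he⟩ => by
      subst he; rw [← aeval_eq_eval, alg_lineP_Gof]; simpa [M1, M2, MY, M3] using h7
    rw [alg_lineP_Gof] at this
    simpa [M1, M2, MY, M3, hY] using this
  have hH : ∀ l, l ≠ j → ∑ m, z2 m * eval z1 (pderiv m (pderiv l (D.Gof (fun l => (y l : K)) c1))) =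
      ∑ a, e1' a * eval z1 (map (algebraMap k K) (pderiv l (D.Q a).1)) := fun l hl => by
    have := hω' ((∑ m, M2 m * eval M1 (pderiv m (pderiv l (D.Gof MY M3)))) -
        ∑ a, M4 a * eval M1 (map (algebraMap k R) (pderiv l (D.Q a).1)))
      fun ξ ⟨H', v, w, c, e, h1, h2, h3, h4, h5, h6, h7, h8, h9, he⟩ => by
        subst he
        simp only [map_sub, map_sum, map_mul, hmap, M2, M4, aeval_X, sub_eq_zero, alg_eval_pderiv2_Gof]
        refine Eq.trans (Finset.sum_congr rfl fun m _ => ?_) ((h8 l hl).trans (Finset.sum_congr rfl fun a _ => ?_))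
        · simp [M1, MY, M3]
        · simp [Algebra.algebraMap_self, MvPolynomial.map_id]
    simp only [map_sub, map_sum, map_mul, hmap, alg_eval_pderiv2_Gof, sub_eq_zero] at this
    simpa [M1, M2, M4, MY, M3, hY] using this
  obtain ⟨x1, hx1, hx1r⟩ := exists_int_point ev H res hunit y hres hg.uniq z1 hz1j hz1
  obtain ⟨d1, hd1⟩ := exists_int_coeff ev D res hunit y x1 hx1r hg.hm c1 fun b => by
    simp only [hx1]; exact hD1 _
  let f := IsScalarTower.toAlgHom k V K
  have hf : Function.Injective f := Subtype.coe_injective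
  have e1 : (fun l => f (x1 l)) = z1 := funext hx1
  have g1 : (fun a => f (d1 a)) = c1 := funext hd1
  have hD1' : ∀ l, eval x1 (pderiv l (D.Gof y d1)) = 0 := fun l =>
    hf (by rw [alg_eval_pderiv_Gof, e1, g1, map_zero]; exact hD1 l)
  obtain ⟨t, hmu, w, hw, hwt⟩ := exists_max_coord (V := V) (z := z2)
    (fun h0 => one_ne_zero (hz2t.symm.trans (congrFun h0 t0)))
  have hwK : (fun l => f (w l)) = (z2 t)⁻¹ • z2 := funext fun l => by
    rw [Pi.smul_apply, smul_eq_mul, hw l, inv_mul_cancel_left₀ hmu]; rfl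
  have hwK' : ∀ l, f (w l) = (z2 t)⁻¹ * z2 l := fun l => congrFun hwK l
  have hwj : w j = 0 := hf (by rw [map_zero, hwK', hz2j, mul_zero])
  let M : Matrix (Fin (r - n)) (Fin (r - n)) V := D.mat.map fun P => eval x1 (map (algebraMap k V) P)
  have hM : IsUnit M.det := isUnit_mat ev D res hunit x1 hx1r hg.hm
  obtain ⟨e, he, -⟩ := exists_int_sol M hM
    (fun b => ∑ m, w m * eval x1 (pderiv m (pderiv (D.C b) (D.Gof y d1)))) (fun a => (z2 t)⁻¹ * e1' a) fun b => by
      show _ = f _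
      simp only [map_sum, map_mul, alg_eval_pderiv2_Gof, e1, g1, hwK', mul_assoc, ← Finset.mul_sum]
      congr 1
      rw [show (fun l => f (y l)) = fun l => (y l : K) from rfl, hH (D.C b) (D.hC b)]
      refine Finset.sum_congr rfl fun a _ => ?_
      congr 1
      show f (eval x1 (map (algebraMap k V) (pderiv (D.C b) (D.Q a).1))) = _
      rw [← eval_map_alg, e1]
  refine false_of_limit (n := n) ev D H res y hres x1 hx1r d1 hg.hm hg.hc0 hg.hord hD1' w t hwt hwj (fun Q hQ => ?_)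
    ?_ e fun l hl => ?_
  · rw [← map_zero res]
    refine congrArg res (hf ?_)
    simp only [map_sum, map_mul, ← eval_map_alg, e1, hwK', mul_assoc, ← Finset.mul_sum, hTQ Q hQ, mul_zero, map_zero]
  · rw [← map_zero res]
    refine congrArg res (hf ?_)
    rw [alg_lineP_Gof, e1, g1, hwK, coeff_two_lineP_smul, map_zero]
    exact mul_eq_zero_of_right _ hq2
  · refine congrArg res (hf ?_)
    simp only [map_sum, map_mul, alg_eval_pderiv2_Gof, ← eval_map_alg, e1, g1, hwK',
      show ∀ a, f (e a) = (z2 t)⁻¹ * e1' a from he, mul_assoc, ← Finset.mul_sum]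
    congr 1
    exact hH l hl

end

end Groth.Agent.LefPenLib
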