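import Groth.Prelude.Def_LefPen
import Mathlib.AlgebraicGeometry.ProjectiveSpectrum.Proper
import Mathlib.AlgebraicGeometry.Morphisms.Affine

/-!
# The ideal sheaf of a hypersurface of projective space on the standard charts
-/

universe u

open CategoryTheory AlgebraicGeometry Opposite TopologicalSpace
open HomogeneousLocalization (Away)

namespace Groth.Agent.LefPenLib

noncomputable section

variable {r : ℕ} {k : Type u} [Field k]

local notation "𝒜" => CohB1.polyGrading r k
local notation "P" => CohB1.ProjSpace r k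

instance : Scheme.IsSeparated (CohB1.ProjSpace r k) := inferInstanceAs (Scheme.IsSeparated (Proj 𝒜))

theorem isAffineOpen_chart (i : Fin (r + 1)) : IsAffineOpen (LefPen.chart r k i) :=
  Proj.isAffineOpen_basicOpen 𝒜 _ (LefPen.X_mem r k i) Nat.one_pos

/-- the chart as an affine open -/
def chartA (i : Fin (r + 1)) : (CohB1.ProjSpace r k).affineOpens := ⟨_, isAffineOpen_chart i⟩

/-- the power `(T_i / T_j) ^ d` -/
def ratio (d : ℕ) (i j : Fin (r + 1)) : Away 𝒜 (MvPolynomial.X j : MvPolynomial (Fin (r + 1)) k) :=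
  Away.mk 𝒜 (LefPen.X_mem r k j) d (MvPolynomial.X i ^ d)
    (by rw [smul_eq_mul, mul_one]; exact MvPolynomial.isHomogeneous_X_pow i d)

theorem dehom_res {d : ℕ} (G : LefPen.Form r k d) (i j : Fin (r + 1)) (W : (CohB1.ProjSpace r k).Opens)
    (hi : W ≤ LefPen.chart r k i) (hj : W ≤ LefPen.chart r k j) :
    ((CohB1.ProjSpace r k).presheaf.map (homOfLE hj).op).hom (LefPen.dehom G j) =
      ((CohB1.ProjSpace r k).presheaf.map (homOfLE hj).op).hom
          ((Proj.awayToSection 𝒜 (MvPolynomial.X j)).hom (ratio d i j)) *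
        ((CohB1.ProjSpace r k).presheaf.map (homOfLE hi).op).hom (LefPen.dehom G i) := by
  refine Subtype.ext (funext fun x => HomogeneousLocalization.val_injective _ ?_)
  refine Eq.trans ?_ (HomogeneousLocalization.val_mul _ _).symm
  show (((Proj.awayToSection 𝒜 (MvPolynomial.X j)).hom (Away.mk 𝒜 (LefPen.X_mem r k j) d G.1 (by rw [smul_eq_mul, mul_one]; exact G.2))).val ⟨x.1, hj x.2⟩).val =
    (((Proj.awayToSection 𝒜 (MvPolynomial.X j)).hom (ratio d i j)).val ⟨x.1, hj x.2⟩).val *
    (((Proj.awayToSection 𝒜 (MvPolynomial.X i)).hom (Away.mk 𝒜 (LefPen.X_mem r k i) d G.1 (by rw [smul_eq_mul, mul_one]; exact G.2))).val ⟨x.1, hi x.2⟩).val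
  erw [ProjectiveSpectrum.Proj.awayToSection_apply, ProjectiveSpectrum.Proj.awayToSection_apply,
    ProjectiveSpectrum.Proj.awayToSection_apply]
  simp only [ratio, HomogeneousLocalization.Away.val_mk, Localization.mk_eq_mk', IsLocalization.map_mk']
  erw [← IsLocalization.mk'_mul]
  rw [IsLocalization.mk'_eq_iff_eq]
  refine congrArg _ ?_
  simp only [RingHom.id_apply, Submonoid.coe_mul]
  ring

theorem res_res {X : Scheme.{u}} {U V W : X.Opensᵒᵖ} (a : U ⟶ V) (b : V ⟶ W) (c : U ⟶ W)
    (z : X.presheaf.obj U) : (X.presheaf.map b).hom ((X.presheaf.map a).hom z) = (X.presheaf.map c).hom z := by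
  rw [Subsingleton.elim c (a ≫ b), Functor.map_comp]
  rfl

theorem res_res₃ {X : Scheme.{u}} {U V V' W : X.Opensᵒᵖ} (a : U ⟶ V) (a' : V ⟶ V') (b : V' ⟶ W) (c : U ⟶ W)
    (z : X.presheaf.obj U) :
    (X.presheaf.map b).hom ((X.presheaf.map a').hom ((X.presheaf.map a).hom z)) = (X.presheaf.map c).hom z := by
  rw [res_res a a' (a ≫ a'), res_res (a ≫ a') b c]

/-- the candidate: intersection over the charts of the direct images -/
theorem hypIdeal_ideal {d : ℕ} (G : LefPen.Form r k d) (U : (CohB1.ProjSpace r k).affineOpens) :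
    (LefPen.hypIdeal G).ideal U = LefPen.hypFamily G U := by
  refine le_antisymm (Scheme.IdealSheafData.ideal_ofIdeals_le _ U) ?_
  haveI : ∀ i : Fin (r + 1), IsAffine ((LefPen.chart r k i : (CohB1.ProjSpace r k).Opens) : Scheme.{u}) :=
    fun i => isAffineOpen_chart i
  let W : Fin (r + 1) → (CohB1.ProjSpace r k).Opens := fun i => LefPen.chart r k i
  let g : ∀ i, Γ((W i : Scheme.{u}), ⊤) := fun i => (W i).topIso.inv.hom (LefPen.dehom G i)
  let J : (CohB1.ProjSpace r k).IdealSheafData :=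
    ⨅ i, (Scheme.IdealSheafData.ofIdealTop (Ideal.span {g i})).map (W i).ι
  have hJ : ∀ V : (CohB1.ProjSpace r k).affineOpens, J.ideal V = LefPen.hypFamily G V := by
    intro V
    rw [Scheme.IdealSheafData.ideal_iInf, iInf_apply]
    refine iInf_congr fun i => ?_
    haveI : IsAffineHom (W i).ι :=
      isAffineHom_of_forall_exists_isAffineOpen _ fun x => by
        obtain ⟨_, ⟨U', hU', rfl⟩, hxU, -⟩ := (CohB1.ProjSpace r k).isBasis_affineOpens.exists_subset_of_mem_open
          (Set.mem_univ x) isOpen_univ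
        refine ⟨U', hxU, hU', ?_⟩
        rw [← Scheme.Hom.isAffineOpen_iff_of_isOpenImmersion (W i).ι,
          Scheme.Hom.image_preimage_eq_opensRange_inf, Scheme.Opens.opensRange_ι]
        exact (isAffineOpen_chart i).inf hU'
    rw [Scheme.IdealSheafData.ideal_map_of_isAffineHom]
    ext f
    simp only [Ideal.mem_comap]
    have hle : ((W i).ι ''ᵁ ((W i).ι ⁻¹ᵁ V.1)) = V.1 ⊓ W i := by
      rw [Scheme.Hom.image_preimage_eq_opensRange_inf, Scheme.Opens.opensRange_ι, inf_comm]
    have e := Scheme.IdealSheafData.ofIdealTop (Ideal.span {g i})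
    rw [Scheme.IdealSheafData.ofIdealTop_ideal, Ideal.map_span, Set.image_singleton, Ideal.mem_span_singleton,
      Ideal.mem_span_singleton]
    let φ : Γ(CohB1.ProjSpace r k, (W i).ι ''ᵁ ((W i).ι ⁻¹ᵁ V.1)) →+* Γ(CohB1.ProjSpace r k, V.1 ⊓ W i) :=
      ((CohB1.ProjSpace r k).presheaf.map (eqToHom hle.symm).op).hom
    have hφ : Function.Bijective φ :=
      ConcreteCategory.bijective_of_isIso ((CohB1.ProjSpace r k).presheaf.map (eqToHom hle.symm).op)
    have key : ∀ z, φ ((((W i : Scheme.{u})).presheaf.map (homOfLE le_top).op).hom ((W i).topIso.inv.hom z)) =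
        ((CohB1.ProjSpace r k).presheaf.map (homOfLE (inf_le_right : V.1 ⊓ W i ≤ W i)).op).hom z := fun z =>
      res_res₃ (X := CohB1.ProjSpace r k) (eqToHom (W i).ι_image_top).op
        ((W i).ι.opensFunctor.map (homOfLE le_top)).op (eqToHom hle.symm).op _ z
    have key' : φ (((W i).ι.app V.1).hom f) =
        ((CohB1.ProjSpace r k).presheaf.map (homOfLE (inf_le_left : V.1 ⊓ W i ≤ V.1)).op).hom f :=
      res_res (X := CohB1.ProjSpace r k) _ (eqToHom hle.symm).op _ f
    rw [← key', ← key]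
    exact (map_dvd_iff (RingEquiv.ofBijective φ hφ)).symm
  have hle : J ≤ LefPen.hypIdeal G :=
    Scheme.IdealSheafData.le_ofIdeals_iff.2 fun V => (hJ V).le
  exact (hJ U).ge.trans (hle U)

/-- On the standard chart `D_+(T_j)` the ideal of `V_+(G)` is generated by `G / T_j^d`. -/
theorem hypIdeal_chart {d : ℕ} (G : LefPen.Form r k d) (j : Fin (r + 1)) :
    (LefPen.hypIdeal G).ideal (chartA j) = Ideal.span {LefPen.dehom G j} := by
  rw [hypIdeal_ideal]
  let Y := CohB1.ProjSpace r k
  let C := LefPen.chart r k j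
  show LefPen.hypFamily G (chartA j) = (Ideal.span {LefPen.dehom G j} : Ideal Γ(Y, C))
  refine le_antisymm (fun f hf => ?_) ((Ideal.span_singleton_le_iff_mem _).2 ?_)
  · have hj := (Submodule.mem_iInf _).1 hf j
    obtain ⟨a, ha⟩ := Ideal.mem_span_singleton'.1 (Ideal.mem_comap.1 hj)
    have hid : C ≤ (chartA j).1 ⊓ C := le_inf le_rfl le_rfl
    have h1 : ∀ (z : Γ(Y, C)), (Y.presheaf.map (homOfLE hid).op).hom
        ((Y.presheaf.map (homOfLE (inf_le_right : (chartA j).1 ⊓ C ≤ C)).op).hom z) = z := fun z =>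
      (res_res (X := Y) _ _ (𝟙 (op C)) z).trans (by rw [CategoryTheory.Functor.map_id]; rfl)
    have h2 : (Y.presheaf.map (homOfLE hid).op).hom
        ((Y.presheaf.map (homOfLE (inf_le_left : (chartA j).1 ⊓ C ≤ (chartA j).1)).op).hom f) = f :=
      (res_res (X := Y) _ _ (𝟙 (op (chartA j).1)) f).trans (by rw [CategoryTheory.Functor.map_id]; rfl)
    refine Ideal.mem_span_singleton'.2 ⟨(Y.presheaf.map (homOfLE hid).op).hom a, ?_⟩
    have h3 := congrArg (Y.presheaf.map (homOfLE hid).op).hom ha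
    rw [map_mul] at h3
    exact ((congrArg _ (h1 _).symm).trans h3).trans h2
  · refine Ideal.mem_iInf.2 fun i => ?_
    exact Ideal.mem_comap.2 (Ideal.mem_span_singleton'.2
      ⟨_, (dehom_res G i j ((chartA j).1 ⊓ LefPen.chart r k i) inf_le_right inf_le_left).symm⟩)

end

end Groth.Agent.LefPenLib
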