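import Groth.Agent.LefGeo.Elim
import Mathlib.Algebra.MvPolynomial.PDeriv
import Mathlib.Algebra.Polynomial.Inductions
import Mathlib.LinearAlgebra.Matrix.NonsingularInverse

/-!
# Restricting a polynomial to a line, and limits over a valuation ring
-/

universe u

open MvPolynomial Matrix

namespace Groth.Agent.LefPenLib

noncomputable section

section Line

variable {R S : Type*} [CommRing R] [CommRing S] {σ : Type*}

/-- the restriction to a line -/
def lineP (x w : σ → R) (G : MvPolynomial σ R) : Polynomial R :=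
  aeval (fun l => Polynomial.C (x l) + Polynomial.C (w l) * Polynomial.X) G

theorem lineP_map (f : R →+* S) (x w : σ → R) (G : MvPolynomial σ R) :
    (lineP x w G).map f = lineP (fun l => f (x l)) (fun l => f (w l)) (map f G) := by
  induction G using MvPolynomial.induction_on with
  | C a => simp [lineP]
  | add p q hp hq => simp [lineP, map_add] at hp hq ⊢; rw [hp, hq]
  | mul_X p l hp => simp [lineP, map_mul] at hp ⊢; rw [hp]

theorem eval_lineP (x w : σ → R) (G : MvPolynomial σ R) (t : R) :
    (lineP x w G).eval t = eval (fun l => x l + w l * t) G := by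
  induction G using MvPolynomial.induction_on with
  | C a => simp [lineP]
  | add p q hp hq => simp [lineP, map_add] at hp hq ⊢; rw [hp, hq]
  | mul_X p l hp => simp [lineP, map_mul] at hp ⊢; rw [hp]

theorem coeff_lineP_zero (x w : σ → R) (G : MvPolynomial σ R) : (lineP x w G).coeff 0 = eval x G := by
  rw [Polynomial.coeff_zero_eq_eval_zero, eval_lineP]
  simp

theorem coeff_lineP_one [Fintype σ] (x w : σ → R) (G : MvPolynomial σ R) :
    (lineP x w G).coeff 1 = ∑ l, w l * eval x (pderiv l G) := by
  classical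
  induction G using MvPolynomial.induction_on with
  | C a => simp [lineP, Polynomial.coeff_C]
  | add p q hp hq =>
    simp [lineP, map_add, mul_add, Finset.sum_add_distrib] at hp hq ⊢; rw [hp, hq]
  | mul_X p l hp =>
    have h0 := coeff_lineP_zero x w p
    simp only [lineP, map_mul, aeval_X, mul_add, Polynomial.coeff_add, ← mul_assoc,
      Polynomial.coeff_mul_C, Polynomial.coeff_mul_X] at hp h0 ⊢
    rw [hp, h0]
    simp [pderiv_mul, pderiv_X, Pi.single_apply, Finset.sum_add_distrib, mul_add, apply_ite (eval x),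
      Finset.sum_mul, mul_ite]
    rw [add_comm]
    exact congrArg₂ (· + ·) (by ring) (Finset.sum_congr rfl fun m _ => by ring)

theorem lineP_smul (x w : σ → R) (a : R) (G : MvPolynomial σ R) :
    lineP x (a • w) G = (lineP x w G).comp (Polynomial.C a * Polynomial.X) := by
  induction G using MvPolynomial.induction_on with
  | C c => simp [lineP]
  | add p q hp hq => simp [lineP, map_add] at hp hq ⊢; rw [hp, hq]
  | mul_X p l hp => simp [lineP, map_mul] at hp ⊢; rw [hp]; ring

theorem coeff_two_lineP_smul (x w : σ → R) (a : R) (G : MvPolynomial σ R) :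
    (lineP x (a • w) G).coeff 2 = a ^ 2 * (lineP x w G).coeff 2 := by
  rw [lineP_smul, Polynomial.comp_C_mul_X_coeff, mul_comm]

/-- second order expansion -/
theorem exists_eval_line [Fintype σ] (x w : σ → R) (G : MvPolynomial σ R) (t : R) :
    ∃ z, eval (fun l => x l + w l * t) G =
      eval x G + t * (∑ l, w l * eval x (pderiv l G) + t * ((lineP x w G).coeff 2 + t * z)) := by
  refine ⟨(lineP x w G).divX.divX.divX.eval t, ?_⟩
  rw [← eval_lineP, ← coeff_lineP_zero, ← coeff_lineP_one]
  set p := lineP x w G
  have e : ∀ q : Polynomial R, q.eval t = q.coeff 0 + t * q.divX.eval t := fun q => by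
    conv_lhs => rw [← q.X_mul_divX_add]
    simp only [Polynomial.eval_add, Polynomial.eval_mul, Polynomial.eval_X, Polynomial.eval_C]
    ring
  rw [e p, e p.divX, e p.divX.divX]
  simp [Polynomial.coeff_divX]

/-- the quadratic term of a function vanishing to second order at `x` and vanishing at a second point of the line -/
theorem exists_coeff_two [IsDomain R] [Fintype σ] {x w : σ → R} {G : MvPolynomial σ R} {t : R} (ht : t ≠ 0)
    (h0 : eval x G = 0) (h1 : ∀ l, eval x (pderiv l G) = 0) (h2 : eval (fun l => x l + w l * t) G = 0) :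
    ∃ z, (lineP x w G).coeff 2 = t * z := by
  obtain ⟨z, hz⟩ := exists_eval_line x w G t
  simp only [h0, h1, h2, mul_zero, Finset.sum_const_zero, zero_add] at hz
  exact ⟨-z, by linear_combination ((mul_eq_zero.1 ((mul_eq_zero.1 hz.symm).resolve_left ht)).resolve_left ht)⟩

/-- evaluation commutes with maps -/
theorem eval_map_hom (f : R →+* S) (x : σ → R) (P : MvPolynomial σ R) :
    eval (fun l => f (x l)) (map f P) = f (eval x P) := by
  induction P using MvPolynomial.induction_on with
  | C a => simp
  | add p q hp hq => simp [map_add, hp, hq]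
  | mul_X p l hp => simp [map_mul, hp]

theorem eval_pderiv_map (f : R →+* S) (x : σ → R) (P : MvPolynomial σ R) (l : σ) :
    eval (fun l => f (x l)) (pderiv l (map f P)) = f (eval x (pderiv l P)) := by
  rw [pderiv_map, eval_map_hom]

end Line

section Lift

variable {k : Type u} [Field k]

/-- A point in the closure of the projection of a set of witnesses lifts to a valued field. -/
theorem exists_limit {ι σ : Type} (S : Set (ι ⊕ σ → k)) (x : ι → k) :
    (∃ P : MvPolynomial ι k, eval x P ≠ 0 ∧ ∀ s ∈ S, eval (fun l => s (Sum.inl l)) P = 0) ∨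
      ∃ (K : Type u) (_ : Field K) (_ : Algebra k K) (V : ValuationSubring K) (_ : Algebra k V)
        (_ : IsScalarTower k V K) (κ : Type u) (_ : Field κ) (_ : Algebra k κ) (res : V →ₐ[k] κ) (w : ι ⊕ σ → K)
        (y : ι → V), (∀ v : V, res v ≠ 0 → IsUnit v) ∧ (∀ P, (∀ s ∈ S, eval s P = 0) → aeval w P = 0) ∧
          (∀ l, (y l : K) = w (Sum.inl l)) ∧ ∀ l, res (y l) = algebraMap k κ (x l) := by
  refine or_iff_not_imp_left.2 fun hno => ?_
  push Not at hno
  let J : Ideal (MvPolynomial (ι ⊕ σ) k) := ⨅ s : S, RingHom.ker (eval (s : ι ⊕ σ → k))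
  have hJ : ∀ P, P ∈ J ↔ ∀ s ∈ S, eval s P = 0 := fun P => by simp [J, Ideal.mem_iInf]
  obtain ⟨K, iK, iA, V, w, κ, iκ, iAκ, res, hk, hres, hunit, hw, hy⟩ := LefGeo.exists_lift J x fun P hP => by
    by_contra hne
    obtain ⟨s, hs, hs'⟩ := hno P hne
    exact hs' (by simpa [eval_rename, Function.comp_def] using (hJ _).1 hP s hs)
  letI : Algebra k V := ((algebraMap k K).codRestrict V.toSubring hk).toAlgebra
  choose hy hy' using hy
  exact ⟨K, iK, iA, V, inferInstance, IsScalarTower.of_algebraMap_eq fun a => rfl, κ, iκ, iAκ,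
    { res with commutes' := hres }, w, fun l => ⟨_, hy l⟩, fun v hv => by_contra fun h => hv (hunit v h),
    fun P hP => hw P ((hJ P).2 hP), fun l => rfl, hy'⟩

variable {K : Type u} [Field K] {V : ValuationSubring K}

/-- a linear system with unit determinant has integral solutions -/
theorem exists_int_sol {m : ℕ} (M : Matrix (Fin m) (Fin m) V) (hM : IsUnit M.det) (h : Fin m → V) (c : Fin m → K)
    (hc : ∀ b, ∑ a, c a * (M a b : K) = h b) : ∃ c' : Fin m → V, (∀ a, (c' a : K) = c a) ∧ c' = h ᵥ* M⁻¹ := by
  refine ⟨h ᵥ* M⁻¹, fun a => congrFun (?_ : V.subtype ∘ (h ᵥ* M⁻¹) = c) a, rfl⟩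
  have hM' : IsUnit (M.map V.subtype).det := by
    rw [← RingHom.mapMatrix_apply, ← RingHom.map_det]; exact hM.map _
  refine Matrix.vecMul_injective_of_isUnit ((Matrix.isUnit_iff_isUnit_det _).2 hM') ?_
  show _ ᵥ* M.map V.subtype = _ ᵥ* M.map V.subtype
  have e : ∀ u : Fin m → V, V.subtype ∘ (u ᵥ* M) = (V.subtype ∘ u) ᵥ* M.map V.subtype := fun u =>
    funext fun b => RingHom.map_vecMul V.subtype M u b
  rw [← e, Matrix.vecMul_vecMul, Matrix.nonsing_inv_mul _ hM, Matrix.vecMul_one]
  funext b
  exact (hc b).symm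

end Lift

end

end Groth.Agent.LefPenLib
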