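import Groth.Agent.LefPenLib.GoodFinal
import Groth.Agent.LefPenLib.Irred
import Groth.Agent.LefPenLib.BaseLocus

/-!
# Lefschetz pencils: the conditions on the members
-/

universe u

open CategoryTheory AlgebraicGeometry Opposite TopologicalSpace
open MvPolynomial

namespace Groth.Agent.LefPenLib

noncomputable section

variable {r n d : ℕ} {k : Type u} [Field k] {X : Scheme.{u}} (i : X ⟶ CohB1.ProjSpace r k) [IsClosedImmersion i]

theorem crd_smul (c : k) (H : LefPen.Form r k d) : crd (c • H) = c • crd H := funext fun l => by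
  simp [crd]

theorem crd_add (F G : LefPen.Form r k d) : crd (F + G) = crd F + crd G := funext fun l => by
  simp [crd]

theorem BadAt.smul_form {v : Fin (r + 1) → k} {G : LefPen.Form r k d} (h : BadAt i v G) (c : k) :
    BadAt i v (c • G) := by
  refine ⟨h.1, by simp [smul_eval, h.2.1], ?_⟩
  have : grad v (c • G : LefPen.Form r k d).1 = c • grad v G.1 := by
    funext s; simp [grad, smul_eval]
  rw [this]
  exact Submodule.smul_mem _ _ h.2.2

theorem q2_smul {σ : Type*} [Fintype σ] (v w : σ → k) (G : MvPolynomial σ k) (c : k) :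
    q2 v (c • G) w = c * q2 v G w := by simp [q2]

theorem polar_smul {σ : Type*} [Fintype σ] (v w u : σ → k) (G : MvPolynomial σ k) (c : k) :
    polar v (c • G) w u = c * polar v G w u := by
  simp [polar, Finset.mul_sum, smul_eval, mul_left_comm c]

theorem GoodOne.smul {G : LefPen.Form r k d} (h : GoodOne i G) {c : k} (hc : c ≠ 0) : GoodOne i (c • G) := by
  obtain ⟨j, ev, hmem, hord, huniq⟩ := h
  refine ⟨j, ev, ?_, fun P hP h0 h1 => ?_, fun v hv hbad => huniq v hv ?_⟩
  · rw [Submodule.coe_smul, map_smul, Algebra.smul_def]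
    exact Ideal.mul_mem_left _ _ hmem
  · have h := hord (c⁻¹ • P) (by rw [map_smul, hP, Submodule.coe_smul, map_smul, smul_smul, inv_mul_cancel₀ hc, one_smul])
      (by simp [smul_eval, h0]) (fun l => by simp [smul_eval, h1 l])
    intro w hw hq hp
    exact h w hw (by rw [q2_smul, hq, mul_zero]) fun u hu => by rw [polar_smul, hp u hu, mul_zero]
  · simpa [smul_smul, inv_mul_cancel₀ hc] using hbad.smul_form i c⁻¹

variable [IrreducibleSpace X] [SmoothOfRelativeDimension n (i ≫ CohB1.ProjSpace.toSpec r k)] [IsAlgClosed k]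

variable (n) in
/-- a section singular, but not in exactly one ordinary point -/
def WorseThanGood (H : LefPen.Form r k d) : Prop :=
  (∃ v : Fin (r + 1) → k, v ≠ 0 ∧ BadAt i v H) ∧ ¬ GoodOne i H

omit [IrreducibleSpace X] [SmoothOfRelativeDimension n (i ≫ CohB1.ProjSpace.toSpec r k)] [IsAlgClosed k] in
theorem WorseThanGood.smul {H : LefPen.Form r k d} (h : WorseThanGood i H) {c : k} (hc : c ≠ 0) :
    WorseThanGood i (c • H) := by
  obtain ⟨⟨v, hv, hbad⟩, hng⟩ := h
  refine ⟨⟨v, hv, hbad.smul_form i c⟩, fun hg => hng ?_⟩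
  simpa [smul_smul, inv_mul_cancel₀ hc] using hg.smul i (inv_ne_zero hc)

include n in
theorem worse_iff (hn : 1 ≤ n) (H : LefPen.Form r k d) : WorseThanGood i H ↔
    (¬ LefPen.Transversal k n 1 (LefPen.secToSpec i ({H} : Set (LefPen.Form r k d))) ∧
      ¬ LefPen.OneOrdQuad k n i H) := by
  rw [oneOrdQuad_iff (n := n) i hn H, not_transversal_iff_badAt i hn H, WorseThanGood]

include n in
theorem exists_zero_bad (hn : 1 ≤ n) : ∃ v : Fin (r + 1) → k, v ≠ 0 ∧ BadAt i v (0 : LefPen.Form r k d) := by
  haveI := isIntegral_X (n := n) i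
  obtain ⟨x⟩ : Nonempty X := inferInstance
  obtain ⟨j, hj⟩ := Opens.mem_iSup.1 ((iSup_chartX i).symm ▸ Opens.mem_top x)
  haveI : Nonempty (chartX i j : X.Opens) := ⟨⟨x, hj⟩⟩
  haveI : Nontrivial Γ(X, chartX i j) := Scheme.component_nontrivial X (chartX i j)
  haveI : Algebra.FiniteType k Γ(X, chartX i j) := Algebra.FiniteType.of_surjective _ (psi_surjective i j)
  obtain ⟨M, hM⟩ := Ideal.exists_maximal Γ(X, chartX i j)
  obtain ⟨ev, -⟩ := exists_ev (k := k) M
  refine ⟨pt (psi i j) ev, fun h0 => ?_, inCone_pt i j ev, by simp, ?_⟩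
  · have := pt_self i j ev
    rw [h0] at this
    exact zero_ne_one this
  · rw [show grad (pt (psi i j) ev) (0 : LefPen.Form r k d).1 = 0 from funext fun s => by simp [grad]]
    exact zero_mem _

include n in
theorem worse_zero (hn : 1 ≤ n) : WorseThanGood i (0 : LefPen.Form r k d) := by
  obtain ⟨v, hv, hbad⟩ := exists_zero_bad (n := n) i hn (d := d)
  refine ⟨⟨v, hv, hbad⟩, ?_⟩
  rintro ⟨j, ev, -, hord, -⟩
  obtain ⟨⟨P⟩, -⟩ := exists_fpt_chart (n := n) i j ev
  have h := (ordQuadSeries_iff P (psi_surjective i j) (G := 0) (by simp) (by simp)).2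
    (hord 0 (by simp) (by simp) (by simp))
  rw [map_zero, map_zero] at h
  exact not_ordQuadSeries_zero hn h

include n in
/-- the forms worse than good are cut out by homogeneous polynomials -/
theorem exists_homog_worse (hn : 1 ≤ n) (H : LefPen.Form r k d) (hH : ¬ WorseThanGood i H) :
    ∃ (p : MvPolynomial (FormIdx k r d) k) (e : ℕ), p.IsHomogeneous e ∧ eval (crd H) p ≠ 0 ∧
      ∀ H' : LefPen.Form r k d, WorseThanGood i H' → eval (crd H') p = 0 := by
  obtain ⟨f, hf, hfH, hfB⟩ : ∃ f : LefPen.Form r k d → k, LefPen.IsPolyFun k f ∧ f H ≠ 0 ∧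
      ∀ H', WorseThanGood i H' → f H' = 0 := by
    by_cases hT : LefPen.Transversal k n 1 (LefPen.secToSpec i ({H} : Set (LefPen.Form r k d)))
    · obtain ⟨f, hf, hfH, hf'⟩ := isZOpen_transversal i hn H hT
      exact ⟨f, hf, hfH, fun H' hw => by_contra fun hne => ((worse_iff i hn H').1 hw).1 (hf' H' hne)⟩
    · have hg : GoodOne i H := by
        by_contra hng
        exact hH ⟨(not_transversal_iff_badAt i hn H).1 hT, hng⟩
      obtain ⟨f, hf, hfH, hf'⟩ := exists_polyFun_goodOne i hn H hg
      exact ⟨f, hf, hfH, fun H' hw => by_contra fun hne => hw.2 (hf' H' ((worse_iff i hn H').1 hw).1 hne)⟩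
  obtain ⟨p, hp⟩ := exists_poly_of_isPolyFun (LefGeo.formBasis k r d) hf
  have hp' : ∀ H', f H' = eval (crd H') p := hp
  obtain ⟨e, he⟩ : ∃ e, eval (crd H) (homogeneousComponent e p) ≠ 0 := by
    by_contra! h
    refine hfH ?_
    rw [hp', ← sum_homogeneousComponent p, map_sum]
    exact Finset.sum_eq_zero fun e _ => h e
  refine ⟨_, e, homogeneousComponent_isHomogeneous e p, he, fun H' hw => ?_⟩
  let q : Polynomial k := ∑ m ∈ Finset.range (p.totalDegree + 1),
    Polynomial.C (eval (crd H') (homogeneousComponent m p)) * Polynomial.X ^ m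
  have hq : ∀ c : k, c ≠ 0 → q.eval c = 0 := fun c hc => by
    have h0 := hfB _ (hw.smul i hc)
    rw [hp', crd_smul, ← sum_homogeneousComponent p, map_sum] at h0
    rw [← h0, Polynomial.eval_finsetSum]
    refine Finset.sum_congr rfl fun m _ => ?_
    rw [LefGeo.eval_smul_of_isHomogeneous (homogeneousComponent_isHomogeneous m p)]
    rw [Polynomial.eval_mul, Polynomial.eval_C, Polynomial.eval_pow, Polynomial.eval_X]
    exact mul_comm _ _
  have hq0 : q = 0 := Polynomial.eq_zero_of_infinite_isRoot q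
    (Set.Infinite.mono (fun c hc => hq c hc) (Set.finite_singleton (0 : k)).infinite_compl)
  by_cases hem : e ∈ Finset.range (p.totalDegree + 1)
  · have := congrArg (fun t => Polynomial.coeff t e) hq0
    simpa [q, Polynomial.finset_sum_coeff, Polynomial.coeff_C_mul_X_pow, hem] using this
  · rw [homogeneousComponent_eq_zero _ _ (by simpa using hem), map_zero]

include n in
/-- A Lefschetz pencil in terms of singular points. -/
theorem isLefschetzPencil_iff (hn : 1 ≤ n) (F G : LefPen.Form r k d) :
    LefPen.IsLefschetzPencil k n i d F G ↔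
      (∃ c : k, LefPen.Transversal k n 1 (LefPen.secToSpec i ({F + c • G} : Set (LefPen.Form r k d)))) ∧
      (∀ v : Fin (r + 1) → k, v ≠ 0 → ¬ BadPair i v F G) ∧
      ∀ a b : k, (a ≠ 0 ∨ b ≠ 0) → ¬ WorseThanGood i (a • F + b • G) := by
  have hpair : ∀ c : k, (∀ v : Fin (r + 1) → k, v ≠ 0 → ¬ BadPair i v (F + c • G) G) ↔
      ∀ v : Fin (r + 1) → k, v ≠ 0 → ¬ BadPair i v F G := fun c => by
    refine forall₂_congr fun v _ => not_congr ?_
    constructor
    · rintro ⟨h1, h2, a, b, hab, hbad⟩
      refine ⟨by simpa [smul_eval, h2] using h1, h2, a, a * c + b, ?_, ?_⟩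
      · by_cases ha : a = 0
        · exact Or.inr (by simpa [ha] using hab.resolve_left (not_not_intro ha))
        · exact Or.inl ha
      · convert hbad using 1
        rw [smul_add, smul_smul, add_smul, add_assoc]
    · rintro ⟨h1, h2, a, b, hab, hbad⟩
      refine ⟨by simp [smul_eval, h1, h2], h2, a, b - a * c, ?_, ?_⟩
      · by_cases ha : a = 0
        · exact Or.inr (by simpa [ha] using hab.resolve_left (not_not_intro ha))
        · exact Or.inl ha
      · convert hbad using 1
        rw [smul_add, smul_smul, add_assoc, ← add_smul, add_sub_cancel]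
  have hsec : ∀ c : k, LefPen.secIdeal i ({F + c • G, G} : Set (LefPen.Form r k d)) = LefPen.secIdeal i {F, G} := fun c => by
    refine Scheme.IdealSheafData.ext_of_iSup_eq_top (fun j : Fin (r + 1) => chartXA i j) (iSup_chartX i) fun j => ?_
    rw [secIdeal_chart, secIdeal_chart, Set.image_pair, Set.image_pair, Submodule.coe_add, Submodule.coe_smul,
      map_add, map_smul, Algebra.smul_def]
    refine le_antisymm (Ideal.span_le.2 ?_) (Ideal.span_le.2 ?_) <;> rintro _ (rfl | rfl)
    · exact add_mem (Ideal.subset_span (Or.inl rfl)) (Ideal.mul_mem_left _ _ (Ideal.subset_span (Or.inr rfl)))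
    · exact Ideal.subset_span (Or.inr rfl)
    · have h1 : psi i j F.1 + algebraMap k _ c * psi i j G.1 ∈
          Ideal.span {psi i j F.1 + algebraMap k _ c * psi i j G.1, psi i j G.1} := Ideal.subset_span (Or.inl rfl)
      have h2 := Ideal.mul_mem_left _ (algebraMap k _ c) (Ideal.subset_span (Or.inr rfl) :
        psi i j G.1 ∈ Ideal.span {psi i j F.1 + algebraMap k _ c * psi i j G.1, psi i j G.1})
      simpa using sub_mem h1 h2
    · exact Ideal.subset_span (Or.inr rfl)
  have hbase : ∀ c : k, LefPen.Transversal k n 2 (LefPen.secToSpec i ({F + c • G, G} : Set (LefPen.Form r k d))) ↔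
      LefPen.Transversal k n 2 (LefPen.secToSpec i ({F, G} : Set (LefPen.Form r k d))) := fun c => by
    have key : ∀ I J : X.IdealSheafData, I = J →
        (LefPen.Transversal k n 2 (I.subschemeι ≫ i ≫ CohB1.ProjSpace.toSpec r k) ↔
          LefPen.Transversal k n 2 (J.subschemeι ≫ i ≫ CohB1.ProjSpace.toSpec r k)) := by
      rintro I J rfl; rfl
    exact key _ _ (hsec c)
  constructor
  · rintro ⟨-, hbl, hfin, hmem⟩
    obtain ⟨c, hc⟩ : ∃ c, LefPen.Transversal k n 1 (LefPen.secToSpec i ({F + c • G} : Set (LefPen.Form r k d))) := by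
      obtain ⟨c, hc⟩ := hfin.infinite_compl.nonempty
      exact ⟨c, not_not.1 hc⟩
    refine ⟨⟨c, hc⟩, (hpair c).1 ((transversal_two_iff (n := n) i hn _ G hc).1 ((hbase c).2 hbl)), fun a b hab hw => ?_⟩
    by_cases ha : a = 0
    · subst ha
      have hb : b ≠ 0 := hab.resolve_left (not_not_intro rfl)
      have h1 : WorseThanGood i G := by
        simpa [smul_smul, inv_mul_cancel₀ hb] using hw.smul i (inv_ne_zero hb)
      have h2 := (worse_iff i hn G).1 h1
      exact h2.2 (hmem G (Or.inl rfl) h2.1)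
    · have h1 : WorseThanGood i (F + (a⁻¹ * b) • G) := by
        simpa [smul_add, smul_smul, inv_mul_cancel₀ ha] using hw.smul i (inv_ne_zero ha)
      have h2 := (worse_iff i hn _).1 h1
      exact h2.2 (hmem _ (Or.inr ⟨_, rfl⟩) h2.1)
  · rintro ⟨⟨c, hc⟩, hnp, hnw⟩
    refine ⟨?_, (hbase c).1 ((transversal_two_iff (n := n) i hn _ G hc).2 ((hpair c).2 hnp)), ?_, fun H hH hT => ?_⟩
    · rw [LinearIndependent.pair_iff]
      intro a b hab
      by_contra hne
      rw [not_and_or] at hne
      exact hnw a b hne (hab ▸ worse_zero (n := n) i hn)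
    · obtain ⟨f, hf, hfc, hf'⟩ := isZOpen_transversal i hn _ hc
      obtain ⟨p, hp⟩ := exists_poly_of_isPolyFun (LefGeo.formBasis k r d) hf
      let q : Polynomial k := aeval (fun l => Polynomial.C (crd F l) + Polynomial.C (crd G l) * Polynomial.X) p
      have hq : ∀ c' : k, q.eval c' = f (F + c' • G) := fun c' => by
        rw [show q = lineP (crd F) (crd G) p from rfl, eval_lineP, hp]
        refine congrArg (fun u => eval u p) (funext fun l => ?_)
        show _ = crd (F + c' • G) l
        rw [crd_add, crd_smul, Pi.add_apply, Pi.smul_apply, smul_eq_mul, mul_comm]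
      have hq0 : q ≠ 0 := fun h0 => hfc (by rw [← hq, h0, Polynomial.eval_zero])
      refine (Polynomial.finite_setOfPred_isRoot hq0).subset fun c' hc' => ?_
      by_contra hne
      exact hc' (hf' _ (by rw [← hq]; exact hne))
    · by_contra hng
      have hw := (worse_iff i hn H).2 ⟨hT, hng⟩
      rcases hH with rfl | ⟨c', rfl⟩
      · exact hnw 0 1 (Or.inr one_ne_zero) (by simpa using hw)
      · exact hnw 1 c' (Or.inl one_ne_zero) (by simpa using hw)

end

end Groth.Agent.LefPenLib
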