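import Groth.Agent.LefPenLib.Pencil

/-!
# Lefschetz pencils form an open set
-/

universe u

open CategoryTheory AlgebraicGeometry Opposite TopologicalSpace
open MvPolynomial

namespace Groth.Agent.LefPenLib

noncomputable section

variable {r n d : ℕ} {k : Type u} [Field k] {X : Scheme.{u}} (i : X ⟶ CohB1.ProjSpace r k) [IsClosedImmersion i]
  [IrreducibleSpace X] [SmoothOfRelativeDimension n (i ≫ CohB1.ProjSpace.toSpec r k)] [IsAlgClosed k]

omit [IsAlgClosed k] in
theorem isPolyFun_pair (p : MvPolynomial (FormIdx k r d ⊕ FormIdx k r d) k) :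
    LefPen.IsPolyFun k fun FG : LefPen.Form r k d × LefPen.Form r k d =>
      eval (Sum.elim (crd FG.1) (crd FG.2)) p := by
  have := LefGeo.isPolyFun_eval (k := k) (V := LefPen.Form r k d × LefPen.Form r k d)
    (Sum.elim (fun l => ((LefGeo.formBasis k r d).coord l).comp (LinearMap.fst k _ _))
      (fun l => ((LefGeo.formBasis k r d).coord l).comp (LinearMap.snd k _ _))) p
  convert this using 4 with FG
  funext l; cases l <;> rfl

include n in
/-- no member being worse than good is open -/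
theorem exists_poly_no_worse (hn : 1 ≤ n) (F G : LefPen.Form r k d)
    (h : ∀ a b : k, (a ≠ 0 ∨ b ≠ 0) → ¬ WorseThanGood i (a • F + b • G)) :
    ∃ p : MvPolynomial (FormIdx k r d ⊕ FormIdx k r d) k, eval (Sum.elim (crd F) (crd G)) p ≠ 0 ∧
      ∀ F' G' : LefPen.Form r k d, eval (Sum.elim (crd F') (crd G')) p ≠ 0 →
        ∀ a b : k, (a ≠ 0 ∨ b ≠ 0) → ¬ WorseThanGood i (a • F' + b • G') := by
  let α := {q : MvPolynomial (FormIdx k r d) k // (∃ e, q.IsHomogeneous e) ∧
    ∀ H' : LefPen.Form r k d, WorseThanGood i H' → eval (crd H') q = 0}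
  let sub : MvPolynomial (FormIdx k r d) k →ₐ[k] MvPolynomial ((FormIdx k r d ⊕ FormIdx k r d) ⊕ Fin 2) k :=
    aeval fun l => MvPolynomial.X (Sum.inr 0) * MvPolynomial.X (Sum.inl (Sum.inl l)) +
      MvPolynomial.X (Sum.inr 1) * MvPolynomial.X (Sum.inl (Sum.inr l))
  have hsub : ∀ (K : Type u) [Field K] [Algebra k K] (q : MvPolynomial (FormIdx k r d) k)
      (y : FormIdx k r d ⊕ FormIdx k r d → K) (z : Fin 2 → K),
      aeval (Sum.elim y z) (sub q) = aeval (fun l => z 0 * y (Sum.inl l) + z 1 * y (Sum.inr l)) q := fun K _ _ q y z => by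
    rw [← AlgHom.comp_apply]
    congr 1
    exact algHom_ext fun l => by simp [sub]
  have hev : ∀ (F G : LefPen.Form r k d) (z : Fin 2 → k) q, eval (Sum.elim (Sum.elim (crd F) (crd G)) z) (sub q) =
      eval (crd (z 0 • F + z 1 • G)) q := fun F G z q => by
    rw [← aeval_eq_eval, hsub, aeval_eq_eval]
    refine congrArg (fun u => eval u q) (funext fun l => ?_)
    simp [crd_add, crd_smul]
  obtain ⟨p, hp, hp'⟩ := LefGeo.exists_poly_no_nontrivial_zero (fun q : α => sub q.1)
    (fun K _ _ q y z l hq => by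
      obtain ⟨e, he⟩ := q.2.1
      rw [hsub] at hq ⊢
      have := LefGeo.eval_smul_of_isHomogeneous (he.map (algebraMap k K)) l
        (fun m => z 0 * y (Sum.inl m) + z 1 * y (Sum.inr m))
      rw [MvPolynomial.eval_map, MvPolynomial.eval_map, ← aeval_def, ← aeval_def, hq, mul_zero] at this
      refine (congrArg (fun u => aeval u q.1) (funext fun m => ?_)).trans this
      simp [mul_add, mul_assoc])
    (Sum.elim (crd F) (crd G)) (fun z hz => by
      have hab : z 0 ≠ 0 ∨ z 1 ≠ 0 := by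
        by_contra! h0
        exact hz (funext fun m => by fin_cases m <;> simp [h0.1, h0.2])
      obtain ⟨q, e, he, hq, hqB⟩ := exists_homog_worse i hn _ (h (z 0) (z 1) hab)
      exact ⟨⟨q, ⟨e, he⟩, hqB⟩, by rw [hev]; exact hq⟩)
  refine ⟨p, hp, fun F' G' hH a b hab hw => ?_⟩
  obtain ⟨q, hq⟩ := hp' _ hH ![a, b] (fun h0 => by
    have e0 := congrFun h0 0
    have e1 := congrFun h0 1
    simp at e0 e1
    exact hab.elim (fun h => h e0) (fun h => h e1))
  exact hq (by rw [hev]; exact q.2.2 _ hw)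

include n in
/-- Lefschetz pencils form a Zariski open set of pairs. -/
theorem isZOpen_pencil (hn : 1 ≤ n) :
    LefPen.IsZOpen k {FG : LefPen.Form r k d × LefPen.Form r k d | LefPen.IsLefschetzPencil k n i d FG.1 FG.2} := by
  rintro ⟨F, G⟩ hFG
  obtain ⟨⟨c, hc⟩, hnp, hnw⟩ := (isLefschetzPencil_iff i hn F G).1 hFG
  obtain ⟨f, hf, hfc, hf'⟩ := isZOpen_transversal i hn _ hc
  obtain ⟨p1, hp1, hp1'⟩ := exists_poly_no_badPair (n := n) i F G hnp
  obtain ⟨p2, hp2, hp2'⟩ := exists_poly_no_worse i hn F G hnw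
  refine ⟨fun FG => f (FG.1 + c • FG.2) * eval (Sum.elim (crd FG.1) (crd FG.2)) (p1 * p2), ?_, ?_, fun FG hne => ?_⟩
  · have h1 : LefPen.IsPolyFun k fun FG : LefPen.Form r k d × LefPen.Form r k d => f (FG.1 + c • FG.2) := by
      have := isPolyFun_comp hf (LinearMap.fst k (LefPen.Form r k d) (LefPen.Form r k d) +
        c • LinearMap.snd k (LefPen.Form r k d) (LefPen.Form r k d))
      simpa using this
    exact mul_mem h1 (isPolyFun_pair _)
  · simp [mul_ne_zero_iff, hfc, hp1, hp2]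
  · simp only [map_mul, mul_ne_zero_iff] at hne
    exact (isLefschetzPencil_iff i hn FG.1 FG.2).2
      ⟨⟨c, hf' _ hne.1⟩, hp1' _ _ hne.2.1, hp2' _ _ hne.2.2⟩

end

end Groth.Agent.LefPenLib
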