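import Groth.Agent.LefPenLib.Avoid
import Groth.Agent.LefPenLib.GoodData
import Groth.Agent.LefPenLib.BadPair
import Mathlib.RingTheory.KrullDimension.NonZeroDivisors
import Mathlib.RingTheory.KrullDimension.Zero

/-!
# A generic form of a linear system is not singular on a piece of the variety
-/

universe u

open CategoryTheory AlgebraicGeometry Opposite TopologicalSpace
open MvPolynomial Matrix

namespace Groth.Agent.LefPenLib

noncomputable section

variable {r n d : ℕ} {k : Type u} [Field k] {X : Scheme.{u}} (i : X ⟶ CohB1.ProjSpace r k) [IsClosedImmersion i]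

/-- the linear polynomial of a vector -/
def linPoly (l : Fin (r + 1) → k) : MvPolynomial (Fin (r + 1)) k := ∑ t, MvPolynomial.C (l t) * MvPolynomial.X t

theorem eval_linPoly (l v : Fin (r + 1) → k) : eval v (linPoly l) = l ⬝ᵥ v := by
  simp [linPoly, dotProduct]

theorem grad_linPoly (l v : Fin (r + 1) → k) : grad v (linPoly l) = l := by
  funext s
  classical
  simp [grad, linPoly, pderiv_X, Pi.single_apply, apply_ite (eval v), mul_ite]

theorem isHomogeneous_linPoly (l : Fin (r + 1) → k) : (linPoly l).IsHomogeneous 1 :=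
  MvPolynomial.IsHomogeneous.sum _ _ _ fun t _ => (isHomogeneous_X k t).C_mul _

/-- the form `m ℓ^(d-1)` -/
def mulPow (hd : 1 ≤ d) (l m : Fin (r + 1) → k) : LefPen.Form r k d :=
  ⟨linPoly m * linPoly l ^ (d - 1), (mem_homogeneousSubmodule d _).2 (by
    have := (isHomogeneous_linPoly m).mul ((isHomogeneous_linPoly l).pow (d - 1))
    rwa [one_mul, Nat.add_sub_cancel' hd] at this)⟩

theorem eval_mulPow (hd : 1 ≤ d) (l m v : Fin (r + 1) → k) :
    eval v (mulPow hd l m).1 = (m ⬝ᵥ v) * (l ⬝ᵥ v) ^ (d - 1) := by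
  show eval v (linPoly m * linPoly l ^ (d - 1)) = _
  rw [map_mul, map_pow, eval_linPoly, eval_linPoly]

theorem grad_mulPow (hd : 1 ≤ d) (l m v : Fin (r + 1) → k) :
    grad v (mulPow hd l m).1 = (l ⬝ᵥ v) ^ (d - 1) • m + (((d - 1 : ℕ) : k) * ((m ⬝ᵥ v) * (l ⬝ᵥ v) ^ (d - 1 - 1))) • l := by
  funext s
  show eval v (pderiv s (linPoly m * linPoly l ^ (d - 1))) = _
  rw [pderiv_mul, map_add, map_mul, map_mul, map_pow, pderiv_pow, map_mul, map_mul, map_pow, map_natCast,
    eval_linPoly, eval_linPoly]
  rw [show eval v (pderiv s (linPoly m)) = m s from congrFun (grad_linPoly m v) s,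
    show eval v (pderiv s (linPoly l)) = l s from congrFun (grad_linPoly l v) s]
  simp only [Pi.add_apply, Pi.smul_apply, smul_eq_mul]
  ring

/-- the linear equations of singularity for a choice of equations -/
def lpoly {j : Fin (r + 1)} (D : MData i n j) (C' : Fin (r - n + 1) → Fin (r + 1)) (G : MvPolynomial (Fin (r + 1)) k) :
    MvPolynomial (Fin (r + 1)) k :=
  Matrix.det (Matrix.of fun p q => (Fin.cons (fun s => pderiv s G) fun a s => pderiv s (D.Q a).1 :
    Fin (r - n + 1) → Fin (r + 1) → MvPolynomial (Fin (r + 1)) k) p (C' q))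

theorem eval_lpoly {j : Fin (r + 1)} (D : MData i n j) (C' : Fin (r - n + 1) → Fin (r + 1))
    (G : MvPolynomial (Fin (r + 1)) k) (v : Fin (r + 1) → k) :
    eval v (lpoly i D C' G) =
      (Matrix.of fun p q => (Fin.cons (grad v G) fun a => grad v (D.Q a).1 : _ → Fin (r + 1) → k) p (C' q)).det := by
  rw [lpoly, RingHom.map_det]
  congr 1
  ext p q
  refine Fin.cases ?_ (fun a => ?_) p <;> simp [grad]

variable [IrreducibleSpace X] [SmoothOfRelativeDimension n (i ≫ CohB1.ProjSpace.toSpec r k)] [IsAlgClosed k]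

include n in
/-- On a piece `{Z = 0, U ≠ 0}` of a chart of dimension `≤ m`, a generic form of a linear system whose singularity
conditions have rank `> m` there is nowhere singular. -/
theorem exists_poly_piece (L : Submodule k (LefPen.Form r k d)) {N : ℕ} (bL : Module.Basis (Fin N) k L)
    (s : Fin (r + 1)) (Z U : Γ(X, chartX i s)) (m : ℕ)
    (hdim : ringKrullDim (Γ(X, chartX i s) ⧸ Ideal.span {Z}) ≤ m)
    (hrank : ∀ ev : Γ(X, chartX i s) →ₐ[k] k, ev Z = 0 → ev U ≠ 0 → ∃ G : Fin (m + 1) → L,
      ∀ c : Fin (m + 1) → k, BadAt i (pt (psi i s) ev) (∑ a, c a • (G a : LefPen.Form r k d)) → c = 0) :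
    ∃ p : MvPolynomial (Fin N) k, p ≠ 0 ∧ ∀ H : L, eval (fun l => bL.repr H l) p ≠ 0 →
      ∀ ev : Γ(X, chartX i s) →ₐ[k] k, ev Z = 0 → ev U ≠ 0 → ¬ BadAt i (pt (psi i s) ev) (H : LefPen.Form r k d) := by
  classical
  haveI : Algebra.FiniteType k Γ(X, chartX i s) := Algebra.FiniteType.of_surjective _ (psi_surjective i s)
  haveI : IsJacobsonRing Γ(X, chartX i s) := isJacobsonRing_of_finiteType (A := k)
  -- finitely many choices of equations cover the chart
  obtain ⟨S, hS⟩ : ∃ S : Finset (MData i n s), ∀ ev : Γ(X, chartX i s) →ₐ[k] k,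
      ∃ D ∈ S, eval (pt (psi i s) ev) D.minor ≠ 0 := by
    have hspan : Ideal.span (Set.range fun D : MData i n s => psi i s D.minor) = ⊤ := by
      by_contra hne
      obtain ⟨M, hM, hle⟩ := Ideal.exists_le_maximal _ hne
      obtain ⟨ev, hev⟩ := exists_ev (k := k) M
      obtain ⟨D, hD⟩ := exists_mdata i (n := n) ev
      have := hle (Ideal.subset_span ⟨D, rfl⟩)
      rw [← hev, RingHom.mem_ker, ev_psi] at this
      exact hD this
    obtain ⟨s', hs', hs1⟩ := (Ideal.span_eq_top_iff_finite _).1 hspan
    choose g hg using fun x (hx : x ∈ s') => hs' (Finset.mem_coe.2 hx)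
    refine ⟨s'.attach.image fun x => g x.1 x.2, fun ev => ?_⟩
    by_contra! hc
    refine (RingHom.ker_isPrime ev).ne_top (top_le_iff.1 (hs1 ▸ Ideal.span_le.2 fun x hx => ?_))
    rw [SetLike.mem_coe, RingHom.mem_ker, ← show psi i s (g x hx).minor = x from hg x hx, ev_psi]
    exact hc _ (Finset.mem_image.2 ⟨⟨x, hx⟩, Finset.mem_attach _ _, rfl⟩)
  let A' := Γ(X, chartX i s) ⧸ Ideal.span {Z}
  let U' : A' := Ideal.Quotient.mk _ U
  let B := Localization.Away U'
  haveI : Algebra.FiniteType k A' := Algebra.FiniteType.of_surjective (Ideal.Quotient.mkₐ k _) Ideal.Quotient.mk_surjective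
  haveI : Algebra.FiniteType k B := Algebra.FiniteType.trans (S := A') inferInstance inferInstance
  have hB : ringKrullDim B ≤ m := (Order.krullDim_le_of_strictMono (PrimeSpectrum.comap (algebraMap A' B))
    fun P Q hPQ => lt_of_le_of_ne (Ideal.comap_mono hPQ.le) fun h =>
      hPQ.ne (PrimeSpectrum.localization_comap_injective _ (Submonoid.powers U') h)).trans hdim
  let π : Γ(X, chartX i s) →ₐ[k] B := (IsScalarTower.toAlgHom k A' B).comp (Ideal.Quotient.mkₐ k _)
  let φ : Unit ⊕ ({D // D ∈ S} × (Fin (r - n + 1) → Fin (r + 1))) → LefPen.Form r k d → MvPolynomial (Fin (r + 1)) k :=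
    Sum.elim (fun _ G => G.1) (fun DC G => lpoly i DC.1.1 DC.2 G.1)
  let M : Matrix (Unit ⊕ ({D // D ∈ S} × (Fin (r - n + 1) → Fin (r + 1)))) (Fin N) B :=
    Matrix.of fun ρ l => π (psi i s (φ ρ (bL l : LefPen.Form r k d)))
  have hlin : ∀ (e : B →ₐ[k] k) (H : L) ρ, (M.map e *ᵥ fun l => bL.repr H l) ρ =
      eval (pt (psi i s) (e.comp π)) (φ ρ (H : LefPen.Form r k d)) := by
    intro e H ρ
    set v := pt (psi i s) (e.comp π)
    have hl : ∀ G : LefPen.Form r k d, e (π (psi i s (φ ρ G))) = eval v (φ ρ G) := fun G => by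
      rw [← AlgHom.comp_apply, ev_psi]
    let Φ : LefPen.Form r k d →ₗ[k] k :=
      { toFun := fun G => eval v (φ ρ G)
        map_add' := fun F G => by
          rcases ρ with u | DC
          · simp [φ]
          · simp only [φ, Sum.elim_inr, eval_lpoly, Matrix.det_succ_row_zero, ← Finset.sum_add_distrib]
            refine Finset.sum_congr rfl fun q _ => ?_
            simp only [Matrix.of_apply, Fin.cons_zero]
            rw [show grad v (F + G : LefPen.Form r k d).1 (DC.2 q) = grad v F.1 (DC.2 q) + grad v G.1 (DC.2 q) by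
              simp [grad]]
            have : ∀ F : LefPen.Form r k d, (Matrix.of fun p q' => (Fin.cons (grad v F.1) fun b => grad v (DC.1.1.Q b).1 :
                _ → Fin (r + 1) → k) p (DC.2 q')).submatrix Fin.succ q.succAbove =
                Matrix.of fun p q' => grad v (DC.1.1.Q p).1 (DC.2 (q.succAbove q')) := fun F => by
              ext p q'; simp
            rw [this, this, this]
            ring
        map_smul' := fun a G => by
          rcases ρ with u | DC
          · simp [φ, smul_eval]
          · simp only [φ, Sum.elim_inr, eval_lpoly, Matrix.det_succ_row_zero, RingHom.id_apply, smul_eq_mul,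
              Finset.mul_sum]
            refine Finset.sum_congr rfl fun q _ => ?_
            simp only [Matrix.of_apply, Fin.cons_zero]
            rw [show grad v (a • G : LefPen.Form r k d).1 (DC.2 q) = a * grad v G.1 (DC.2 q) by simp [grad, smul_eval]]
            have : ∀ F : LefPen.Form r k d, (Matrix.of fun p q' => (Fin.cons (grad v F.1) fun b => grad v (DC.1.1.Q b).1 :
                _ → Fin (r + 1) → k) p (DC.2 q')).submatrix Fin.succ q.succAbove =
                Matrix.of fun p q' => grad v (DC.1.1.Q p).1 (DC.2 (q.succAbove q')) := fun F => by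
              ext p q'; simp
            rw [this, this]
            ring }
    show ∑ l, e (M ρ l) * bL.repr H l = Φ (H : LefPen.Form r k d)
    conv_rhs => rw [← bL.sum_repr H, Submodule.coe_sum, map_sum]
    refine Finset.sum_congr rfl fun l _ => ?_
    rw [Submodule.coe_smul, map_smul, smul_eq_mul, mul_comm]
    exact congrArg _ (hl _)
  have hev : ∀ e : B →ₐ[k] k, (e.comp π) Z = 0 ∧ (e.comp π) U ≠ 0 := fun e => by
    refine ⟨?_, ((IsLocalization.Away.algebraMap_isUnit (S := B) U').map e).ne_zero⟩
    show e (algebraMap A' B (Ideal.Quotient.mk _ Z)) = 0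
    rw [Ideal.Quotient.eq_zero_iff_mem.2 (Ideal.mem_span_singleton_self Z), map_zero, map_zero]
  have hkey : ∀ (e : B →ₐ[k] k) (H : L), (M.map e *ᵥ fun l => bL.repr H l) = 0 ↔
      BadAt i (pt (psi i s) (e.comp π)) (H : LefPen.Form r k d) := by
    intro e H
    set v := pt (psi i s) (e.comp π)
    obtain ⟨D, hDS, hD⟩ := hS (e.comp π)
    constructor
    · intro h0
      refine ⟨inCone_pt i s _, (hlin e H (Sum.inl ())).symm.trans (congrFun h0 _), ?_⟩
      by_contra hnot
      have hli : LinearIndependent k fun a => grad v (D.Q a).1 := by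
        rw [MData.minor, RingHom.map_det] at hD
        exact LinearIndependent.of_comp (LinearMap.funLeft k k D.C) (Matrix.linearIndependent_rows_of_det_ne_zero hD)
      have hli' : LinearIndependent k (Fin.cons (grad v (H : LefPen.Form r k d).1) fun a => grad v (D.Q a).1 :
          Fin (r - n + 1) → Fin (r + 1) → k) := linearIndependent_finCons.2 ⟨hli, fun hmem => hnot
        ((Submodule.span_le.2 (Set.range_subset_iff.2 fun a => Submodule.subset_span ⟨D.Q a, rfl⟩) : _ ≤ gradSpan i v) hmem)⟩
      let A : Matrix (Fin (r - n + 1)) (Fin (r + 1)) k :=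
        Matrix.of (Fin.cons (grad v (H : LefPen.Form r k d).1) fun a => grad v (D.Q a).1)
      obtain ⟨e', C', hdet⟩ := LefGeo.exists_det_submatrix_ne_zero A (r := r - n + 1)
        (by rw [(show LinearIndependent k A.row from hli').rank_matrix, Fintype.card_fin])
      have he'inj : Function.Injective e' := by
        by_contra hni
        obtain ⟨p, q, hpq, hne⟩ := Function.not_injective_iff.1 hni
        exact hdet (Matrix.det_zero_of_row_eq hne (funext fun l => by simp [hpq]))
      let σ : Equiv.Perm (Fin (r - n + 1)) := Equiv.ofBijective e' (Finite.injective_iff_bijective.1 he'inj)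
      refine hdet ?_
      rw [show A.submatrix e' C' = (A.submatrix id C').submatrix σ id from rfl, Matrix.det_permute]
      refine mul_eq_zero_of_right _ ?_
      have := congrFun h0 (Sum.inr (⟨D, hDS⟩, C'))
      rw [hlin] at this
      exact (eval_lpoly i D C' _ v).symm.trans this
    · intro hbad
      funext ρ
      rw [hlin]
      rcases ρ with u | ⟨⟨D', hD'⟩, C'⟩
      · exact hbad.2.1
      · refine (eval_lpoly i D' C' _ v).trans ?_
        have h := ((badAt_iff_lrow (n := n) i (H : LefPen.Form r k d) (pt_self i s (e.comp π))).1 hbad).2.2 (D'.Q, C')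
        rwa [eval_lrow] at h
  obtain ⟨p, hp0, hp⟩ := exists_poly_avoid (k := k) m hB M fun e => by
    obtain ⟨G, hG⟩ := hrank (e.comp π) (hev e).1 (hev e).2
    let T : (Fin (m + 1) → k) →ₗ[k] (Fin N → k) := bL.equivFun.toLinearMap ∘ₗ Fintype.linearCombination k G
    have hinj : Function.Injective ((M.map e).mulVecLin ∘ₗ T) := by
      rw [← LinearMap.ker_eq_bot, eq_bot_iff]
      intro c hc
      refine hG c ?_
      have h1 : (M.map e *ᵥ fun l => bL.repr (∑ a, c a • G a) l) = 0 := LinearMap.mem_ker.1 hc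
      simpa [Submodule.coe_sum] using (hkey e _).1 h1
    calc m + 1 = Module.finrank k (LinearMap.range ((M.map e).mulVecLin ∘ₗ T)) := by
          rw [LinearMap.finrank_range_of_inj hinj, Module.finrank_fintype_fun_eq_card, Fintype.card_fin]
      _ ≤ (M.map e).rank := Submodule.finrank_mono (LinearMap.range_comp_le_range _ _)
  refine ⟨p, hp0, fun H hH ev hZ hU hbad => ?_⟩
  let eA : A' →ₐ[k] k := evCut Z ev hZ
  let e : B →ₐ[k] k := IsLocalization.liftAlgHom (M := Submonoid.powers U') (f := eA) (fun y => by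
    obtain ⟨_, l, rfl⟩ := y
    rw [map_pow]; exact (isUnit_iff_ne_zero.2 (show eA U' ≠ 0 from hU)).pow l)
  have he : e.comp π = ev := AlgHom.ext fun a => (IsLocalization.lift_eq _ (Ideal.Quotient.mk (Ideal.span {Z}) a)).trans rfl
  exact hp _ hH e ((hkey e H).2 (by rw [he]; exact hbad))

include n in
theorem dim_chart_le (s : Fin (r + 1)) :
    ringKrullDim (Γ(X, chartX i s) ⧸ Ideal.span {(0 : Γ(X, chartX i s))}) ≤ n := by
  refine le_trans (ringKrullDim_quotient_le _) ?_
  cases subsingleton_or_nontrivial Γ(X, chartX i s) with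
  | inl h => rw [ringKrullDim_eq_bot_of_subsingleton]; exact bot_le
  | inr h => exact (ringKrullDim_chartX (n := n) i s).le

include n in
theorem dim_chart_cut_le (hn : 1 ≤ n) (s : Fin (r + 1)) {Z : Γ(X, chartX i s)}
    (hZ : Nontrivial Γ(X, chartX i s) → Z ≠ 0) :
    ringKrullDim (Γ(X, chartX i s) ⧸ Ideal.span {Z}) ≤ (n - 1 : ℕ) := by
  cases subsingleton_or_nontrivial Γ(X, chartX i s) with
  | inl h =>
    haveI : Subsingleton (Γ(X, chartX i s) ⧸ Ideal.span {Z}) := Ideal.Quotient.mk_surjective.subsingleton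
    rw [ringKrullDim_eq_bot_of_subsingleton]
    exact bot_le
  | inr h =>
    haveI := isDomain_chartX (n := n) i s
    have h1 := ringKrullDim_quotient_succ_le_of_nonZeroDivisor (mem_nonZeroDivisors_of_ne_zero (hZ h))
    rw [ringKrullDim_chartX (n := n) i s] at h1
    generalize ringKrullDim (Γ(X, chartX i s) ⧸ Ideal.span {Z}) = x at h1 ⊢
    match x with
    | ⊥ => exact bot_le
    | (⊤ : WithBot ℕ∞) =>
      rw [show (⊤ : WithBot ℕ∞) + 1 = ⊤ from rfl] at h1
      exact absurd h1 (not_le.2 (WithBot.coe_lt_coe.2 (ENat.coe_lt_top n)))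
    | ((a : ℕ) : WithBot ℕ∞) =>
      have : a + 1 ≤ n := by exact_mod_cast h1
      exact_mod_cast (by omega : a ≤ n - 1)

end

end Groth.Agent.LefPenLib
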