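import Groth.Prelude.Def_LefPen
import Mathlib.RingTheory.RingHom.Smooth
import Mathlib.RingTheory.Smooth.Locus
import Mathlib.AlgebraicGeometry.AffineScheme

/-!
# Stalks of a scheme over a field at the points of an affine piece
-/

universe u

open CategoryTheory AlgebraicGeometry Opposite

namespace Groth.Agent.LefPenLib

noncomputable section

variable {k : Type u} [Field k] {Y : Scheme.{u}} (g : Y ⟶ Spec (CommRingCat.of k)) {C : Type u} [CommRing C]
  [Algebra k C] (f : Spec (CommRingCat.of C) ⟶ Y) [IsOpenImmersion f]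
  (hfg : f ≫ g = Spec.map (CommRingCat.ofHom (algebraMap k C)))

/-- The stalk at a point of an affine piece. -/
def pieceStalk (z : Spec (CommRingCat.of C)) :
    Y.presheaf.stalk (f z) ≃+* Localization.AtPrime z.asIdeal :=
  ((asIso (f.stalkMap z)).trans (Spec.stalkIso (CommRingCat.of C) z)).commRingCatIsoToRingEquiv

include hfg in
theorem pieceStalk_toStalk (z : Spec (CommRingCat.of C)) (c : k) :
    pieceStalk f z (LefPen.toStalk k g (f z) c) = algebraMap k (Localization.AtPrime z.asIdeal) c := by
  have key : (Scheme.ΓSpecIso (CommRingCat.of k)).inv ≫ g.appTop ≫ Y.presheaf.germ ⊤ (f z) trivial ≫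
      f.stalkMap z ≫ (Spec.stalkIso (CommRingCat.of C) z).hom =
      CommRingCat.ofHom (algebraMap k C) ≫ CommRingCat.ofHom (algebraMap C (Localization.AtPrime z.asIdeal)) := by
    rw [reassoc_of% f.germ_stalkMap ⊤ z trivial]
    show (Scheme.ΓSpecIso (CommRingCat.of k)).inv ≫ g.appTop ≫ f.appTop ≫
      (Spec (CommRingCat.of C)).presheaf.germ ⊤ z trivial ≫ (Spec.stalkIso (CommRingCat.of C) z).hom = _
    have e : g.appTop ≫ f.appTop = (Spec.map (CommRingCat.ofHom (algebraMap k C))).appTop := by
      rw [← Scheme.Hom.comp_appTop, hfg]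
    rw [Spec.germ_stalkMapIso_hom, reassoc_of% e, ← reassoc_of% Scheme.ΓSpecIso_inv_naturality, Iso.inv_hom_id_assoc]
  have := ConcreteCategory.congr_hom key c
  rw [IsScalarTower.algebraMap_apply k C (Localization.AtPrime z.asIdeal)]
  exact this

theorem bijective_stalk_Spec_field (p : Spec (CommRingCat.of k)) :
    Function.Bijective fun c : k =>
      ((Spec (CommRingCat.of k)).presheaf.germ ⊤ p trivial).hom ((Scheme.ΓSpecIso (CommRingCat.of k)).inv.hom c) := by
  have e : ∀ c : k, (Spec.stalkIso (CommRingCat.of k) p).hom.hom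
      (((Spec (CommRingCat.of k)).presheaf.germ ⊤ p trivial).hom ((Scheme.ΓSpecIso (CommRingCat.of k)).inv.hom c)) =
      algebraMap k (Localization.AtPrime p.asIdeal) c := fun c => by
    have h : (Scheme.ΓSpecIso (CommRingCat.of k)).inv ≫ (Spec (CommRingCat.of k)).presheaf.germ ⊤ p trivial ≫
        (Spec.stalkIso (CommRingCat.of k) p).hom = CommRingCat.ofHom (algebraMap k _) := by
      rw [Spec.germ_stalkMapIso_hom, Iso.inv_hom_id_assoc]
    exact ConcreteCategory.congr_hom h c
  refine ⟨fun a b h => ?_, fun s => ?_⟩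
  · have := (e a).symm.trans ((congrArg _ h).trans (e b))
    exact (algebraMap k (Localization.AtPrime p.asIdeal)).injective this
  · obtain ⟨⟨a, b⟩, hab⟩ := IsLocalization.surj p.asIdeal.primeCompl ((Spec.stalkIso (CommRingCat.of k) p).hom.hom s)
    refine ⟨a / (b : k), (ConcreteCategory.bijective_of_isIso (Spec.stalkIso (CommRingCat.of k) p).hom).1 ?_⟩
    refine (e _).trans ?_
    have hb : (b : k) ≠ 0 := fun h => b.2 (h ▸ zero_mem _)
    refine (IsUnit.mul_left_inj ((isUnit_iff_ne_zero.2 hb).map (algebraMap k (Localization.AtPrime p.asIdeal)))).1 ?_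
    rw [← map_mul, div_mul_cancel₀ _ hb]
    exact hab.symm

include hfg in
/-- smoothness at a point of an affine piece -/
theorem smoothAt_iff (z : Spec (CommRingCat.of C)) :
    LefPen.SmoothAt g (f z) ↔ Algebra.IsSmoothAt k z.asIdeal := by
  let γ : k →+* (Spec (CommRingCat.of k)).presheaf.stalk (g (f z)) :=
    (((Spec (CommRingCat.of k)).presheaf.germ ⊤ (g (f z)) trivial).hom).comp
      (Scheme.ΓSpecIso (CommRingCat.of k)).inv.hom
  have hγ : (g.stalkMap (f z)).hom.comp γ = LefPen.toStalk k g (f z) := by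
    ext c
    exact g.germ_stalkMap_apply ⊤ (f z) trivial _
  have hE : ((pieceStalk f z).toRingHom).comp ((g.stalkMap (f z)).hom.comp γ) =
      algebraMap k (Localization.AtPrime z.asIdeal) := by
    rw [hγ]
    ext c
    exact pieceStalk_toStalk g f hfg z c
  let γe : k ≃+* (Spec (CommRingCat.of k)).presheaf.stalk (g (f z)) :=
    RingEquiv.ofBijective γ (bijective_stalk_Spec_field _)
  show (g.stalkMap (f z)).hom.FormallySmooth ↔ _
  rw [Algebra.IsSmoothAt, ← RingHom.formallySmooth_algebraMap, ← hE]
  refine ⟨fun h => ?_, fun h => ?_⟩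
  · exact RingHom.FormallySmooth.respectsIso.1 _ (pieceStalk f z)
      (RingHom.FormallySmooth.respectsIso.2 _ γe h)
  · have h1 := RingHom.FormallySmooth.respectsIso.1 _ (pieceStalk f z).symm h
    have h2 := RingHom.FormallySmooth.respectsIso.2 _ γe.symm h1
    convert h2 using 1
    ext s
    show _ = (pieceStalk f z).symm (pieceStalk f z ((g.stalkMap (f z)).hom (γe (γe.symm s))))
    rw [RingEquiv.symm_apply_apply, RingEquiv.apply_symm_apply]

end

end Groth.Agent.LefPenLib
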