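import Groth.Agent.LefPenLib.FormalPoint
import Groth.Agent.LefPenLib.Cone

/-!
# The quadratic part of a function at a smooth point
-/

universe u

open MvPolynomial Matrix

namespace Groth.Agent.LefPenLib

noncomputable section

variable {k : Type u} [Field k] {σ : Type*} [Fintype σ]

/-- the `λ²`-coefficient of `G (v + λ w)` -/
def q2 (v : σ → k) (G : MvPolynomial σ k) (w : σ → k) : k :=
  (aeval (fun l => Polynomial.C (v l) + Polynomial.C (w l) * Polynomial.X) G).coeff 2

/-- the polar form of the Hessian -/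
def polar (v : σ → k) (G : MvPolynomial σ k) (w u : σ → k) : k :=
  ∑ l, u l * ∑ m, w m * eval v (pderiv m (pderiv l G))

theorem exists_sum_mul (v : σ → k) (G : MvPolynomial σ k) :
    ∃ r : σ → MvPolynomial σ k, G - C (eval v G) = ∑ l, (X l - C (v l)) * r l := by
  suffices h : G - C (eval v G) ∈ Ideal.span (Set.range fun l => X l - C (v l)) by
    obtain ⟨c, hc⟩ := Ideal.mem_span_range_iff_exists_fun.1 h
    exact ⟨c, hc.symm.trans (Finset.sum_congr rfl fun l _ => mul_comm _ _)⟩
  induction G using MvPolynomial.induction_on with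
  | C c => simp
  | add p q hp hq =>
    convert add_mem hp hq using 1
    simp only [map_add]; ring
  | mul_X p j hp =>
    convert add_mem (Ideal.mul_mem_right (X j) _ hp)
      (Ideal.mul_mem_left _ (C (eval v p)) (Ideal.subset_span ⟨j, rfl⟩)) using 1
    simp only [map_mul, eval_X]; ring

theorem exists_quad_rep (v : σ → k) {G : MvPolynomial σ k} (h0 : eval v G = 0)
    (h1 : ∀ l, eval v (pderiv l G) = 0) :
    ∃ Z : Matrix σ σ (MvPolynomial σ k), G = ∑ a, ∑ b, (X a - C (v a)) * (X b - C (v b)) * Z a b := by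
  classical
  obtain ⟨r, hr⟩ := exists_sum_mul v G
  rw [h0, map_zero, sub_zero] at hr
  have hr0 : ∀ a, eval v (r a) = 0 := fun a => by
    have := h1 a
    rw [hr] at this
    simpa [pderiv_mul, pderiv_X, Pi.single_apply, ite_mul, apply_ite (eval v)] using this
  choose Z hZ using fun a => exists_sum_mul v (r a)
  refine ⟨Matrix.of Z, hr.trans (Finset.sum_congr rfl fun a _ => ?_)⟩
  have := hZ a
  rw [hr0, map_zero, sub_zero] at this
  rw [this, Finset.mul_sum]
  exact Finset.sum_congr rfl fun b _ => (mul_assoc _ _ _).symm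

theorem q2_rep (v w : σ → k) (Z : Matrix σ σ (MvPolynomial σ k)) :
    q2 v (∑ a, ∑ b, (X a - C (v a)) * (X b - C (v b)) * Z a b) w =
      ∑ a, ∑ b, w a * w b * eval v (Z a b) := by
  simp only [q2, map_sum, map_mul, map_sub, aeval_X, aeval_C, ← Polynomial.C_eq_algebraMap, add_sub_cancel_left,
    Polynomial.finset_sum_coeff]
  refine Finset.sum_congr rfl fun a _ => Finset.sum_congr rfl fun b _ => ?_
  rw [show ∀ z : Polynomial k, Polynomial.C (w a) * Polynomial.X * (Polynomial.C (w b) * Polynomial.X) * z =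
    Polynomial.C (w a * w b) * (z * Polynomial.X ^ 2) by intro z; rw [map_mul]; ring,
    Polynomial.coeff_C_mul, Polynomial.coeff_mul_X_pow', if_pos le_rfl, Nat.sub_self,
    Polynomial.coeff_zero_eq_eval_zero]
  congr 1
  rw [← Polynomial.coe_evalRingHom, MvPolynomial.aeval_def, MvPolynomial.eval₂_comp_left]
  show _ = eval₂ (RingHom.id k) v (Z a b)
  congr 1
  · ext c; simp
  · funext l; simp

theorem polar_rep (v w u : σ → k) (Z : Matrix σ σ (MvPolynomial σ k)) :
    polar v (∑ a, ∑ b, (X a - C (v a)) * (X b - C (v b)) * Z a b) w u =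
      ∑ a, ∑ b, (u a * w b + w a * u b) * eval v (Z a b) := by
  classical
  have h : ∀ a b l m, eval v (pderiv m (pderiv l ((X a - C (v a)) * (X b - C (v b)) * Z a b))) =
      ((if a = l then 1 else 0) * (if b = m then 1 else 0) +
        (if b = l then 1 else 0) * (if a = m then 1 else 0)) * eval v (Z a b) := fun a b l m => by
    have hd : ∀ a l, pderiv l (X a - C (v a) : MvPolynomial σ k) = C (if a = l then 1 else 0) := fun a l => by
      simp [pderiv_X, Pi.single_apply, apply_ite (C (σ := σ) (R := k)), eq_comm]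
    simp only [pderiv_mul, map_add, hd, pderiv_C, map_mul, map_sub, eval_X, eval_C, sub_self]
    ring
  have step : ∀ a b, ∑ l, u l * ∑ m, w m * (((if a = l then (1 : k) else 0) * (if b = m then 1 else 0) +
      (if b = l then 1 else 0) * (if a = m then 1 else 0)) * eval v (Z a b)) =
      (u a * w b + w a * u b) * eval v (Z a b) := fun a b => by
    simp [Finset.mul_sum, add_mul, mul_add, Finset.sum_add_distrib, ite_mul]
    ring
  simp only [polar, map_sum, Finset.mul_sum]
  simp only [← step, Finset.mul_sum, h]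
  rw [Finset.sum_congr rfl fun l _ => Finset.sum_comm, Finset.sum_comm]
  refine Finset.sum_congr rfl fun a _ => ?_
  rw [Finset.sum_congr rfl fun l _ => Finset.sum_comm, Finset.sum_comm]

/-- a bilinear form pulled back by a linear map -/
theorem dot_congr {R : Type*} [CommRing R] {ι : Type*} [Fintype ι] (W : Matrix σ ι R) (Z : Matrix σ σ R)
    (x y : ι → R) :
    y ⬝ᵥ ((Wᵀ * Z * W) *ᵥ x) = ∑ a, ∑ b, (W *ᵥ y) a * (W *ᵥ x) b * Z a b := by
  rw [← Matrix.mulVec_mulVec, ← Matrix.mulVec_mulVec, dotProduct_mulVec, vecMul_transpose]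
  generalize W *ᵥ y = p
  generalize W *ᵥ x = q
  simp only [dotProduct, mulVec, Finset.mul_sum]
  exact Finset.sum_congr rfl fun a _ => Finset.sum_congr rfl fun b _ => by ring

variable {A : Type u} [CommRing A] [Algebra k A]

/-- the Jacobian of formal coordinates -/
def jac {n : ℕ} {ev : A →ₐ[k] k} (P : FPt ev n) (ψ : MvPolynomial σ k →ₐ[k] A) : Matrix σ (Fin n) k :=
  fun l s => MvPowerSeries.coeff (Finsupp.single s 1) (P.φ (ψ (X l)))

variable {n : ℕ} {ev : A →ₐ[k] k} (P : FPt ev n) (ψ : MvPolynomial σ k →ₐ[k] A)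

theorem φ_psi_X_sub (l : σ) : P.φ (ψ (X l - C (pt ψ ev l))) ∈ PSLib.vars n k := by
  rw [PSLib.mem_vars_iff, P.constantCoeff_φ, ev_psi]
  simp

theorem φ_X_sub_lin (l : σ) :
    P.φ (ψ (X l - C (pt ψ ev l))) - ∑ s, MvPowerSeries.C (jac P ψ l s) * MvPowerSeries.X s ∈
      PSLib.vars n k ^ 2 := by
  classical
  rw [← HensMorse.noLowTerms_iff_mem_sq]
  refine ⟨?_, fun t => ?_⟩
  · rw [map_sub, PSLib.mem_vars_iff.1 (φ_psi_X_sub P ψ l)]
    simp
  · simp [jac, MvPowerSeries.coeff_X, Finsupp.single_eq_single_iff, MvPowerSeries.coeff_C,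
      show (ψ (C (pt ψ ev l))) = algebraMap k A (pt ψ ev l) from ψ.commutes _,
      MvPowerSeries.algebraMap_apply, eq_comm]

theorem φ_psi_pointIdeal_sq {G : MvPolynomial σ k} (hG : G ∈ LefGeo.pointIdeal (pt ψ ev) ^ 2) :
    P.φ (ψ G) ∈ PSLib.vars n k ^ 2 := by
  rw [pow_two] at hG ⊢
  refine Submodule.mul_induction_on hG (fun p hp q hq => ?_) (fun p q hp hq => by rw [map_add, map_add]; exact add_mem hp hq)
  rw [map_mul, map_mul]
  have hm : ∀ {p : MvPolynomial σ k}, p ∈ LefGeo.pointIdeal (pt ψ ev) → P.φ (ψ p) ∈ PSLib.vars n k := fun {p} hp => by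
    rw [PSLib.mem_vars_iff, P.constantCoeff_φ, ev_psi]
    exact hp
  exact Ideal.mul_mem_mul (hm hp) (hm hq)

/-- chain rule to first order -/
theorem coeff_single_φ_psi (G : MvPolynomial σ k) (s : Fin n) :
    MvPowerSeries.coeff (Finsupp.single s 1) (P.φ (ψ G)) =
      ∑ l, eval (pt ψ ev) (pderiv l G) * jac P ψ l s := by
  classical
  have h := φ_psi_pointIdeal_sq P ψ (LefGeo.taylor (pt ψ ev) G)
  have h2 := PSLib.mem_pow_iff.1 h (Finsupp.single s 1) (by simp [Finsupp.degree_single])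
  have hC : ∀ c, P.φ (ψ (C c)) = MvPowerSeries.C c := fun c => by
    rw [show ψ (C c) = algebraMap k A c from ψ.commutes c, AlgHom.commutes]; rfl
  simp only [map_sub, map_sum, map_mul, hC, MvPowerSeries.coeff_C, Finsupp.single_eq_zero, one_ne_zero,
    if_false, sub_zero, MvPowerSeries.coeff_C_mul] at h2
  rw [sub_eq_zero] at h2
  exact h2

variable {ψ} (hψ : Function.Surjective ψ)

include hψ in
theorem jac_leftInverse :
    ∃ D : Fin n → MvPolynomial σ k, ∀ s t,
      ∑ l, eval (pt ψ ev) (pderiv l (D s)) * jac P ψ l t = if t = s then 1 else 0 := by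
  classical
  choose D hD using fun s => hψ (P.a s)
  refine ⟨D, fun s t => ?_⟩
  rw [← coeff_single_φ_psi, hD, P.φ_a, MvPowerSeries.coeff_X]
  simp [Finsupp.single_eq_single_iff]

include hψ in
theorem jac_injective : Function.Injective (jac P ψ).mulVec := by
  classical
  obtain ⟨D, hD⟩ := jac_leftInverse P hψ
  intro c c' h
  funext s
  have e : ∀ c : Fin n → k, c s = ∑ l, eval (pt ψ ev) (pderiv l (D s)) * (jac P ψ).mulVec c l := fun c => by
    simp only [mulVec, dotProduct, Finset.mul_sum, ← mul_assoc]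
    rw [Finset.sum_comm]
    simp [← Finset.sum_mul, hD]
  rw [e c, e c', h]

include hψ in
theorem range_jac (w : σ → k) : w ∈ tanSpace ψ ev ↔ ∃ c, (jac P ψ).mulVec c = w := by
  classical
  constructor
  · intro hw
    obtain ⟨D, hD⟩ := jac_leftInverse P hψ
    refine ⟨fun s => dAt ψ ev (D s) w, funext fun l => ?_⟩
    let H : MvPolynomial σ k := X l - ∑ s, C (jac P ψ l s) * D s
    let H' : MvPolynomial σ k := H - C (eval (pt ψ ev) H)
    have hdH : ∀ m, eval (pt ψ ev) (pderiv m H') =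
        (if l = m then 1 else 0) - ∑ s, jac P ψ l s * eval (pt ψ ev) (pderiv m (D s)) := fun m => by
      simp [H', H, map_sum, pderiv_X, Pi.single_apply, apply_ite, eq_comm]
    have hz : P.φ (ψ H') ∈ PSLib.vars n k ^ 2 := by
      rw [← HensMorse.noLowTerms_iff_mem_sq]
      refine ⟨?_, fun t => ?_⟩
      · rw [P.constantCoeff_φ, ev_psi]; simp [H']
      · rw [coeff_single_φ_psi]
        simp only [hdH, sub_mul, Finset.sum_sub_distrib, Finset.sum_mul]
        rw [Finset.sum_comm]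
        simp [mul_assoc, ← Finset.mul_sum, hD]
    have := ((mem_sq_iff ev hψ H').1 ((P.mem_iff 2 _).1 hz)).2 w hw
    rw [dAt_apply] at this
    simp only [hdH, sub_mul, Finset.sum_sub_distrib, Finset.sum_mul, ite_mul, one_mul, zero_mul,
      Finset.sum_ite_eq, Finset.mem_univ, if_true, sub_eq_zero] at this
    rw [this, Finset.sum_comm]
    simp only [mulVec, dotProduct, dAt_apply, Finset.mul_sum, mul_assoc]
  · rintro ⟨c, rfl⟩
    refine (mem_tanSpace ψ ev _).2 fun Q hQ => ?_
    rw [dAt_apply]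
    simp only [mulVec, dotProduct, Finset.mul_sum, ← mul_assoc]
    rw [Finset.sum_comm]
    simp [← Finset.sum_mul, ← coeff_single_φ_psi, hQ]

include P hψ in
/-- The formal dimension is the dimension of the tangent space. -/
theorem finrank_tanSpace_eq : Module.finrank k (tanSpace ψ ev) = n := by
  have : tanSpace ψ ev = LinearMap.range (jac P ψ).mulVecLin := by
    ext w; rw [range_jac P hψ, LinearMap.mem_range]; rfl
  rw [this, LinearMap.finrank_range_of_inj (jac_injective P hψ), Module.finrank_fintype_fun_eq_card,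
    Fintype.card_fin]

/-- the quadratic condition -/
def OrdCrit (T : Submodule k (σ → k)) (v : σ → k) (G : MvPolynomial σ k) : Prop :=
  ∀ w ∈ T, q2 v G w = 0 → (∀ u ∈ T, polar v G w u = 0) → w = 0

include hψ in
/-- The ordinariness of the formal equation is read off from any adapted polynomial. -/
theorem ordQuadSeries_iff {G : MvPolynomial σ k} (h0 : eval (pt ψ ev) G = 0)
    (h1 : ∀ l, eval (pt ψ ev) (pderiv l G) = 0) :
    VanCyc.OrdQuadSeries (P.φ (ψ G)) ↔ OrdCrit (tanSpace ψ ev) (pt ψ ev) G := by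
  classical
  set v := pt ψ ev
  obtain ⟨Z, hZ⟩ := exists_quad_rep v h0 h1
  set W := jac P ψ
  set Z₀ : Matrix σ σ k := Matrix.of fun a b => eval v (Z a b)
  set M : Matrix (Fin n) (Fin n) k := Wᵀ * Z₀ * W
  set f₀ : MvPowerSeries (Fin n) k := MvPowerSeries.X ⬝ᵥ (M.map MvPowerSeries.C *ᵥ MvPowerSeries.X)
  let L : σ → MvPowerSeries (Fin n) k := fun a => ∑ s, MvPowerSeries.C (W a s) * MvPowerSeries.X s
  have hf₀ : f₀ = ∑ a, ∑ b, L a * L b * MvPowerSeries.C (Z₀ a b) := by
    simp only [f₀, M, Matrix.map_mul, Matrix.transpose_map]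
    exact dot_congr (W.map MvPowerSeries.C) (Z₀.map MvPowerSeries.C) MvPowerSeries.X MvPowerSeries.X
  have hL : ∀ a, L a ∈ PSLib.vars n k := fun a => Ideal.sum_mem _ fun s _ =>
    Ideal.mul_mem_left _ _ (Ideal.subset_span ⟨s, rfl⟩)
  have hcub : P.φ (ψ G) - f₀ ∈ PSLib.vars n k ^ 3 := by
    rw [hZ, hf₀, map_sum, map_sum, ← Finset.sum_sub_distrib]
    refine Ideal.sum_mem _ fun a _ => ?_
    rw [map_sum, map_sum, ← Finset.sum_sub_distrib]
    refine Ideal.sum_mem _ fun b _ => ?_
    rw [map_mul, map_mul, map_mul, map_mul]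
    set p := P.φ (ψ (X a - C (v a)))
    set q := P.φ (ψ (X b - C (v b)))
    set z := P.φ (ψ (Z a b))
    have hz : z - MvPowerSeries.C (Z₀ a b) ∈ PSLib.vars n k := by
      rw [PSLib.mem_vars_iff, map_sub, P.constantCoeff_φ, ev_psi, MvPowerSeries.constantCoeff_C]
      exact sub_self _
    have e : p * q * z - L a * L b * MvPowerSeries.C (Z₀ a b) =
        p * q * (z - MvPowerSeries.C (Z₀ a b)) + (p - L a) * q * MvPowerSeries.C (Z₀ a b) +
          L a * (q - L b) * MvPowerSeries.C (Z₀ a b) := by ring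
    rw [e, pow_succ]
    refine add_mem (add_mem ?_ ?_) ?_
    · refine Ideal.mul_mem_mul ?_ hz
      rw [pow_two]; exact Ideal.mul_mem_mul (φ_psi_X_sub P ψ a) (φ_psi_X_sub P ψ b)
    · exact Ideal.mul_mem_right _ _ (Ideal.mul_mem_mul (φ_X_sub_lin P ψ a) (φ_psi_X_sub P ψ b))
    · rw [pow_two, mul_assoc (PSLib.vars n k)]
      refine Ideal.mul_mem_right _ _ (Ideal.mul_mem_mul (hL a) ?_)
      rw [← pow_two]; exact φ_X_sub_lin P ψ b
  obtain ⟨hlow, hquad⟩ := HensMorse.quadSeries_props (M.map (MvPowerSeries.C (σ := Fin n)))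
  have hqp : VanCyc.quadPart (P.φ (ψ G)) = HensMorse.fold M := by
    rw [show HensMorse.fold M = VanCyc.quadPart f₀ by
      rw [hquad]; congr 1]
    funext a b
    have hc : ∀ e : Fin n →₀ ℕ, e.degree < 3 →
        MvPowerSeries.coeff e (P.φ (ψ G)) = MvPowerSeries.coeff e f₀ := fun e he => by
      rw [← sub_eq_zero, ← map_sub]; exact PSLib.mem_pow_iff.1 hcub e he
    simp only [VanCyc.quadPart]
    rw [hc _ (by simp [Finsupp.degree_single]), hc _ (by simp [map_add, Finsupp.degree_single])]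
  have hlow' : VanCyc.NoLowTerms (P.φ (ψ G)) := by
    rw [HensMorse.noLowTerms_iff_mem_sq]
    have := add_mem (Ideal.pow_le_pow_right (by norm_num : 2 ≤ 3) hcub)
      ((HensMorse.noLowTerms_iff_mem_sq _).1 hlow)
    rwa [sub_add_cancel] at this
  have hq : ∀ c, c ⬝ᵥ (M *ᵥ c) = q2 v G (W *ᵥ c) := fun c => by
    rw [hZ, q2_rep, dot_congr]
    rfl
  have hp : ∀ c c', c' ⬝ᵥ ((M + Mᵀ) *ᵥ c) = polar v G (W *ᵥ c) (W *ᵥ c') := fun c c' => by
    rw [hZ, polar_rep, show M + Mᵀ = Wᵀ * (Z₀ + Z₀ᵀ) * W by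
      simp [M, Matrix.mul_add, Matrix.add_mul, Matrix.mul_assoc], dot_congr]
    simp only [Matrix.add_apply, Matrix.transpose_apply, mul_add, add_mul, Finset.sum_add_distrib]
    refine congrArg₂ (· + ·) rfl ?_
    rw [Finset.sum_comm]
    exact Finset.sum_congr rfl fun a _ => Finset.sum_congr rfl fun b _ => by ring_nf; rfl
  constructor
  · rintro ⟨-, ho⟩ w hw hw2 hwp
    rw [hqp, HensMorse.quadOrd_fold_iff] at ho
    obtain ⟨c, rfl⟩ := (range_jac P hψ w).1 hw
    have h3 : c = 0 := ho c ((hq c).trans hw2) (dotProduct_eq_zero _ fun c' => by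
      rw [dotProduct_comm, hp]
      exact hwp _ ((range_jac P hψ _).2 ⟨c', rfl⟩))
    rw [h3, mulVec_zero]
  · intro ho
    refine ⟨hlow', ?_⟩
    rw [hqp, HensMorse.quadOrd_fold_iff]
    intro c h2 h3
    refine jac_injective P hψ ((ho (W *ᵥ c) ((range_jac P hψ _).2 ⟨c, rfl⟩) ((hq c).symm.trans h2)
      fun u hu => ?_).trans (mulVec_zero _).symm)
    obtain ⟨c', rfl⟩ := (range_jac P hψ u).1 hu
    rw [← hp, h3, dotProduct_zero]

/-- Ordinariness is an invariant of the quotient. -/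
theorem ordQuadSeries_of_algEquiv {f g : MvPowerSeries (Fin n) k} (hf : VanCyc.OrdQuadSeries f)
    (hg : g ∈ PSLib.vars n k)
    (θ : (MvPowerSeries (Fin n) k ⧸ Ideal.span {f}) ≃ₐ[k] MvPowerSeries (Fin n) k ⧸ Ideal.span {g}) :
    VanCyc.OrdQuadSeries g := by
  classical
  have hf2 : f ∈ PSLib.vars n k ^ 2 := (HensMorse.noLowTerms_iff_mem_sq f).1 hf.1
  have hf1 := Ideal.pow_le_self two_ne_zero hf2
  haveI := PSQuad.isLocalRing_quot hf1
  haveI := PSQuad.isLocalRing_quot hg
  haveI := PSQuad.isAdicComplete_quot (k := k) (h := g)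
  let mf := Ideal.Quotient.mkₐ k (Ideal.span {f})
  let mg := Ideal.Quotient.mkₐ k (Ideal.span {g})
  choose v hv using fun i => Ideal.Quotient.mk_surjective (θ (mf (MvPowerSeries.X i)))
  have hθm : ∀ {x}, x ∈ IsLocalRing.maximalIdeal (MvPowerSeries (Fin n) k ⧸ Ideal.span {f}) →
      θ x ∈ IsLocalRing.maximalIdeal _ := by
    intro x hx hu
    exact hx (by simpa using hu.map θ.symm)
  have hvm : ∀ i, v i ∈ PSLib.vars n k := fun i => PSQuad.mem_vars_of_mk_mem ((hv i).symm ▸
    hθm (PSQuad.mk_mem_maximalIdeal (Ideal.subset_span ⟨i, rfl⟩)))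
  obtain ⟨φ, hφ⟩ := PSLib.exists_algHom (R := k) (PSLib.vars n k) v hvm
  have hφm : ∀ i, φ (MvPowerSeries.X i) ∈ PSLib.vars n k := fun i => (hφ i).symm ▸ hvm i
  have hcomm : mg.comp φ = (θ : _ →ₐ[k] _).comp mf := by
    refine PSLib.algHom_ext (I := IsLocalRing.maximalIdeal (MvPowerSeries (Fin n) k ⧸ Ideal.span {g})) _ _
      (fun i => PSQuad.mk_mem_maximalIdeal (hφm i)) fun i => ?_
    show mg (φ (MvPowerSeries.X i)) = θ (mf (MvPowerSeries.X i))
    rw [hφ]
    exact hv i
  have hc : ∀ x, Ideal.Quotient.mk (Ideal.span {g}) (φ x) = θ (Ideal.Quotient.mk _ x) :=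
    fun x => AlgHom.congr_fun hcomm x
  -- a lift of the inverse
  choose a ha using fun j => Ideal.Quotient.mk_surjective (θ.symm (mg (MvPowerSeries.X j)))
  have ham : ∀ j, a j ∈ PSLib.vars n k := fun j => PSQuad.mem_vars_of_mk_mem (h := f) (by
    rw [ha]
    intro hu
    refine PSQuad.mk_mem_maximalIdeal (h := g) (Ideal.subset_span ⟨j, rfl⟩) ?_
    have := hu.map θ
    rwa [θ.apply_symm_apply] at this)
  obtain ⟨η, hη⟩ := PSLib.exists_algHom (R := k) (PSLib.vars n k) a ham
  have hηm : ∀ i, η (MvPowerSeries.X i) ∈ PSLib.vars n k := fun i => (hη i).symm ▸ ham i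
  have hcomm' : mf.comp η = (θ.symm : _ →ₐ[k] _).comp mg := by
    refine PSLib.algHom_ext (I := IsLocalRing.maximalIdeal (MvPowerSeries (Fin n) k ⧸ Ideal.span {f})) _ _
      (fun i => PSQuad.mk_mem_maximalIdeal (hηm i)) fun i => ?_
    show mf (η (MvPowerSeries.X i)) = θ.symm (mg (MvPowerSeries.X i))
    rw [hη]
    exact ha i
  have hc' : ∀ x, Ideal.Quotient.mk (Ideal.span {f}) (η x) = θ.symm (Ideal.Quotient.mk _ x) :=
    fun x => AlgHom.congr_fun hcomm' x
  have hcompbij : Function.Bijective (η.comp φ) := by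
    refine PSLib.bijective_of_first_order _ (fun i => PSQuad.map_mem_vars η hηm (hφm i)) fun j => ?_
    rw [← sub_sub_cancel ((η.comp φ) (MvPowerSeries.X j)) (MvPowerSeries.X j : MvPowerSeries (Fin n) k)]
    refine sub_mem (Submodule.mem_sup_left (Ideal.subset_span ⟨j, rfl⟩)) (Submodule.mem_sup_right ?_)
    refine (Ideal.span_le.2 (Set.singleton_subset_iff.2 hf2)) (Ideal.Quotient.eq.1 ?_)
    rw [AlgHom.comp_apply, hc', hc, θ.symm_apply_apply]
  have hηs : Function.Surjective η := fun y => by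
    obtain ⟨z, hz⟩ := hcompbij.2 y
    exact ⟨φ z, hz⟩
  haveI : IsNoetherianRing (MvPowerSeries (Fin n) k) := by
    haveI := PSLib.isRegularLocalRing (K := k) (n := n)
    infer_instance
  have hηi : Function.Injective η := NodeLib.injective_of_surjective_endo η.toRingHom hηs
  have hbij : Function.Bijective φ :=
    ⟨fun x y h => hcompbij.1 (congrArg η h), fun y => by
      obtain ⟨z, hz⟩ := hcompbij.2 (η y)
      exact ⟨z, hηi hz⟩⟩
  let e := AlgEquiv.ofBijective φ hbij
  obtain ⟨b, hb⟩ := hbij.2 g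
  have ha' : b ∈ Ideal.span {f} := by
    rw [← Ideal.Quotient.eq_zero_iff_mem]
    apply θ.injective
    rw [map_zero, ← hc, hb, Ideal.Quotient.eq_zero_iff_mem]
    exact Ideal.subset_span rfl
  have hspan : Ideal.span {g} = Ideal.span {φ f} := by
    refine le_antisymm (Ideal.span_le.2 (Set.singleton_subset_iff.2 ?_)) (Ideal.span_le.2 (Set.singleton_subset_iff.2 ?_))
    · obtain ⟨c, rfl⟩ := Ideal.mem_span_singleton'.1 ha'
      rw [← hb, map_mul]
      exact Ideal.mul_mem_left _ _ (Ideal.subset_span rfl)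
    · show φ f ∈ Ideal.span {g}
      rw [← Ideal.Quotient.eq_zero_iff_mem, hc, Ideal.Quotient.eq_zero_iff_mem.2 (Ideal.mem_span_singleton_self f),
        map_zero]
  haveI : IsDomain (MvPowerSeries (Fin n) k) := NoZeroDivisors.to_isDomain _
  obtain ⟨u, hu⟩ := (Ideal.span_singleton_eq_span_singleton.1 hspan).symm
  obtain ⟨Z, hZ⟩ := HensMorse.exists_quadSeries f hf2
  obtain ⟨hl0, hq0⟩ := HensMorse.quadSeries_props Z
  obtain ⟨M, Z', hM, hZ', hZ'0⟩ := HensMorse.exists_transform e u u.isUnit Z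
  obtain ⟨hl, hq⟩ := HensMorse.quadSeries_props Z'
  have hgeq : g = MvPowerSeries.X ⬝ᵥ (Z' *ᵥ MvPowerSeries.X) := by
    rw [← hZ', ← hZ, mul_comm]
    exact hu.symm
  refine hgeq ▸ ⟨hl, ?_⟩
  have hord : HensMorse.Ord (Z.map MvPowerSeries.constantCoeff) := by
    rw [← HensMorse.quadOrd_fold_iff, ← hq0, ← hZ]
    exact hf.2
  rw [hq, HensMorse.quadOrd_fold_iff, hZ'0]
  exact hord.congr hM (by
    simpa using ((MvPowerSeries.isUnit_iff_constantCoeff).1 u.isUnit).ne_zero)

end

end Groth.Agent.LefPenLib
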