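import Groth.Agent.LefPenLib.PtStalk
import Groth.Agent.LefPenLib.CutPoint
import Groth.Agent.LefPenLib.Closed

/-!
# One ordinary quadratic singularity, in coordinates
-/

universe u

open CategoryTheory AlgebraicGeometry Opposite TopologicalSpace

namespace Groth.Agent.LefPenLib

noncomputable section

variable {r n d : ℕ} {k : Type u} [Field k] {X : Scheme.{u}} (i : X ⟶ CohB1.ProjSpace r k) [IsClosedImmersion i]

section Overlap

theorem chart_inf_le_basicOpen (j l : Fin (r + 1)) :
    LefPen.chart r k j ⊓ LefPen.chart r k l ≤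
      (CohB1.ProjSpace r k).basicOpen (LefPen.dehom (⟨MvPolynomial.X j, LefPen.X_mem r k j⟩ : LefPen.Form r k 1) l) := by
  intro x hx
  let G : LefPen.Form r k 1 := ⟨MvPolynomial.X j, LefPen.X_mem r k j⟩
  let W := LefPen.chart r k j ⊓ LefPen.chart r k l
  have key := dehom_res G l j W inf_le_right inf_le_left
  have h1 : LefPen.dehom G j = 1 := by
    suffices h : ZetaLib.dehom r k j (MvPolynomial.X j) = 1 by rw [dehom_eq, h]; exact map_one _
    refine HomogeneousLocalization.val_injective _ ?_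
    have hu : IsUnit (algebraMap (MvPolynomial (Fin (r + 1)) k)
        (Localization (Submonoid.powers (MvPolynomial.X j : MvPolynomial (Fin (r + 1)) k))) (MvPolynomial.X j) ^ 1) :=
      (IsLocalization.map_units _ (⟨MvPolynomial.X j, 1, pow_one _⟩ :
        Submonoid.powers (MvPolynomial.X j : MvPolynomial (Fin (r + 1)) k))).pow 1
    refine hu.mul_left_injective ?_
    show _ * _ = _ * _
    rw [ZetaLib.val_dehom_mul r k j (MvPolynomial.isHomogeneous_X k j), HomogeneousLocalization.val_one,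
      one_mul, pow_one]
  rw [h1, map_one] at key
  have hu : IsUnit (((CohB1.ProjSpace r k).presheaf.map (homOfLE (inf_le_right : W ≤ _)).op).hom (LefPen.dehom G l)) :=
    IsUnit.of_mul_eq_one_right _ key.symm
  have := (CohB1.ProjSpace r k).basicOpen_of_isUnit hu
  have hmem : x ∈ (CohB1.ProjSpace r k).basicOpen
      (((CohB1.ProjSpace r k).presheaf.map (homOfLE (inf_le_right : W ≤ _)).op).hom (LefPen.dehom G l)) := this.ge hx
  rw [Scheme.basicOpen_res] at hmem
  exact hmem.2

theorem basicOpen_psi_X (j l : Fin (r + 1)) :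
    X.basicOpen (psi i l (MvPolynomial.X j)) = chartX i j ⊓ chartX i l := by
  let G : LefPen.Form r k 1 := ⟨MvPolynomial.X j, LefPen.X_mem r k j⟩
  rw [show psi i l (MvPolynomial.X j) = psi i l G.1 from rfl, ← app_dehom i G l]
  erw [← Scheme.preimage_basicOpen]
  refine le_antisymm ?_ (i.preimage_mono (chart_inf_le_basicOpen j l))
  intro x hx
  exact ⟨basicOpen_dehom_le G l hx, (CohB1.ProjSpace r k).basicOpen_le (LefPen.dehom G l) hx⟩

/-- the point of `X` at a prime of a chart lies in another chart iff the coordinate does not vanish there -/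
theorem fromSpec_mem_chartX (j l : Fin (r + 1)) (q : Spec (Γ(X, chartX i l))) :
    (isAffineOpen_chartX i l).fromSpec q ∈ chartX i j ↔ psi i l (MvPolynomial.X j) ∉ q.asIdeal := by
  rw [← PrimeSpectrum.mem_basicOpen, ← (isAffineOpen_chartX i l).fromSpec_preimage_basicOpen, basicOpen_psi_X]
  exact ⟨fun h => ⟨h, by
    have := (isAffineOpen_chartX i l).range_fromSpec
    exact (this.le ⟨q, rfl⟩ : _)⟩, fun h => h.1⟩

end Overlap

/-- the equation ideal of a hypersurface section on a chart -/
def secEquiv (G : LefPen.Form r k d) (j : Fin (r + 1)) :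
    (Γ(X, chartX i j) ⧸ (LefPen.secIdeal i {G}).ideal (chartXA i j)) ≃+*
      Γ(X, chartX i j) ⧸ Ideal.span {psi i j G.1} :=
  (Ideal.quotEquivOfEq
    ((secIdeal_chart i ({G} : Set (LefPen.Form r k d)) j).trans (by rw [Set.image_singleton])))

/-- the chart of the section -/
def secCoverMap (G : LefPen.Form r k d) (j : Fin (r + 1)) :
    Spec (CommRingCat.of (Γ(X, chartX i j) ⧸ (LefPen.secIdeal i {G}).ideal (chartXA i j))) ⟶ LefPen.Sec i {G} :=
  (LefPen.secIdeal i {G}).subschemeCover.f (chartXA i j)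

instance isOpenImmersion_secCoverMap (G : LefPen.Form r k d) (j : Fin (r + 1)) : IsOpenImmersion (secCoverMap i G j) :=
  (LefPen.secIdeal i {G}).subschemeCover.map_prop _

/-- An affine piece of a hypersurface section. -/
def secPiece (G : LefPen.Form r k d) (j : Fin (r + 1)) :
    Spec (CommRingCat.of (Γ(X, chartX i j) ⧸ Ideal.span {psi i j G.1})) ⟶ LefPen.Sec i {G} :=
  Spec.map (CommRingCat.ofHom (secEquiv i G j).toRingHom) ≫ secCoverMap i G j

theorem isIso_secEquiv (G : LefPen.Form r k d) (j : Fin (r + 1)) :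
    IsIso (CommRingCat.ofHom (secEquiv i G j).toRingHom) :=
  ⟨⟨CommRingCat.ofHom (secEquiv i G j).symm.toRingHom, by ext z; simp, by ext z; simp⟩⟩

instance (G : LefPen.Form r k d) (j : Fin (r + 1)) : IsOpenImmersion (secPiece i G j) := by
  haveI := isIso_secEquiv i G j
  unfold secPiece
  infer_instance

theorem secPiece_ι (G : LefPen.Form r k d) (j : Fin (r + 1)) :
    secPiece i G j ≫ LefPen.secι i {G} =
      Spec.map (CommRingCat.ofHom (Ideal.Quotient.mk (Ideal.span {psi i j G.1}))) ≫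
        (isAffineOpen_chartX i j).fromSpec := by
  refine ((Category.assoc _ _ _).trans (congrArg (Spec.map (CommRingCat.ofHom (secEquiv i G j).toRingHom) ≫ ·)
    ((LefPen.secIdeal i {G}).subschemeCover_map_subschemeι (chartXA i j)))).trans ?_
  show Spec.map (CommRingCat.ofHom (secEquiv i G j).toRingHom) ≫
    (Spec.map (CommRingCat.ofHom (Ideal.Quotient.mk ((LefPen.secIdeal i {G}).ideal (chartXA i j)))) ≫
    (isAffineOpen_chartX i j).isoSpec.inv) ≫ (chartX i j).ι = _
  rw [Category.assoc (Spec.map _), IsAffineOpen.isoSpec_inv_ι, ← Category.assoc]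
  erw [← Spec.map_comp]
  rfl

theorem secPiece_toSpec (G : LefPen.Form r k d) (j : Fin (r + 1)) :
    secPiece i G j ≫ LefPen.secToSpec i {G} =
      Spec.map (CommRingCat.ofHom (algebraMap k (Γ(X, chartX i j) ⧸ Ideal.span {psi i j G.1}))) := by
  show secPiece i G j ≫ LefPen.secι i {G} ≫ i ≫ CohB1.ProjSpace.toSpec r k = _
  rw [← Category.assoc (secPiece i G j), secPiece_ι, Category.assoc, chartX_fromSpec_toSpec, ← Spec.map_comp]
  rfl

theorem mem_range_secPiece (G : LefPen.Form r k d) (j : Fin (r + 1)) (y : LefPen.Sec i {G}) :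
    y ∈ Set.range (secPiece i G j) ↔ LefPen.secι i {G} y ∈ chartX i j := by
  have h : (secPiece i G j).opensRange = (LefPen.secι i {G}) ⁻¹ᵁ chartX i j := by
    haveI := isIso_secEquiv i G j
    exact (Scheme.Hom.opensRange_comp_of_isIso _ (secCoverMap i G j)).trans
      ((LefPen.secIdeal i {G}).opensRange_subschemeCover_map (chartXA i j))
  exact (SetLike.ext_iff.1 h y)

theorem secPiece_point (G : LefPen.Form r k d) (j : Fin (r + 1))
    (z : Spec (CommRingCat.of (Γ(X, chartX i j) ⧸ Ideal.span {psi i j G.1}))) :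
    LefPen.secι i {G} (secPiece i G j z) =
      (isAffineOpen_chartX i j).fromSpec (Spec.map (CommRingCat.ofHom (Ideal.Quotient.mk (Ideal.span {psi i j G.1}))) z) := by
  rw [← Scheme.Hom.comp_apply, secPiece_ι, Scheme.Hom.comp_apply]

theorem exists_secPiece (G : LefPen.Form r k d) (y : LefPen.Sec i {G}) :
    ∃ j z, secPiece i G j z = y := by
  obtain ⟨j, hj⟩ := Opens.mem_iSup.1 ((iSup_chartX i).symm ▸ Opens.mem_top (LefPen.secι i {G} y))
  exact ⟨j, (mem_range_secPiece i G j y).2 hj⟩

/-- the point of a section at a rational point of a chart -/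
def secPoint (G : LefPen.Form r k d) (j : Fin (r + 1)) (ev : Γ(X, chartX i j) →ₐ[k] k) (hev : ev (psi i j G.1) = 0) :
    LefPen.Sec i {G} :=
  secPiece i G j ⟨RingHom.ker (evCut _ ev hev), (isMaximal_ker_evCut _ ev hev).isPrime⟩

theorem secPoint_mem (G : LefPen.Form r k d) (j l : Fin (r + 1)) (ev : Γ(X, chartX i j) →ₐ[k] k)
    (hev : ev (psi i j G.1) = 0) :
    LefPen.secι i {G} (secPoint i G j ev hev) ∈ chartX i l ↔ pt (psi i j) ev l ≠ 0 := by
  rw [secPoint, secPiece_point, fromSpec_mem_chartX]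
  rfl

/-- ordinariness at a rational point of a chart, in coordinates -/
def OrdAt (j : Fin (r + 1)) (ev : Γ(X, chartX i j) →ₐ[k] k) (G : LefPen.Form r k d) : Prop :=
  ∀ P : MvPolynomial (Fin (r + 1)) k, psi i j P = psi i j G.1 → MvPolynomial.eval (pt (psi i j) ev) P = 0 →
    (∀ l, MvPolynomial.eval (pt (psi i j) ev) (MvPolynomial.pderiv l P) = 0) →
      OrdCrit (tanSpace (psi i j) ev) (pt (psi i j) ev) P

theorem exists_adapted (j : Fin (r + 1)) (ev : Γ(X, chartX i j) →ₐ[k] k) (G : LefPen.Form r k d)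
    (h : psi i j G.1 ∈ RingHom.ker ev ^ 2) :
    ∃ P : MvPolynomial (Fin (r + 1)) k, psi i j P = psi i j G.1 ∧ MvPolynomial.eval (pt (psi i j) ev) P = 0 ∧
      ∀ l, MvPolynomial.eval (pt (psi i j) ev) (MvPolynomial.pderiv l P) = 0 := by
  classical
  rw [← map_pointIdeal ev (psi_surjective i j), ← Ideal.map_pow] at h
  obtain ⟨P, hP, hPG⟩ := (Ideal.mem_map_iff_of_surjective _ (psi_surjective i j)).1 h
  refine ⟨P, hPG, RingHom.mem_ker.1 (Ideal.pow_le_self two_ne_zero hP), fun l => ?_⟩
  have := LinearMap.congr_fun (dAt_eq_zero_of_mem_sq (psi i j) ev hP) (Pi.single l 1)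
  simpa [dAt_apply, Pi.single_apply] using this

/-- The only singular point of the section is an ordinary one. -/
def GoodOne (G : LefPen.Form r k d) : Prop :=
  ∃ (j : Fin (r + 1)) (ev : Γ(X, chartX i j) →ₐ[k] k), psi i j G.1 ∈ RingHom.ker ev ^ 2 ∧ OrdAt i j ev G ∧
    ∀ v : Fin (r + 1) → k, v ≠ 0 → BadAt i v G → ∃ c : k, v = c • pt (psi i j) ev

variable [IrreducibleSpace X] [SmoothOfRelativeDimension n (i ≫ CohB1.ProjSpace.toSpec r k)] [IsAlgClosed k]

include n in
theorem exists_fpt_chart (j : Fin (r + 1)) (ev : Γ(X, chartX i j) →ₐ[k] k) :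
    Nonempty (FPt ev n) ∧ ∃ F : Γ(X, chartX i j), ev F ≠ 0 ∧
      Algebra.IsStandardSmoothOfRelativeDimension n k (Localization.Away F) := by
  haveI : (RingHom.ker ev).IsPrime := RingHom.ker_isPrime _
  obtain ⟨F, hF, hst⟩ := exists_standardSmooth (n := n) i j (RingHom.ker ev)
  haveI : Algebra.IsStandardSmooth k (Localization.Away F) :=
    Algebra.IsStandardSmoothOfRelativeDimension.isStandardSmooth n
  obtain ⟨m, ⟨P⟩⟩ := exists_fpt ev F hF
  have h1 := finrank_tanSpace_eq P (psi_surjective i j)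
  have h2 := finrank_tanSpace_of_chart n (psi_surjective i j) ev F hF
  exact ⟨⟨(h1.symm.trans h2) ▸ P⟩, F, hF, hst⟩

include n in
theorem smoothAt_secPoint_iff (G : LefPen.Form r k d) (j : Fin (r + 1)) (ev : Γ(X, chartX i j) →ₐ[k] k)
    (hev : ev (psi i j G.1) = 0) (hG : psi i j G.1 ≠ 0) :
    LefPen.SmoothAt (LefPen.secToSpec i {G}) (secPoint i G j ev hev) ↔ psi i j G.1 ∉ RingHom.ker ev ^ 2 := by
  haveI : Nontrivial Γ(X, chartX i j) := ev.toRingHom.domain_nontrivial
  haveI := isDomain_chartX (n := n) i j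
  obtain ⟨⟨P⟩, F, hF, hst⟩ := exists_fpt_chart (n := n) i j ev
  rw [secPoint, smoothAt_iff (LefPen.secToSpec i {G}) (secPiece i G j) (secPiece_toSpec i G j)]
  exact isSmoothAt_cut_iff _ ev hev P hG F hF

end

end Groth.Agent.LefPenLib
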