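import Groth.Agent.LefPenLib.Chart
import Groth.Agent.GrpSchLib.SmoothReduced
import Groth.Agent.BertiniAff.Basic
import Groth.Agent.LefGeo.Linear

/-!
# The coordinate rings of a smooth irreducible projective variety
-/

universe u

open CategoryTheory AlgebraicGeometry Opposite TopologicalSpace

namespace Groth.Agent.LefPenLib

noncomputable section

variable {r n : ℕ} {k : Type u} [Field k] {X : Scheme.{u}} (i : X ⟶ CohB1.ProjSpace r k) [IsClosedImmersion i]
  [IrreducibleSpace X] [SmoothOfRelativeDimension n (i ≫ CohB1.ProjSpace.toSpec r k)]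

include i n in
theorem isIntegral_X : IsIntegral X := by
  haveI : Smooth (i ≫ CohB1.ProjSpace.toSpec r k) := SmoothOfRelativeDimension.smooth n _
  haveI : AlgebraicGeometry.IsReduced X := GrpSchLib.isReduced_of_smooth_field (i ≫ CohB1.ProjSpace.toSpec r k)
  exact isIntegral_of_irreducibleSpace_of_isReduced X

include n in
theorem isDomain_chartX (j : Fin (r + 1)) [Nontrivial Γ(X, chartX i j)] : IsDomain Γ(X, chartX i j) := by
  haveI := isIntegral_X (n := n) i
  have h : Nonempty (chartX i j : X.Opens) := by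
    by_contra hne
    rw [not_nonempty_iff] at hne
    have hbot : chartX i j = ⊥ := le_bot_iff.1 fun x hx => (hne.false ⟨x, hx⟩).elim
    haveI : Subsingleton Γ(X, (⊥ : X.Opens)) := CommRingCat.subsingleton_of_isTerminal X.sheaf.isTerminalOfEmpty
    have : Subsingleton Γ(X, chartX i j) := hbot ▸ ‹Subsingleton Γ(X, (⊥ : X.Opens))›
    exact not_subsingleton Γ(X, chartX i j) this
  exact @IsIntegral.component_integral X _ _ h

theorem smooth_chartX (j : Fin (r + 1)) :
    SmoothOfRelativeDimension n (Spec.map (CommRingCat.ofHom (algebraMap k Γ(X, chartX i j)))) := by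
  rw [← chartX_fromSpec_toSpec]
  have := (inferInstance : SmoothOfRelativeDimension 0 (isAffineOpen_chartX i j).fromSpec)
  have h := (inferInstance : SmoothOfRelativeDimension (0 + n)
    ((isAffineOpen_chartX i j).fromSpec ≫ i ≫ CohB1.ProjSpace.toSpec r k))
  rwa [zero_add] at h

instance (j : Fin (r + 1)) : Algebra.FiniteType k Γ(X, chartX i j) :=
  Algebra.FiniteType.of_surjective (psi i j) (psi_surjective i j)

theorem exists_standardSmooth (j : Fin (r + 1)) (p : Ideal Γ(X, chartX i j)) [p.IsPrime] :
    ∃ F : Γ(X, chartX i j), F ∉ p ∧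
      Algebra.IsStandardSmoothOfRelativeDimension n k (Localization.Away F) := by
  have h := smooth_chartX (n := n) i j
  rw [HasRingHomProperty.Spec_iff (P := @SmoothOfRelativeDimension n), CommRingCat.hom_ofHom] at h
  obtain ⟨s, hs, H⟩ := h
  obtain ⟨t, hts, htp⟩ : ∃ t ∈ s, t ∉ p := by
    by_contra! hc
    exact ‹p.IsPrime›.ne_top (top_le_iff.1 (hs ▸ Ideal.span_le.2 hc))
  refine ⟨t, htp, ?_⟩
  rw [← RingHom.isStandardSmoothOfRelativeDimension_algebraMap,
    IsScalarTower.algebraMap_eq k Γ(X, chartX i j) (Localization.Away t)]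
  exact H t hts

theorem ringKrullDim_chartX (j : Fin (r + 1)) [Nontrivial Γ(X, chartX i j)] :
    ringKrullDim Γ(X, chartX i j) = n := by
  haveI := isDomain_chartX (n := n) i j
  haveI : IsNoetherianRing Γ(X, chartX i j) := Algebra.FiniteType.isNoetherianRing k _
  obtain ⟨m, hm, -⟩ := VarDim.exists_dim_eq_trdeg k Γ(X, chartX i j)
  obtain ⟨F, hF, hst⟩ := exists_standardSmooth (n := n) i j (⊥ : Ideal Γ(X, chartX i j))
  haveI : Nontrivial (Localization.Away F) := by
    have hF0 : F ≠ 0 := fun h => hF (by simp [h])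
    exact (IsLocalization.injective (M := Submonoid.powers F) (Localization.Away F)
      (powers_le_nonZeroDivisors_of_noZeroDivisors hF0)).nontrivial
  have h1 := SmoothDim.ringKrullDim_eq k (Localization.Away F) n
  rw [BertiniAff.ringKrullDim_away_eq k _ m (fun P hP => by
    rw [IsDomain.minimalPrimes_eq_singleton_bot, Set.mem_singleton_iff] at hP
    subst hP
    rw [← hm]
    exact ringKrullDim_eq_of_ringEquiv (RingEquiv.quotientBot _)) F] at h1
  rw [hm, h1]

theorem minimalPrimes_dim (j : Fin (r + 1)) [Nontrivial Γ(X, chartX i j)] :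
    ∀ P ∈ minimalPrimes Γ(X, chartX i j), ringKrullDim (Γ(X, chartX i j) ⧸ P) = n := by
  haveI := isDomain_chartX (n := n) i j
  intro P hP
  rw [IsDomain.minimalPrimes_eq_singleton_bot, Set.mem_singleton_iff] at hP
  subst hP
  rw [← ringKrullDim_chartX (n := n) i j]
  exact ringKrullDim_eq_of_ringEquiv (RingEquiv.quotientBot _)

end

end Groth.Agent.LefPenLib
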